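import Mathlib
import Cfsg.Prelude.Def_Sz

/-!
# Elements of a Suzuki group fixing a vector

An element of `Sz F e` fixing a nonzero vector of the natural module satisfies `g ^ 4 = 1`.
-/

set_option autoImplicit false

open scoped Matrix

namespace Cfsg.Agent.SuzukiFix

variable {F : Type*} [Field F]

/-- the dual index -/
def rv (i : Fin 4) : Fin 4 := ![3, 2, 1, 0] i

/-- the form matrix -/
def antiJ : Matrix (Fin 4) (Fin 4) F :=
  !![0, 0, 0, 1; 0, 0, 1, 0; 0, 1, 0, 0; 1, 0, 0, 0]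

theorem alt_eq (u v : Fin 4 → F) : Cfsg.Lie.altForm4 u v = u ⬝ᵥ (antiJ *ᵥ v) := by
  simp [Cfsg.Lie.altForm4, antiJ, Matrix.mulVec, dotProduct, Fin.sum_univ_four]

theorem antiJ_mul_self : (antiJ : Matrix (Fin 4) (Fin 4) F) * antiJ = 1 := by
  ext i j
  fin_cases i <;> fin_cases j <;> simp [antiJ, Matrix.mul_apply, Fin.sum_univ_four]

theorem antiJ_apply (i j : Fin 4) : (antiJ : Matrix (Fin 4) (Fin 4) F) i j =
    if j = rv i then 1 else 0 := by
  fin_cases i <;> fin_cases j <;> simp [antiJ, rv]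

/-- the symplectic adjoint -/
def adj (g : Matrix (Fin 4) (Fin 4) F) : Matrix (Fin 4) (Fin 4) F :=
  Matrix.of fun i j => g (rv j) (rv i)

theorem adj_eq (g : Matrix (Fin 4) (Fin 4) F) : adj g = antiJ * gᵀ * antiJ := by
  ext i j
  fin_cases i <;> fin_cases j <;>
    simp [adj, antiJ_apply, rv, Matrix.mul_apply, Fin.sum_univ_four]

theorem preserve_iff (g : Matrix (Fin 4) (Fin 4) F) :
    (∀ u v, Cfsg.Lie.altForm4 (g *ᵥ u) (g *ᵥ v) = Cfsg.Lie.altForm4 u v) ↔
      gᵀ * antiJ * g = antiJ := by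
  constructor
  · intro h
    ext i j
    have := h (Pi.single i 1) (Pi.single j 1)
    rw [alt_eq, alt_eq] at this
    simp [Matrix.mulVec_single, Matrix.mul_apply, dotProduct, Matrix.mulVec, Fin.sum_univ_four,
      Pi.single_apply, Finset.sum_ite_eq'] at this ⊢
    linear_combination this
  · intro h u v
    rw [alt_eq, alt_eq, ← Matrix.vecMul_transpose g u, ← Matrix.dotProduct_mulVec,
      Matrix.mulVec_mulVec, Matrix.mulVec_mulVec, h]

theorem adj_mul_self {g : Matrix (Fin 4) (Fin 4) F} (h : gᵀ * antiJ * g = antiJ) :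
    adj g * g = 1 := by
  rw [adj_eq, Matrix.mul_assoc antiJ, Matrix.mul_assoc antiJ, h, antiJ_mul_self]

theorem mul_adj_self {g : Matrix (Fin 4) (Fin 4) F} (h : gᵀ * antiJ * g = antiJ) :
    g * adj g = 1 :=
  mul_eq_one_comm.1 (adj_mul_self h)

variable [CharP F 2]

theorem star4_mul {g h : Matrix (Fin 4) (Fin 4) F} (hg : gᵀ * antiJ * g = antiJ)
    (hh : hᵀ * antiJ * h = antiJ) :
    Cfsg.Lie.star4 (g * h) = Cfsg.Lie.star4 g * Cfsg.Lie.star4 h := by
  have h2 : (2 : F) = 0 := CharTwo.two_eq_zero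
  have rg := mul_adj_self hg
  have ch := adj_mul_self hh
  have hpair : ∀ p, (Cfsg.Lie.pairOf p).1 ≠ rv (Cfsg.Lie.pairOf p).2 := by decide
  have hpair' : ∀ p, rv (Cfsg.Lie.pairOf p).1 ≠ (Cfsg.Lie.pairOf p).2 := by decide
  have hrv : ∀ i, rv (rv i) = i := by decide
  ext p r
  have eg := congrFun (congrFun rg (Cfsg.Lie.pairOf p).1) (rv (Cfsg.Lie.pairOf p).2)
  have eh := congrFun (congrFun ch (rv (Cfsg.Lie.pairOf r).1)) (Cfsg.Lie.pairOf r).2
  rw [Matrix.one_apply_ne (hpair p)] at eg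
  rw [Matrix.one_apply_ne (hpair' r)] at eh
  simp only [adj, Matrix.of_apply, Matrix.mul_apply, Fin.sum_univ_four, hrv] at eg eh
  simp only [rv, Matrix.cons_val_zero, Matrix.cons_val_one, Matrix.cons_val] at eg eh
  simp only [Cfsg.Lie.star4, Matrix.of_apply, Matrix.mul_apply, Fin.sum_univ_four]
  generalize (Cfsg.Lie.pairOf p).1 = k at eg ⊢
  generalize (Cfsg.Lie.pairOf p).2 = l at eg ⊢
  generalize (Cfsg.Lie.pairOf r).1 = i at eh ⊢
  generalize (Cfsg.Lie.pairOf r).2 = j at eh ⊢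
  simp only [Cfsg.Lie.pairOf, Matrix.cons_val_zero, Matrix.cons_val_one, Matrix.cons_val]
  linear_combination (g k 0 * g l 3 - g l 0 * g k 3) * eh +
    (h 1 i * h 2 j - h 2 i * h 1 j) * eg -
    ((g k 0 * g l 3 - g l 0 * g k 3) * (h 3 i * h 0 j + h 2 i * h 1 j) +
      (h 1 i * h 2 j - h 2 i * h 1 j) * (g l 0 * g k 3 + g l 1 * g k 2) +
      (g k 0 * g l 3 - g l 0 * g k 3) * (h 1 i * h 2 j - h 2 i * h 1 j)) * h2

theorem star4_eq_of_mem {e : ℕ} (k : ℕ) (he : e = 2 ^ k) {g : GL (Fin 4) F}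
    (hg : g ∈ Cfsg.Lie.Sz F e) :
    (g : Matrix (Fin 4) (Fin 4) F)ᵀ * antiJ * (g : Matrix (Fin 4) (Fin 4) F) = antiJ ∧
      Cfsg.Lie.star4 (g : Matrix (Fin 4) (Fin 4) F) =
        (g : Matrix (Fin 4) (Fin 4) F).map (fun x => x ^ e) := by
  subst he
  have hfr : (fun x : F => x ^ 2 ^ k) = ⇑(iterateFrobenius F 2 k) := by
    funext x; rw [iterateFrobenius_def]
  induction hg using Subgroup.closure_induction with
  | mem g hg =>
    refine ⟨(preserve_iff _).1 fun u v => ?_, hg.2⟩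
    exact hg.1 u v
  | one =>
    refine ⟨by rw [Units.val_one, Matrix.transpose_one, one_mul, mul_one], ?_⟩
    ext p r
    fin_cases p <;> fin_cases r <;>
      simp [Cfsg.Lie.star4, Cfsg.Lie.pairOf, Matrix.one_apply, zero_pow (pow_ne_zero k two_ne_zero)]
  | mul g h _ _ ihg ihh =>
    have hp : (↑(g * h) : Matrix (Fin 4) (Fin 4) F)ᵀ * antiJ *
        (↑(g * h) : Matrix (Fin 4) (Fin 4) F) = antiJ := by
      simp only [Units.val_mul, Matrix.transpose_mul]
      calc (↑h : Matrix (Fin 4) (Fin 4) F)ᵀ * (↑g : Matrix (Fin 4) (Fin 4) F)ᵀ * antiJ * (↑g * ↑h)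
          = (↑h : Matrix (Fin 4) (Fin 4) F)ᵀ * ((↑g : Matrix (Fin 4) (Fin 4) F)ᵀ * antiJ * ↑g) * ↑h := by
            simp only [Matrix.mul_assoc]
        _ = antiJ := by rw [ihg.1, ihh.1]
    refine ⟨hp, ?_⟩
    rw [Units.val_mul, star4_mul ihg.1 ihh.1, ihg.2, ihh.2, hfr, Matrix.map_mul]
  | inv g _ ih =>
    have hinv : (↑g⁻¹ : Matrix (Fin 4) (Fin 4) F) = adj (g : Matrix (Fin 4) (Fin 4) F) :=
      Units.inv_eq_of_mul_eq_one_right (mul_adj_self ih.1)
    have hp : (↑g⁻¹ : Matrix (Fin 4) (Fin 4) F)ᵀ * antiJ *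
        (↑g⁻¹ : Matrix (Fin 4) (Fin 4) F) = antiJ := by
      conv_lhs => rw [← ih.1]
      simp only [← Matrix.mul_assoc, ← Matrix.transpose_mul, Units.mul_inv, Matrix.transpose_one,
        one_mul]
      simp only [Matrix.mul_assoc, Units.mul_inv, mul_one]
    refine ⟨hp, ?_⟩
    have h1 : Cfsg.Lie.star4 (g : Matrix (Fin 4) (Fin 4) F) *
        Cfsg.Lie.star4 (↑g⁻¹ : Matrix (Fin 4) (Fin 4) F) = 1 := by
      rw [← star4_mul ih.1 hp, Units.mul_inv]
      ext p r
      fin_cases p <;> fin_cases r <;> simp [Cfsg.Lie.star4, Cfsg.Lie.pairOf, Matrix.one_apply]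
    have h2 : (g : Matrix (Fin 4) (Fin 4) F).map (fun x => x ^ 2 ^ k) *
        (↑g⁻¹ : Matrix (Fin 4) (Fin 4) F).map (fun x => x ^ 2 ^ k) = 1 := by
      rw [hfr, ← Matrix.map_mul, Units.mul_inv, Matrix.map_one _ (map_zero _) (map_one _)]
    rw [ih.2] at h1
    calc Cfsg.Lie.star4 (↑g⁻¹ : Matrix (Fin 4) (Fin 4) F)
        = ((↑g⁻¹ : Matrix (Fin 4) (Fin 4) F).map (fun x => x ^ 2 ^ k) *
            (g : Matrix (Fin 4) (Fin 4) F).map (fun x => x ^ 2 ^ k)) *
            Cfsg.Lie.star4 (↑g⁻¹ : Matrix (Fin 4) (Fin 4) F) := by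
          rw [mul_eq_one_comm.1 h2, one_mul]
      _ = _ := by rw [Matrix.mul_assoc, h1, mul_one]

set_option maxHeartbeats 1000000 in
theorem pow_four_of_fix {e : ℕ} (k : ℕ) (he : e = 2 ^ k) {g : GL (Fin 4) F}
    (hg : g ∈ Cfsg.Lie.Sz F e) {v : Fin 4 → F} (hv : v ≠ 0)
    (hfix : (g : Matrix (Fin 4) (Fin 4) F) *ᵥ v = v) : g ^ 4 = 1 := by
  obtain ⟨hp, hs⟩ := star4_eq_of_mem k he hg
  set M := (g : Matrix (Fin 4) (Fin 4) F) with hM
  set h := M + adj M with hh
  set t := M 0 0 + M 3 3 + (M 1 1 + M 2 2) with ht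
  set E := (Cfsg.Lie.star4 M).trace with hE
  have h2 : (2 : F) = 0 := CharTwo.two_eq_zero
  have hEt : E = t ^ e := by
    subst he
    rw [hE, hs, ht, Matrix.trace, Fin.sum_univ_four]
    simp only [Matrix.diag, Matrix.map_apply, add_pow_char_pow]
    ring
  have hrow := congrFun (congrFun (mul_adj_self hp) 0) 0
  have hcol := congrFun (congrFun (adj_mul_self hp) 0) 0
  simp [adj, rv, Matrix.mul_apply, Fin.sum_univ_four, ← hM] at hrow hcol
  have h4' : (4 : F) = 0 := by linear_combination 2 * h2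
  have h6' : (6 : F) = 0 := by linear_combination 3 * h2
  have hid : h * h + t • h + E • (1 : Matrix (Fin 4) (Fin 4) F) = 0 := by
    ext i j
    fin_cases i <;> fin_cases j <;>
      simp [hh, ht, hE, adj, rv, Matrix.mul_apply, Fin.sum_univ_four, Matrix.trace,
        Cfsg.Lie.star4, Cfsg.Lie.pairOf, Matrix.one_apply, CharTwo.sub_eq_add] <;>
      ring_nf <;> (try simp only [h2, mul_zero, add_zero, zero_add, zero_mul]) <;>
      first
        | (linear_combination (norm := (ring_nf; simp [h2, h4', h6']; done)) (0 : F))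
        | (linear_combination (norm := (ring_nf; simp [h2, h4', h6']; done)) hrow + hcol)
  have hadjv : adj M *ᵥ v = v := by
    conv_lhs => rw [← hfix]
    rw [Matrix.mulVec_mulVec, adj_mul_self hp, Matrix.one_mulVec]
  have hhv : h *ᵥ v = 0 := by
    rw [hh, Matrix.add_mulVec, hfix, hadjv]
    ext i; exact CharTwo.add_self_eq_zero _
  have hE0 : E = 0 := by
    have := congrArg (fun A : Matrix (Fin 4) (Fin 4) F => A *ᵥ v) hid
    simp only [Matrix.add_mulVec, ← Matrix.mulVec_mulVec, hhv, Matrix.mulVec_zero, zero_add,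
      Matrix.smul_mulVec, Matrix.one_mulVec, smul_zero, Matrix.zero_mulVec] at this
    exact (smul_eq_zero.1 this).resolve_right hv
  have ht0 : t = 0 := by
    rw [hE0] at hEt
    exact eq_zero_of_pow_eq_zero hEt.symm
  rw [hE0, ht0, zero_smul, zero_smul, add_zero, add_zero] at hid
  apply Units.ext
  rw [Units.val_pow_eq_pow_val, Units.val_one, ← hM]
  have hc : Commute M (adj M) := (mul_adj_self hp).trans (adj_mul_self hp).symm
  have h3 : M ^ 2 * (h * h) = M ^ 4 + 2 * M ^ 2 + 1 := by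
    have e1 : M * (adj M) = 1 := mul_adj_self hp
    have e2 : M * h = M ^ 2 + 1 := by rw [hh, mul_add, e1, pow_two]
    calc M ^ 2 * (h * h) = (M * h) * (M * h) := by
          rw [pow_two]
          have : Commute M h := (Commute.refl M).add_right hc
          exact this.mul_mul_mul_comm M h
      _ = _ := by rw [e2]; noncomm_ring
  rw [hid, mul_zero] at h3
  have h4 : (2 : Matrix (Fin 4) (Fin 4) F) = 0 := by
    ext i j
    rw [show (2 : Matrix (Fin 4) (Fin 4) F) = 1 + 1 by norm_num]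
    by_cases hij : i = j <;> simp [Matrix.one_apply, hij, CharTwo.add_self_eq_zero]
  rw [h4, zero_mul, add_zero] at h3
  have : M ^ 4 + 1 = M ^ 4 + M ^ 4 := by
    rw [← h3]; ext i j; simp [CharTwo.add_self_eq_zero]
  exact (add_left_cancel this).symm

theorem antiJ_mem (e : ℕ) (he : e ≠ 0) :
    (⟨antiJ, antiJ, antiJ_mul_self, antiJ_mul_self⟩ : GL (Fin 4) F) ∈ Cfsg.Lie.Sz F e := by
  refine Subgroup.subset_closure ⟨?_, ?_⟩
  · intro u v
    simp [Cfsg.Lie.altForm4, antiJ, Matrix.mulVec, dotProduct, Fin.sum_univ_four]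
    ring
  · ext p r
    fin_cases p <;> fin_cases r <;>
      simp [Cfsg.Lie.star4, Cfsg.Lie.pairOf, antiJ, zero_pow he, CharTwo.sub_eq_add]

end Cfsg.Agent.SuzukiFix
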