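/-
An endomorphism of a Chevalley group permuting the root subgroups, and its effect on U, H, N, B.
-/
import Cfsg.Agent.Lib.Chev.FieldFix

set_option autoImplicit false

namespace Cfsg.Lib.Tw

open Cfsg.Lie Cfsg.Lib.Chev

variable {D : ChevalleyDatum} {A : Aux}

/-- a twisting endomorphism: a symmetry of the diagram combined with field automorphisms -/
structure Sigma (hc : Cert D A) (K : Type*) [Field K] where
  /-- the endomorphism -/
  hom : ↥(D.group K) →* ↥(D.group K)
  /-- the symmetry on the nodes -/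
  node : Equiv.Perm (Fin D.rank)
  /-- the symmetry on the roots -/
  root : Equiv.Perm (Fin D.nroots)
  /-- the field automorphisms on the fundamental root subgroups -/
  phi : Fin D.rank → (K ≃+* K)
  root_simple : ∀ i, root (sR hc i) = sR hc (node i)
  root_neg : ∀ s, root (nR s) = nR (root s)
  root_pos : ∀ s, A.pos (root s) = A.pos s
  root_sig : ∀ i, root * sig hc i = sig hc (node i) * root
  hom_pos : ∀ (i : Fin D.rank) (t : K),
    (hom ⟨xg D K (D.simple i) t, xg_mem_group hc (simple_lt hc i.2) t⟩ : GL D.Idx K) =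
      xg D K (D.simple (node i)) (phi i t)
  hom_neg : ∀ (i : Fin D.rank) (t : K),
    (hom ⟨xg D K (negI D (D.simple i)) t, xg_mem_group hc (negI_lt (simple_lt hc i.2)) t⟩ : GL D.Idx K) =
      xg D K (negI D (D.simple (node i))) (phi i t)

variable {hc : Cert D A} {K : Type*} [Field K] (S : Sigma hc K)

open scoped Classical in
/-- the endomorphism on the general linear group, trivial outside the group -/
noncomputable def Sigma.app (g : GL D.Idx K) : GL D.Idx K :=
  if h : g ∈ D.group K then (S.hom ⟨g, h⟩ : GL D.Idx K) else 1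

theorem Sigma.app_eq {g : GL D.Idx K} (h : g ∈ D.group K) : S.app g = (S.hom ⟨g, h⟩ : GL D.Idx K) := by
  classical
  rw [Sigma.app, dif_pos h]

theorem Sigma.app_mem {g : GL D.Idx K} (h : g ∈ D.group K) : S.app g ∈ D.group K := by
  rw [S.app_eq h]; exact (S.hom _).2

theorem Sigma.app_mul {g g' : GL D.Idx K} (h : g ∈ D.group K) (h' : g' ∈ D.group K) :
    S.app (g * g') = S.app g * S.app g' := by
  rw [S.app_eq h, S.app_eq h', S.app_eq ((D.group K).mul_mem h h'), ← Subgroup.coe_mul, ← map_mul]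
  rfl

theorem Sigma.app_one : S.app (1 : GL D.Idx K) = 1 := by
  rw [S.app_eq (D.group K).one_mem]
  exact congrArg Subtype.val S.hom.map_one

theorem Sigma.app_inv {g : GL D.Idx K} (h : g ∈ D.group K) : S.app g⁻¹ = (S.app g)⁻¹ := by
  rw [S.app_eq h, S.app_eq ((D.group K).inv_mem h), ← Subgroup.coe_inv, ← map_inv]
  rfl

theorem Sigma.app_simple (i : Fin D.rank) (t : K) :
    S.app (xg D K (D.simple i) t) = xg D K (D.simple (S.node i)) (S.phi i t) := by
  rw [S.app_eq (xg_mem_group hc (simple_lt hc i.2) t)]; exact S.hom_pos i t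

theorem Sigma.app_neg_simple (i : Fin D.rank) (t : K) :
    S.app (xg D K (negI D (D.simple i)) t) = xg D K (negI D (D.simple (S.node i))) (S.phi i t) := by
  rw [S.app_eq (xg_mem_group hc (negI_lt (simple_lt hc i.2)) t)]; exact S.hom_neg i t

theorem Sigma.app_ngen (i : Fin D.rank) (t : K) :
    S.app (ngen D K (D.simple i) t) = ngen D K (D.simple (S.node i)) (S.phi i t) := by
  have hp := simple_lt hc i.2
  unfold ngen
  rw [S.app_mul (xg_mem_group hc hp _) ((D.group K).mul_mem (xg_mem_group hc (negI_lt hp) _) (xg_mem_group hc hp _)),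
    S.app_mul (xg_mem_group hc (negI_lt hp) _) (xg_mem_group hc hp _), S.app_simple, S.app_neg_simple, map_neg,
    map_inv₀]

theorem Sigma.app_ng (i : Fin D.rank) : S.app (ng D K i) = ng D K (S.node i) := by
  rw [ng, ng, S.app_ngen, map_one]

theorem Sigma.app_wg : ∀ L : List (Fin D.rank), S.app (wg D K L) = wg D K (L.map S.node)
  | [] => by rw [List.map_nil, wg_nil, S.app_one]
  | i :: L => by
    rw [List.map_cons, wg_cons, wg_cons, S.app_mul (N_le_group hc (ng_mem_N hc i)) (N_le_group hc (wg_mem_N hc L)),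
      S.app_ng, Sigma.app_wg L]

theorem Sigma.wp_map : ∀ L : List (Fin D.rank), wp hc (L.map S.node) = S.root * wp hc L * S.root⁻¹
  | [] => by simp
  | i :: L => by
    rw [List.map_cons, wp_cons, wp_cons, Sigma.wp_map L, ← mul_assoc S.root, S.root_sig]
    simp only [mul_assoc]

/-- the twist of a Weyl group element -/
def Sigma.tw (π : Equiv.Perm (Fin D.nroots)) : Equiv.Perm (Fin D.nroots) := S.root * π * S.root⁻¹

theorem Sigma.tw_apply (π : Equiv.Perm (Fin D.nroots)) (s : Fin D.nroots) :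
    S.tw π (S.root s) = S.root (π s) := by
  simp [Sigma.tw]

theorem Sigma.app_hg (i : Fin D.rank) (t : Kˣ) :
    S.app (hg D A i t) = hg D A (S.node i) (Units.map (S.phi i).toRingHom.toMonoidHom t) := by
  have e : ∀ (j : Fin D.rank) (u : Kˣ), hg D A j u = ngen D K (D.simple j) (u : K) * (ng D K j)⁻¹ := fun j u => by
    rw [ngen_simple_eq hc j.2 u, mul_inv_cancel_right]
  rw [e, e, S.app_mul (ngen_mem_group hc (simple_lt hc i.2) _) ((D.group K).inv_mem (N_le_group hc (ng_mem_N hc i))),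
    S.app_inv (N_le_group hc (ng_mem_N hc i)), S.app_ngen, S.app_ng]
  rfl

/-- the twist on torus coordinates -/
noncomputable def Sigma.twT (c : Fin D.rank → Kˣ) : Fin D.rank → Kˣ :=
  fun j => Units.map (S.phi (S.node⁻¹ j)).toRingHom.toMonoidHom (c (S.node⁻¹ j))

theorem Sigma.twT_apply (c : Fin D.rank → Kˣ) (i : Fin D.rank) :
    ((S.twT c (S.node i) : Kˣ) : K) = S.phi i (c i : K) := by
  have e : S.node⁻¹ (S.node i) = i := by simp
  simp only [Sigma.twT]
  rw [e]
  rfl

theorem torusFin_single (i : Fin D.rank) (t : Kˣ) :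
    torusFin D A K (Pi.mulSingle i t) = hg D A i t := by
  refine dg_eq_iff.2 fun s _ => ?_
  rw [torusVal, Finset.prod_range, Finset.prod_eq_single i]
  · simp
  · intro j _ hj; simp [hj]
  · intro hh; exact absurd (Finset.mem_univ _) hh

theorem Sigma.app_torusFin (c : Fin D.rank → Kˣ) :
    S.app (torusFin D A K c) = torusFin D A K (S.twT c) := by
  classical
  have hmem : ∀ c, torusFin D A K c ∈ D.group K := fun c => H_le_group hc (by
    rw [← range_torusFin hc]; exact ⟨c, rfl⟩)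
  let f : (Fin D.rank → Kˣ) →* GL D.Idx K :=
    { toFun := fun c => S.app (torusFin D A K c)
      map_one' := by rw [map_one, S.app_one]
      map_mul' := fun a b => by rw [map_mul, S.app_mul (hmem a) (hmem b)] }
  let g : (Fin D.rank → Kˣ) →* GL D.Idx K :=
    (torusFin D A K).comp
      { toFun := S.twT
        map_one' := by funext j; simp [Sigma.twT]
        map_mul' := fun a b => by funext j; simp [Sigma.twT] }
  have key : ∀ i t, f (Pi.mulSingle i t) = g (Pi.mulSingle i t) := by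
    intro i t
    show S.app (torusFin D A K _) = torusFin D A K (S.twT _)
    rw [torusFin_single, S.app_hg, ← torusFin_single]
    congr 1
    funext j
    by_cases hj : j = S.node i
    · subst hj; simp [Sigma.twT]
    · have : S.node⁻¹ j ≠ i := fun e => hj (by rw [← e]; simp)
      simp only [Sigma.twT, Pi.mulSingle_eq_of_ne hj, Pi.mulSingle_eq_of_ne this, map_one]
  show f c = g c
  have hdec : c = ∏ i : Fin D.rank, Pi.mulSingle i (c i) := by
    funext j; simp [Finset.prod_apply, Pi.mulSingle_apply]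
  have hcomm : c ∈ MonoidHom.eqLocus f g := by
    rw [hdec]
    exact Subgroup.prod_mem _ fun i _ => key i (c i)
  exact hcomm

theorem Sigma.app_H {h : GL D.Idx K} (hh : h ∈ D.diagonalSubgroup K) : S.app h ∈ D.diagonalSubgroup K := by
  rw [← range_torusFin hc] at hh ⊢
  obtain ⟨c, rfl⟩ := hh
  exact ⟨_, (S.app_torusFin c).symm⟩

theorem Sigma.app_xg (r : Fin D.nroots) (t : K) : ∃ u : K, S.app (xg D K r t) = xg D K (S.root r) u := by
  obtain ⟨L, i, hL⟩ := exists_word_to hc r
  obtain ⟨-, c, -, hcx⟩ := acts_wg (F := K) hc L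
  have h1 := hcx (sR hc i) (((c (sR hc i))⁻¹ : Kˣ) * t)
  rw [hL, ← mul_assoc, ← Units.val_mul, mul_inv_cancel, Units.val_one, one_mul] at h1
  set u : K := ((c (sR hc i))⁻¹ : Kˣ) * t
  have hn := N_le_group (F := K) hc (wg_mem_N hc L)
  have hx : xg D K ((sR hc i : Fin D.nroots) : ℕ) u ∈ D.group K := xg_mem_group hc (sR hc i).2 u
  obtain ⟨-, c', -, hcx'⟩ := acts_wg (F := K) hc (L.map S.node)
  refine ⟨(c' (sR hc (S.node i)) : K) * S.phi i u, ?_⟩
  rw [← h1, S.app_mul ((D.group K).mul_mem hn hx) ((D.group K).inv_mem hn), S.app_mul hn hx, S.app_inv hn,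
    S.app_wg]
  show wg D K (L.map S.node) * S.app (xg D K (D.simple i) u) * _ = _
  rw [S.app_simple]
  show wg D K (L.map S.node) * xg D K ((sR hc (S.node i) : Fin D.nroots) : ℕ) _ * _ = _
  rw [hcx' (sR hc (S.node i))]
  congr 2
  rw [← S.root_simple, S.wp_map, ← hL]
  exact S.tw_apply _ _

theorem Sigma.app_UG {P Q : ℕ → Prop} (hPQ : ∀ s : Fin D.nroots, P s → Q (S.root s)) {g : GL D.Idx K}
    (hg : g ∈ UG D K P 0) : S.app g ∈ UG D K Q 0 := by
  have hle : UG D K P 0 ≤ D.group K := (Subgroup.closure_le _).2 (by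
    rintro x ⟨r, t, hr, -, -, rfl⟩; exact xg_mem_group hc hr t)
  induction hg using Subgroup.closure_induction with
  | mem x hx =>
    obtain ⟨r, t, hr, hP, -, rfl⟩ := hx
    obtain ⟨u, hu⟩ := S.app_xg ⟨r, hr⟩ t
    rw [hu]
    exact xg_mem_UG (S.root ⟨r, hr⟩).2 (hPQ _ hP) (Nat.zero_le _) u
  | one => rw [S.app_one]; exact one_mem _
  | mul x y hx hy ihx ihy =>
    rw [S.app_mul (hle hx) (hle hy)]
    exact (UG D K Q 0).mul_mem ihx ihy
  | inv x hx ih =>
    rw [S.app_inv (hle hx)]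
    exact (UG D K Q 0).inv_mem ih

theorem Sigma.app_U {u : GL D.Idx K} (hu : u ∈ D.posUnipotent K) : S.app u ∈ D.posUnipotent K := by
  rw [posUnipotent_eq hc] at hu ⊢
  exact S.app_UG (fun s h => (S.root_pos s).trans h) hu

theorem Sigma.app_Uw {π : Equiv.Perm (Fin D.nroots)} {u : GL D.Idx K} (hu : u ∈ Uw D A K π) :
    S.app u ∈ Uw D A K (S.tw π) := by
  refine S.app_UG (P := negSet D A π) (Q := negSet D A (S.tw π)) ?_ hu
  rintro s ⟨h, h1, h2⟩
  exact ⟨(S.root s).2, (S.root_pos s).trans h1, by rw [show (⟨((S.root s : Fin D.nroots) : ℕ), (S.root s).2⟩ : Fin D.nroots) = S.root s from rfl, S.tw_apply, S.root_pos]; exact h2⟩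

theorem Sigma.app_B {b : GL D.Idx K} (hb : b ∈ D.borelSubgroup K) : S.app b ∈ D.borelSubgroup K := by
  obtain ⟨v, hv, h, hh, rfl⟩ := (mem_B_iff hc).1 hb
  rw [S.app_mul (U_le_group hc hv) (H_le_group hc hh)]
  exact (D.borelSubgroup K).mul_mem (U_le_B (S.app_U hv)) (H_le_B (S.app_H hh))

theorem Sigma.acts_app {n : GL D.Idx K} {π : Equiv.Perm (Fin D.nroots)} (hn : n ∈ D.monomialSubgroup K)
    (hact : Acts D A n π) : S.app n ∈ D.monomialSubgroup K ∧ Acts D A (S.app n) (S.tw π) := by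
  obtain ⟨L, h, hh, rfl⟩ := (mem_N_iff hc).1 hn
  have hπ : π = wp hc L := hact.unique hc (acts_hwg hc hh L)
  rw [S.app_mul (H_le_group hc hh) (N_le_group hc (wg_mem_N hc L)), S.app_wg]
  refine ⟨(D.monomialSubgroup K).mul_mem (H_le_N (S.app_H hh)) (wg_mem_N hc _), ?_⟩
  rw [Sigma.tw, hπ, ← S.wp_map]
  exact acts_hwg hc (S.app_H hh) _

/-- the fixed subgroup -/
def Sigma.fix : Subgroup (GL D.Idx K) where
  carrier := {g | g ∈ D.group K ∧ S.app g = g}
  one_mem' := ⟨(D.group K).one_mem, S.app_one⟩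
  mul_mem' := fun {a b} ha hb => ⟨(D.group K).mul_mem ha.1 hb.1, by rw [S.app_mul ha.1 hb.1, ha.2, hb.2]⟩
  inv_mem' := fun {a} ha => ⟨(D.group K).inv_mem ha.1, by rw [S.app_inv ha.1, ha.2]⟩

theorem Sigma.mem_fix {g : GL D.Idx K} : g ∈ S.fix ↔ g ∈ D.group K ∧ S.app g = g := Iff.rfl

theorem Sigma.fix_le : S.fix ≤ D.group K := fun _ h => h.1

/-- the twisted Weyl group -/
def Sigma.W1 : Subgroup (Equiv.Perm (Fin D.nroots)) where
  carrier := {π | π ∈ Wgrp hc ∧ S.tw π = π}
  one_mem' := ⟨(Wgrp hc).one_mem, by simp [Sigma.tw]⟩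
  mul_mem' := fun {a b} ha hb => ⟨(Wgrp hc).mul_mem ha.1 hb.1, by
    have e : S.tw (a * b) = S.tw a * S.tw b := by simp [Sigma.tw, mul_assoc]
    rw [e, ha.2, hb.2]⟩
  inv_mem' := fun {a} ha => ⟨(Wgrp hc).inv_mem ha.1, by
    have e : S.tw a⁻¹ = (S.tw a)⁻¹ := by simp [Sigma.tw, mul_assoc]
    rw [e, ha.2]⟩

theorem Sigma.mem_W1 {π : Equiv.Perm (Fin D.nroots)} : π ∈ S.W1 ↔ π ∈ Wgrp hc ∧ S.tw π = π := Iff.rfl

theorem Sigma.mem_W1_of_fixed {n : GL D.Idx K} {π : Equiv.Perm (Fin D.nroots)}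
    (hn : n ∈ D.monomialSubgroup K) (hf : S.app n = n) (hact : Acts D A n π) : π ∈ S.W1 := by
  refine ⟨?_, ?_⟩
  · obtain ⟨L, h, hh, rfl⟩ := (mem_N_iff hc).1 hn
    exact (mem_Wgrp hc).2 ⟨L, (hact.unique hc (acts_hwg hc hh L)).symm⟩
  · have h1 := (S.acts_app hn hact).2
    rw [hf] at h1
    exact h1.unique hc hact

/-- normal form of a fixed element: the Weyl element is in the twisted Weyl group -/
theorem Sigma.fixed_form {g : GL D.Idx K} (hg : g ∈ S.fix) :
    ∃ b ∈ D.borelSubgroup K, ∃ n ∈ D.monomialSubgroup K, ∃ π ∈ S.W1, Acts D A n π ∧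
      ∃ u ∈ Uw D A K π, g = b * n * u := by
  obtain ⟨hgG, hfix⟩ := S.mem_fix.1 hg
  obtain ⟨b, hb, n, hn, π, hact, u, hu, rfl⟩ := exists_normal_form hc hgG
  obtain ⟨hn', hact'⟩ := S.acts_app hn hact
  have hbn := (D.group K).mul_mem (B_le_group hc hb) (N_le_group hc hn)
  rw [S.app_mul hbn (U_le_group hc (Uw_le_U hc hu)), S.app_mul (B_le_group hc hb) (N_le_group hc hn)] at hfix
  have hH := inv_mul_mem_H hc (S.app_B hb) (U_le_B (S.app_U (Uw_le_U hc hu))) hb (U_le_B (Uw_le_U hc hu))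
    hn' hn hfix
  have hπ : π = S.tw π := by
    have := hact'.mul (acts_H hc hH)
    rw [mul_inv_cancel_left, mul_one] at this
    exact hact.unique hc this
  have hπW : π ∈ Wgrp hc := by
    obtain ⟨L, h, hh, rfl⟩ := (mem_N_iff hc).1 hn
    exact (mem_Wgrp hc).2 ⟨L, (hact.unique hc (acts_hwg hc hh L)).symm⟩
  exact ⟨b, hb, n, hn, π, ⟨hπW, hπ.symm⟩, hact, u, hu, rfl⟩

end Cfsg.Lib.Tw
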