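/-
Orbits of the symmetry on the nodes and the twisted Weyl group.
-/
import Cfsg.Agent.Lib.Tw.Base

set_option autoImplicit false

namespace Cfsg.Lib.Tw

open Cfsg.Lie Cfsg.Lib.Chev

variable {D : ChevalleyDatum} {A : Aux} {hc : Cert D A} {K : Type*} [Field K]

/-- the orbits on the nodes with the longest element of each -/
structure Orbits (S : Sigma hc K) where
  /-- the number of orbits -/
  no : ℕ
  /-- the nodes of an orbit -/
  nd : Fin no → List (Fin D.rank)
  /-- a word for the longest element of an orbit -/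
  wJ : Fin no → List (Fin D.rank)
  cover : ∀ i, ∃ J, i ∈ nd J
  trans : ∀ J, ∀ i ∈ nd J, ∀ j ∈ nd J, ∃ k : ℕ, (S.node ^ k : Equiv.Perm (Fin D.rank)) i = j
  comm : ∀ J, S.tw (wp hc (wJ J)) = wp hc (wJ J)
  neg : ∀ J, ∀ i ∈ nd J, A.pos (wp hc (wJ J) (sR hc i)) = false
  supp : ∀ J, ∀ s : Fin D.nroots, A.pos s = true → A.pos (wp hc (wJ J) s) = false →
    ∀ m : Fin D.rank, m ∉ nd J → A.co m s = 0
  letters : ∀ J, ∀ i ∈ wJ J, i ∈ nd J
  smallW : ∀ J, ∀ π ∈ Subgroup.closure (sig hc '' {i | i ∈ nd J}), S.tw π = π → π = 1 ∨ π = wp hc (wJ J)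

variable {S : Sigma hc K} (O : Orbits S)

/-- the generator of an orbit -/
def Orbits.piJ (J : Fin O.no) : Equiv.Perm (Fin D.nroots) := wp hc (O.wJ J)

theorem Orbits.piJ_mem_Wgrp (J : Fin O.no) : O.piJ J ∈ Wgrp hc := (mem_Wgrp hc).2 ⟨O.wJ J, rfl⟩

theorem Orbits.piJ_mem (J : Fin O.no) : O.piJ J ∈ S.W1 := S.mem_W1.2 ⟨O.piJ_mem_Wgrp J, O.comm J⟩

theorem isRootAut_inv {π : Equiv.Perm (Fin D.nroots)} (h : π ∈ Wgrp hc) : IsRootAut D A π⁻¹ :=
  isRootAut_of_mem hc ((Wgrp hc).inv_mem h)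

theorem exists_neg_simple {π : Equiv.Perm (Fin D.nroots)} (hπ : π ∈ Wgrp hc) (h1 : π ≠ 1) :
    ∃ i : Fin D.rank, A.pos (π (sR hc i)) = false := by
  obtain ⟨L, rfl⟩ := (mem_Wgrp hc).1 hπ
  obtain ⟨L', hL', hlen⟩ := exists_len_word hc L
  rcases List.eq_nil_or_concat L' with rfl | ⟨L'', i, rfl⟩
  · exact absurd (by rw [← hL', wp_nil]) h1
  refine ⟨i, ?_⟩
  rw [List.concat_eq_append, wp_append, wp_cons, wp_nil, mul_one] at hL'
  simp only [List.concat_eq_append, List.length_append, List.length_cons, List.length_nil, zero_add] at hlen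
  have hb := len_wp_le' hc L''
  cases hp : A.pos (wp hc L (sR hc i)) with
  | false => rfl
  | true =>
    exfalso
    have := len_mul_sig hc (isRootAut_wp hc L) i hp
    rw [← hL'] at this hlen
    rw [mul_assoc, sig_sig, mul_one] at this
    omega

theorem pow_node_pos {π : Equiv.Perm (Fin D.nroots)} (hπ : S.tw π = π) {i : Fin D.rank} :
    ∀ k : ℕ, A.pos (π (sR hc ((S.node ^ k : Equiv.Perm (Fin D.rank)) i))) = A.pos (π (sR hc i)) := by
  intro k
  induction k with
  | zero => simp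
  | succ k ih =>
    rw [pow_succ', Equiv.Perm.mul_apply, ← S.root_simple, ← ih]
    conv_lhs => rw [← hπ, S.tw_apply, S.root_pos]

theorem Orbits.exists_neg_orbit {π : Equiv.Perm (Fin D.nroots)} (hπ : π ∈ S.W1) (h1 : π ≠ 1) :
    ∃ J, ∀ j ∈ O.nd J, A.pos (π (sR hc j)) = false := by
  obtain ⟨i, hi⟩ := exists_neg_simple (S.mem_W1.1 hπ).1 h1
  obtain ⟨J, hJ⟩ := O.cover i
  refine ⟨J, fun j hj => ?_⟩
  obtain ⟨k, rfl⟩ := O.trans J i hJ j hj
  rw [pow_node_pos (S.mem_W1.1 hπ).2 k, hi]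

theorem Orbits.negSet_piJ_subset {π : Equiv.Perm (Fin D.nroots)} (hπ : π ∈ Wgrp hc) {J : Fin O.no}
    (hJ : ∀ j ∈ O.nd J, A.pos (π (sR hc j)) = false) (s : Fin D.nroots) (hs : A.pos s = true)
    (hs' : A.pos (O.piJ J s) = false) : A.pos (π s) = false := by
  obtain ⟨M, hM⟩ := (isRootAut_of_mem hc hπ).linear
  cases hp : A.pos (π s) with
  | false => rfl
  | true =>
    exfalso
    obtain ⟨j, hj, hne⟩ := exists_cc_ne_zero hc (π s).2
    refine hne ((cc_eq_zero_iff hc hj (π s).2).2 (le_antisymm ?_ (co_nonneg hc hj (π s).2 hp).1))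
    rw [hM s j hj]
    refine Finset.sum_nonpos fun m hm => ?_
    rw [Finset.mem_range] at hm
    by_cases hmJ : (⟨m, hm⟩ : Fin D.rank) ∈ O.nd J
    · refine mul_nonpos_of_nonpos_of_nonneg ?_ (co_nonneg hc hm s.2 hs).1
      have e := hM (sR hc ⟨m, hm⟩) j hj
      rw [Finset.sum_eq_single m] at e
      · simp only [sR, co_simple hc hm hm, if_true, mul_one] at e
        rw [← e]
        exact (co_nonpos hc hj (π _).2 (hJ _ hmJ)).1
      · intro b hb hne; simp only [sR]; rw [co_simple hc hm (Finset.mem_range.1 hb), if_neg hne, mul_zero]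
      · intro h; exact absurd (Finset.mem_range.2 hm) h
    · rw [O.supp J s hs hs' ⟨m, hm⟩ hmJ, mul_zero]

theorem Orbits.len_split {π : Equiv.Perm (Fin D.nroots)} (hπ : π ∈ Wgrp hc) {J : Fin O.no}
    (hJ : ∀ j ∈ O.nd J, A.pos (π (sR hc j)) = false) :
    len D A π = len D A (π * (O.piJ J)⁻¹) + len D A (O.piJ J) := by
  classical
  set p := O.piJ J with hp
  have hpneg : ∀ s, p (nR s) = nR (p s) := (isRootAut_wp hc _).neg
  have e : (Finset.univ.filter fun s : Fin D.nroots => A.pos s = true ∧ A.pos (π s) = false) =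
      (Finset.univ.filter fun s : Fin D.nroots => A.pos s = true ∧ A.pos (p s) = false) ∪
        (Finset.univ.filter fun s : Fin D.nroots => A.pos s = true ∧ A.pos ((π * p⁻¹) s) = false).image
          (p⁻¹ ·) := by
    ext s
    simp only [Finset.mem_filter, Finset.mem_univ, true_and, Finset.mem_union, Finset.mem_image]
    constructor
    · rintro ⟨h1, h2⟩
      cases hps : A.pos (p s) with
      | false => exact Or.inl ⟨h1, rfl⟩
      | true => exact Or.inr ⟨p s, ⟨hps, by simpa using h2⟩, by simp⟩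
    · rintro (⟨h1, h2⟩ | ⟨t, ⟨h1, h2⟩, rfl⟩)
      · exact ⟨h1, O.negSet_piJ_subset hπ hJ s h1 h2⟩
      · refine ⟨?_, by simpa using h2⟩
        cases hq : A.pos (p⁻¹ t) with
        | true => rfl
        | false =>
          exfalso
          have h3 : A.pos (nR (p⁻¹ t)) = true := by rw [pos_nR _ hc, hq]; rfl
          have h4 : A.pos (p (nR (p⁻¹ t))) = false := by
            rw [hpneg, pos_nR _ hc]; simp [h1]
          have h5 := O.negSet_piJ_subset hπ hJ _ h3 h4
          rw [(isRootAut_of_mem hc hπ).neg, pos_nR _ hc] at h5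
          rw [Equiv.Perm.mul_apply] at h2
          rw [h2] at h5
          cases h5
  unfold len
  rw [e, Finset.card_union_of_disjoint, Finset.card_image_of_injective _ (p⁻¹).injective, Nat.add_comm]
  rw [Finset.disjoint_left]
  intro s h1 h2
  rw [Finset.mem_filter] at h1
  obtain ⟨t, ht, rfl⟩ := Finset.mem_image.1 h2
  rw [Finset.mem_filter] at ht
  have := h1.2.2
  rw [show p (p⁻¹ t) = t by simp, ht.2.1] at this
  cases this

theorem Orbits.piJ_ne_one (J : Fin O.no) {i : Fin D.rank} (hi : i ∈ O.nd J) : O.piJ J ≠ 1 := by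
  intro h
  have := O.neg J i hi
  rw [show wp hc (O.wJ J) = 1 from h] at this
  simp [sR, simple_pos hc i.2] at this

/-- induction over the twisted Weyl group by right multiplication with orbit elements -/
theorem Orbits.induction_W1 {P : Equiv.Perm (Fin D.nroots) → Prop} (h1 : P 1)
    (hstep : ∀ π ∈ S.W1, ∀ J : Fin O.no, (∀ j ∈ O.nd J, A.pos (π (sR hc j)) = false) →
      π * (O.piJ J)⁻¹ ∈ S.W1 → P (π * (O.piJ J)⁻¹) → P π) :
    ∀ π ∈ S.W1, P π := by
  intro π
  induction hn : len D A π using Nat.strong_induction_on generalizing π with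
  | _ n ih =>
    intro hπ
    by_cases he : π = 1
    · rw [he]; exact h1
    obtain ⟨i, hi⟩ := exists_neg_simple (S.mem_W1.1 hπ).1 he
    obtain ⟨J, hiJ⟩ := O.cover i
    have hJ : ∀ j ∈ O.nd J, A.pos (π (sR hc j)) = false := fun j hj => by
      obtain ⟨k, rfl⟩ := O.trans J i hiJ j hj
      rw [pow_node_pos (S.mem_W1.1 hπ).2 k, hi]
    have hπ' := S.W1.mul_mem hπ (S.W1.inv_mem (O.piJ_mem J))
    refine hstep π hπ J hJ hπ' (ih _ ?_ _ rfl hπ')
    have hlen := O.len_split (S.mem_W1.1 hπ).1 hJ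
    have hpos : 0 < len D A (O.piJ J) := by
      refine Nat.pos_of_ne_zero fun h0 => O.piJ_ne_one J hiJ ?_
      exact eq_one_of_len_eq_zero hc (O.piJ_mem_Wgrp J) h0
    omega

theorem Orbits.W1_eq_closure : S.W1 = Subgroup.closure (Set.range O.piJ) := by
  refine le_antisymm (fun π hπ => ?_) ((Subgroup.closure_le _).2 ?_)
  · refine O.induction_W1 (P := fun π => π ∈ Subgroup.closure (Set.range O.piJ)) (Subgroup.one_mem _) ?_ π hπ
    intro π _ J _ _ h
    have := Subgroup.mul_mem _ h (Subgroup.subset_closure (Set.mem_range_self J) : O.piJ J ∈ _)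
    rwa [inv_mul_cancel_right] at this
  · rintro x ⟨J, rfl⟩
    exact O.piJ_mem J

end Cfsg.Lib.Tw
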