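/-
The fixed subgroup is generated by the fixed rank-one pieces; its order.
-/
import Cfsg.Agent.Lib.Tw.Orbits

set_option autoImplicit false

namespace Cfsg.Lib.Chev

open Cfsg.Lie

variable {D : ChevalleyDatum} {A : Aux} (hc : Cert D A) {F : Type*} [Field F]

include hc in
theorem mem_Uw_of_conj {n b : GL D.Idx F} {π : Equiv.Perm (Fin D.nroots)} (hn : n ∈ D.monomialSubgroup F)
    (hact : Acts D A n π) (hb : b ∈ D.borelSubgroup F) (h : n * b * n⁻¹ ∈ D.negUnipotent F) :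
    b ∈ Uw D A F π := by
  obtain ⟨M, k, hk, rfl⟩ := (mem_N_iff hc).1 hn
  have hπ : π = wp hc M := hact.unique hc (acts_hwg hc hk M)
  obtain ⟨L, hL, hlen⟩ := exists_len_word hc M
  rw [← hL] at hπ
  obtain ⟨v, hv, t, ht, rfl⟩ := (mem_B_iff hc).1 hb
  set n := k * wg D F M
  have hnL : n * (wg D F L)⁻¹ ∈ D.diagonalSubgroup F := by
    refine mem_H_of_acts_one hc ((D.monomialSubgroup F).mul_mem hn
      ((D.monomialSubgroup F).inv_mem (wg_mem_N hc L))) ?_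
    obtain ⟨ρ, hρ⟩ := exists_acts hc ((D.monomialSubgroup F).inv_mem (wg_mem_N (F := F) hc L))
    have h1 := (acts_wg (F := F) hc L).mul hρ
    rw [mul_inv_cancel, ← hπ] at h1
    have h2 := hact.mul hρ
    rwa [show π * ρ = 1 from h1.unique hc (acts_one hc)] at h2
  obtain ⟨b₁, hb₁, u', hu', e⟩ := wg_mul_U hc L (hlen.trans (congrArg (len D A) hL.symm)) v hv
  have hu'π : u' ∈ Uw D A F π := hπ ▸ hu'
  set z := n * (v * t) * n⁻¹ with hz
  have hz1 : n * u' * n⁻¹ ∈ D.negUnipotent F := hact.conj_Uw hc hu'π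
  set b₂ := (n * (wg D F L)⁻¹) * b₁ * (n * (wg D F L)⁻¹)⁻¹ with hb₂
  have hb₂B : b₂ ∈ D.borelSubgroup F :=
    (D.borelSubgroup F).mul_mem ((D.borelSubgroup F).mul_mem (H_le_B hnL) hb₁)
      ((D.borelSubgroup F).inv_mem (H_le_B hnL))
  have e2 : n * v = b₂ * n * u' := by
    calc n * v = n * (wg D F L)⁻¹ * (wg D F L * v) := by group
      _ = n * (wg D F L)⁻¹ * (b₁ * wg D F L * u') := by rw [e]
      _ = _ := by simp only [hb₂]; group
  have hnt : n * t * n⁻¹ ∈ D.diagonalSubgroup F := N_normalizes_H hc hn ht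
  set h' := n * t * n⁻¹
  have hzeq : z = b₂ * h' * (h'⁻¹ * (n * u' * n⁻¹) * h') := by
    calc z = (n * v) * t * n⁻¹ := by rw [hz]; group
      _ = b₂ * n * u' * t * n⁻¹ := by rw [e2]
      _ = _ := by simp only [h']; group
  have hVH : h'⁻¹ * (n * u' * n⁻¹) * h' ∈ D.negUnipotent F := by
    obtain ⟨f, hf, ef⟩ := H_diagonal hc ((D.diagonalSubgroup F).inv_mem hnt)
    have key : ∀ y ∈ D.negUnipotent F, dg D f * y * (dg D f)⁻¹ ∈ D.negUnipotent F := by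
      intro y hy
      induction hy using Subgroup.closure_induction with
      | mem x hx =>
        obtain ⟨r, s, hr, hx⟩ := hx
        obtain ⟨hr1, hr2⟩ := (isNegRoot_iff hc).1 hr
        rw [(eq_xg hc hr1).1 hx, dg_conj_x hc hr1 hf]
        exact xg_mem_V hc hr1 hr2 _
      | one => simp
      | mul x y _ _ hx hy =>
        rw [show dg D f * (x * y) * (dg D f)⁻¹ = dg D f * x * (dg D f)⁻¹ * (dg D f * y * (dg D f)⁻¹) by group]
        exact (D.negUnipotent F).mul_mem hx hy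
      | inv x _ hx =>
        rw [show dg D f * x⁻¹ * (dg D f)⁻¹ = (dg D f * x * (dg D f)⁻¹)⁻¹ by group]
        exact (D.negUnipotent F).inv_mem hx
    have := key _ hz1
    rw [← ef, inv_inv] at this
    exact this
  have h1 : b₂ * h' ∈ D.borelSubgroup F ⊓ D.negUnipotent F := by
    refine ⟨(D.borelSubgroup F).mul_mem hb₂B (H_le_B hnt), ?_⟩
    have : b₂ * h' = z * (h'⁻¹ * (n * u' * n⁻¹) * h')⁻¹ := by rw [hzeq]; group
    rw [this]
    exact (D.negUnipotent F).mul_mem h ((D.negUnipotent F).inv_mem hVH)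
  rw [B_inf_V hc, Subgroup.mem_bot] at h1
  have hfin : v * t = t⁻¹ * u' * t := by
    have e3 : z = h'⁻¹ * (n * u' * n⁻¹) * h' := by rw [hzeq, h1, one_mul]
    calc v * t = n⁻¹ * z * n := by rw [hz]; group
      _ = n⁻¹ * (h'⁻¹ * (n * u' * n⁻¹) * h') * n := by rw [e3]
      _ = _ := by simp only [h']; group
  rw [hfin]
  have := H_normalizes_Uw hc ((D.diagonalSubgroup F).inv_mem ht) hu'π
  rwa [inv_inv] at this

end Cfsg.Lib.Chev

namespace Cfsg.Lib.Tw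

open Cfsg.Lie Cfsg.Lib.Chev

variable {D : ChevalleyDatum} {A : Aux} {hc : Cert D A} {K : Type*} [Field K]

/-- the fixed rank-one pieces inside a subgroup of the fixed points -/
structure Parts {S : Sigma hc K} (O : Orbits S) where
  /-- the generated group -/
  G1 : Subgroup (GL D.Idx K)
  le_fix : G1 ≤ S.fix
  /-- representatives of the orbit elements -/
  nJ : Fin O.no → GL D.Idx K
  nJ_mem : ∀ J, nJ J ∈ G1
  nJ_mon : ∀ J, nJ J ∈ D.monomialSubgroup K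
  nJ_acts : ∀ J, Acts D A (nJ J) (O.piJ J)
  UJ_le : ∀ J, Uw D A K (O.piJ J) ⊓ S.fix ≤ G1
  H_le : D.diagonalSubgroup K ⊓ S.fix ≤ G1

variable {S : Sigma hc K} {O : Orbits S} (P : Parts O)

theorem Parts.exists_rep {π : Equiv.Perm (Fin D.nroots)} (hπ : π ∈ S.W1) :
    ∃ n ∈ P.G1, n ∈ D.monomialSubgroup K ∧ Acts D A n π := by
  refine O.induction_W1 (P := fun π => ∃ n ∈ P.G1, n ∈ D.monomialSubgroup K ∧ Acts D A n π)
    ⟨1, P.G1.one_mem, (D.monomialSubgroup K).one_mem, acts_one hc⟩ ?_ π hπ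
  rintro π _ J _ _ ⟨n, h1, h2, h3⟩
  refine ⟨n * P.nJ J, P.G1.mul_mem h1 (P.nJ_mem J), (D.monomialSubgroup K).mul_mem h2 (P.nJ_mon J), ?_⟩
  have := h3.mul (P.nJ_acts J)
  rwa [inv_mul_cancel_right] at this

/-- the fixed part of `U_w⁻` -/
def fixU (S : Sigma hc K) (π : Equiv.Perm (Fin D.nroots)) : Subgroup (GL D.Idx K) :=
  Uw D A K π ⊓ S.fix

theorem fixU_one : fixU S (1 : Equiv.Perm (Fin D.nroots)) = ⊥ := by
  rw [eq_bot_iff]
  intro g hg
  have hbot : Uw D A K (1 : Equiv.Perm (Fin D.nroots)) = ⊥ := by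
    rw [eq_bot_iff]
    refine (Subgroup.closure_le _).2 ?_
    rintro x ⟨r, t, hr, ⟨_, h1, h2⟩, -, -⟩
    rw [Equiv.Perm.one_apply] at h2
    rw [h1] at h2
    cases h2
  exact hbot ▸ hg.1

theorem Parts.negSet_conj {π : Equiv.Perm (Fin D.nroots)} (hπ : π ∈ Wgrp hc) {J : Fin O.no}
    (hJ : ∀ j ∈ O.nd J, A.pos (π (sR hc j)) = false) {b : GL D.Idx K}
    (hb : b ∈ Uw D A K (π * (O.piJ J)⁻¹)) : (P.nJ J)⁻¹ * b * P.nJ J ∈ Uw D A K π := by
  induction hb using Subgroup.closure_induction with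
  | mem x hx =>
    obtain ⟨r, t, hr, ⟨_, hp, hn⟩, -, rfl⟩ := hx
    obtain ⟨-, c, -, hcx⟩ := P.nJ_acts J
    set s := (O.piJ J)⁻¹ ⟨r, hr⟩ with hs
    have hps : O.piJ J s = ⟨r, hr⟩ := by simp [hs]
    have h1 := hcx s (((c s)⁻¹ : Kˣ) * t)
    rw [hps, ← mul_assoc, ← Units.val_mul, mul_inv_cancel, Units.val_one, one_mul] at h1
    rw [← h1, show (P.nJ J)⁻¹ * (P.nJ J * xg D K s (((c s)⁻¹ : Kˣ) * t) * (P.nJ J)⁻¹) * P.nJ J =
      xg D K s (((c s)⁻¹ : Kˣ) * t) by group]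
    have hπs : A.pos (π s) = false := by
      rw [Equiv.Perm.mul_apply] at hn; exact hn
    refine xg_mem_Uw s ?_ hπs _
    cases hq : A.pos s with
    | true => rfl
    | false =>
      exfalso
      have h3 : A.pos (nR s) = true := by rw [pos_nR _ hc, hq]; rfl
      have h4 : A.pos (O.piJ J (nR s)) = false := by
        rw [Orbits.piJ, (isRootAut_wp hc _).neg, pos_nR _ hc]
        rw [Orbits.piJ] at hps
        simp [hps, hp]
      have h5 := O.negSet_piJ_subset hπ hJ _ h3 h4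
      rw [(isRootAut_of_mem hc hπ).neg, pos_nR _ hc, hπs] at h5
      cases h5
  | one => simp
  | mul x y _ _ hx hy =>
    rw [show (P.nJ J)⁻¹ * (x * y) * P.nJ J = (P.nJ J)⁻¹ * x * P.nJ J * ((P.nJ J)⁻¹ * y * P.nJ J) by group]
    exact (Uw D A K π).mul_mem hx hy
  | inv x _ hx =>
    rw [show (P.nJ J)⁻¹ * x⁻¹ * P.nJ J = ((P.nJ J)⁻¹ * x * P.nJ J)⁻¹ by group]
    exact (Uw D A K π).inv_mem hx

theorem _root_.Cfsg.Lib.Tw.Orbits.Uw_piJ_le (O : Orbits S) {π : Equiv.Perm (Fin D.nroots)} (hπ : π ∈ Wgrp hc) {J : Fin O.no}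
    (hJ : ∀ j ∈ O.nd J, A.pos (π (sR hc j)) = false) : Uw D A K (O.piJ J) ≤ Uw D A K π := by
  refine (Subgroup.closure_le _).2 ?_
  rintro x ⟨r, t, hr, ⟨_, hp, hn⟩, -, rfl⟩
  exact xg_mem_Uw ⟨r, hr⟩ hp (O.negSet_piJ_subset hπ hJ _ hp hn) t

theorem Parts.fixU_split {π : Equiv.Perm (Fin D.nroots)} (hπ : π ∈ S.W1) {J : Fin O.no}
    (hJ : ∀ j ∈ O.nd J, A.pos (π (sR hc j)) = false) (hπ' : π * (O.piJ J)⁻¹ ∈ S.W1) {u : GL D.Idx K}
    (hu : u ∈ fixU S π) : ∃ b ∈ fixU S (π * (O.piJ J)⁻¹), ∃ u' ∈ fixU S (O.piJ J),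
      u = (P.nJ J)⁻¹ * b * P.nJ J * u' := by
  obtain ⟨huw, huf⟩ := hu
  set n := P.nJ J
  have hnG : n ∈ D.group K := N_le_group hc (P.nJ_mon J)
  have hfixn : S.app n = n := (S.mem_fix.1 (P.le_fix (P.nJ_mem J))).2
  obtain ⟨M, k, hk, hn⟩ := (mem_N_iff hc).1 (P.nJ_mon J)
  have hπJ : O.piJ J = wp hc M := (P.nJ_acts J).unique hc (hn ▸ acts_hwg hc hk M)
  obtain ⟨L, hL, hlen⟩ := exists_len_word hc M
  obtain ⟨b₁, hb₁, u', hu', e⟩ := wg_mul_U hc L (hlen.trans (congrArg (len D A) hL.symm)) u (Uw_le_U hc huw)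
  rw [hL, ← hπJ] at hu'
  have hnL : n * (wg D K L)⁻¹ ∈ D.diagonalSubgroup K := by
    refine mem_H_of_acts_one hc ((D.monomialSubgroup K).mul_mem (P.nJ_mon J)
      ((D.monomialSubgroup K).inv_mem (wg_mem_N hc L))) ?_
    obtain ⟨ρ, hρ⟩ := exists_acts hc ((D.monomialSubgroup K).inv_mem (wg_mem_N (F := K) hc L))
    have h1 := (acts_wg (F := K) hc L).mul hρ
    rw [mul_inv_cancel, hL, ← hπJ] at h1
    have h2 := (P.nJ_acts J).mul hρ
    rwa [show O.piJ J * ρ = 1 from h1.unique hc (acts_one hc)] at h2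
  set b := (n * (wg D K L)⁻¹) * b₁ * (n * (wg D K L)⁻¹)⁻¹ with hb
  have hbB : b ∈ D.borelSubgroup K :=
    (D.borelSubgroup K).mul_mem ((D.borelSubgroup K).mul_mem (H_le_B hnL) hb₁)
      ((D.borelSubgroup K).inv_mem (H_le_B hnL))
  have e2 : n * u = b * n * u' := by
    calc n * u = n * (wg D K L)⁻¹ * (wg D K L * u) := by group
      _ = n * (wg D K L)⁻¹ * (b₁ * wg D K L * u') := by rw [e]
      _ = _ := by simp only [hb]; group
  have e3 : n * u = S.app b * n * S.app u' := by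
    have h := congrArg S.app e2
    rw [S.app_mul hnG (U_le_group hc (Uw_le_U hc huw)), hfixn, (S.mem_fix.1 huf).2,
      S.app_mul ((D.group K).mul_mem (B_le_group hc hbB) hnG) (U_le_group hc (Uw_le_U hc hu')),
      S.app_mul (B_le_group hc hbB) hnG, hfixn] at h
    exact h
  have hu'' : S.app u' ∈ Uw D A K (O.piJ J) := by
    have h := S.app_Uw hu'
    rwa [(S.mem_W1.1 (O.piJ_mem J)).2] at h
  obtain ⟨hfb, hfu⟩ := normal_form_unique hc (S.app_B hbB) hbB (P.nJ_acts J) hu'' hu' (e3.symm.trans e2)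
  have hu'fix : u' ∈ S.fix := ⟨U_le_group hc (Uw_le_U hc hu'), hfu⟩
  have hbU : b ∈ Uw D A K (π * (O.piJ J)⁻¹) := by
    obtain ⟨n', -, hn', hact'⟩ := P.exists_rep hπ'
    refine mem_Uw_of_conj hc hn' hact' hbB ?_
    have hact := hact'.mul (P.nJ_acts J)
    rw [inv_mul_cancel_right] at hact
    have hr : u * u'⁻¹ ∈ Uw D A K π :=
      (Uw D A K π).mul_mem huw ((Uw D A K π).inv_mem (O.Uw_piJ_le (S.mem_W1.1 hπ).1 hJ hu'))
    have h3 := hact.conj_Uw hc hr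
    have : n' * b * n'⁻¹ = n' * n * (u * u'⁻¹) * (n' * n)⁻¹ := by
      have : b = n * u * u'⁻¹ * n⁻¹ := by rw [e2]; group
      rw [this]; group
    rwa [this]
  refine ⟨b, ⟨hbU, B_le_group hc hbB, hfb⟩, u', ⟨hu', hu'fix⟩, ?_⟩
  calc u = n⁻¹ * (n * u) := by group
    _ = _ := by rw [e2]; group

theorem Parts.fixU_join {π : Equiv.Perm (Fin D.nroots)} (hπ : π ∈ S.W1) {J : Fin O.no}
    (hJ : ∀ j ∈ O.nd J, A.pos (π (sR hc j)) = false) {b u' : GL D.Idx K}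
    (hb : b ∈ fixU S (π * (O.piJ J)⁻¹)) (hu' : u' ∈ fixU S (O.piJ J)) :
    (P.nJ J)⁻¹ * b * P.nJ J * u' ∈ fixU S π :=
  ⟨(Uw D A K π).mul_mem (P.negSet_conj (S.mem_W1.1 hπ).1 hJ hb.1) (O.Uw_piJ_le (S.mem_W1.1 hπ).1 hJ hu'.1),
    S.fix.mul_mem (S.fix.mul_mem (S.fix.mul_mem (S.fix.inv_mem (P.le_fix (P.nJ_mem J))) hb.2)
      (P.le_fix (P.nJ_mem J))) hu'.2⟩

theorem Parts.fixU_le {π : Equiv.Perm (Fin D.nroots)} (hπ : π ∈ S.W1) : fixU S π ≤ P.G1 := by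
  refine O.induction_W1 (P := fun π => fixU S π ≤ P.G1) (by rw [fixU_one]; exact bot_le) ?_ π hπ
  intro π hπ J hJ hπ' ih u hu
  obtain ⟨b, hb, u', hu', rfl⟩ := P.fixU_split hπ hJ hπ' hu
  exact P.G1.mul_mem (P.G1.mul_mem (P.G1.mul_mem (P.G1.inv_mem (P.nJ_mem J)) (ih hb)) (P.nJ_mem J))
    (P.UJ_le J hu')

include P in
/-- the cardinality of the fixed parts of `U_w⁻` -/
theorem Parts.card_fixU (d Q : ℕ) (hJc : ∀ J, Nat.card (fixU S (O.piJ J)) ^ d = Q ^ len D A (O.piJ J))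
    {π : Equiv.Perm (Fin D.nroots)} (hπ : π ∈ S.W1) : Nat.card (fixU S π) ^ d = Q ^ len D A π := by
  refine O.induction_W1 (P := fun π => Nat.card (fixU S π) ^ d = Q ^ len D A π) ?_ ?_ π hπ
  · rw [fixU_one, len_one, pow_zero, Subgroup.card_bot, one_pow]
  intro π hπ J hJ hπ' ih
  let f : ↥(fixU S (π * (O.piJ J)⁻¹)) × ↥(fixU S (O.piJ J)) → ↥(fixU S π) :=
    fun p => ⟨_, P.fixU_join hπ hJ p.1.2 p.2.2⟩
  have hf : Function.Bijective f := by
    constructor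
    · rintro ⟨b, u⟩ ⟨b', u'⟩ e
      have e' := congrArg Subtype.val e
      simp only [f] at e'
      have e'' : (b : GL D.Idx K) * P.nJ J * u = b' * P.nJ J * u' := by
        have h := congrArg (fun z => P.nJ J * z) e'
        simpa [mul_assoc] using h
      obtain ⟨h1, h2⟩ := normal_form_unique hc (U_le_B (Uw_le_U hc b.2.1)) (U_le_B (Uw_le_U hc b'.2.1))
        (P.nJ_acts J) u.2.1 u'.2.1 e''
      rw [Subtype.ext h1, Subtype.ext h2]
    · rintro ⟨u, hu⟩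
      obtain ⟨b, hb, u', hu', rfl⟩ := P.fixU_split hπ hJ hπ' hu
      exact ⟨(⟨b, hb⟩, ⟨u', hu'⟩), rfl⟩
  rw [← Nat.card_congr (Equiv.ofBijective f hf), Nat.card_prod, mul_pow, ih, hJc,
    O.len_split (S.mem_W1.1 hπ).1 hJ, pow_add]

theorem exists_w0 (S : Sigma hc K) : ∃ w ∈ S.W1, ∀ s, A.pos (w s) = ! A.pos s := by
  obtain ⟨L, hL⟩ := exists_longest hc
  refine ⟨wp hc L, S.mem_W1.2 ⟨(mem_Wgrp hc).2 ⟨L, rfl⟩, ?_⟩, hL⟩
  have hmem : S.tw (wp hc L) ∈ Wgrp hc := by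
    rw [Sigma.tw, ← S.wp_map]; exact (mem_Wgrp hc).2 ⟨_, rfl⟩
  have h : ∀ s, A.pos (S.tw (wp hc L) s) = ! A.pos s := by
    intro s
    have hs : S.root (S.root⁻¹ s) = s := by simp
    rw [← hs, S.tw_apply, S.root_pos, hL, S.root_pos]
  have h2 := (Wgrp hc).mul_mem ((Wgrp hc).inv_mem hmem) ((mem_Wgrp hc).2 ⟨L, rfl⟩ : wp hc L ∈ Wgrp hc)
  have h0 : len D A ((S.tw (wp hc L))⁻¹ * wp hc L) = 0 := by
    classical
    rw [len, Finset.card_eq_zero, Finset.filter_eq_empty_iff]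
    rintro s - ⟨h1, h3⟩
    have h4 := h (((S.tw (wp hc L))⁻¹ * wp hc L) s)
    rw [Equiv.Perm.mul_apply, show S.tw (wp hc L) ((S.tw (wp hc L))⁻¹ (wp hc L s)) = wp hc L s from (S.tw (wp hc L)).apply_symm_apply _, hL, h1] at h4
    rw [Equiv.Perm.mul_apply] at h3
    rw [h3] at h4
    cases h4
  exact inv_mul_eq_one.1 (eq_one_of_len_eq_zero hc h2 h0)

theorem len_w0 {w : Equiv.Perm (Fin D.nroots)} (hw : ∀ s, A.pos (w s) = ! A.pos s) (hc : Cert D A) :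
    len D A w = D.nroots / 2 := by
  classical
  rw [← card_pos hc, len]
  refine Finset.card_bij' (fun s _ => (s : ℕ)) (fun r hr => ⟨r, Finset.mem_range.1 (Finset.mem_filter.1 hr).1⟩) ?_ ?_ ?_ ?_
  · intro s hs
    exact Finset.mem_filter.2 ⟨Finset.mem_range.2 s.2, (Finset.mem_filter.1 hs).2.1⟩
  · intro r hr
    have h1 := (Finset.mem_filter.1 hr).2
    refine Finset.mem_filter.2 ⟨Finset.mem_univ _, h1, ?_⟩
    rw [hw]
    simp [h1]
  · intros; rfl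
  · intros; rfl

theorem Uw_w0 {w : Equiv.Perm (Fin D.nroots)} (hw : ∀ s, A.pos (w s) = ! A.pos s) (hc : Cert D A) :
    Uw D A K w = D.posUnipotent K := by
  refine le_antisymm (Uw_le_U hc) ?_
  rw [posUnipotent_eq hc]
  refine (Subgroup.closure_le _).2 ?_
  rintro x ⟨r, t, hr, hp, -, rfl⟩
  exact xg_mem_Uw ⟨r, hr⟩ hp (by rw [hw]; simp [hp]) t

theorem fixed_B_split {b : GL D.Idx K} (hb : b ∈ D.borelSubgroup K) (hf : b ∈ S.fix) :
    ∃ v ∈ D.posUnipotent K ⊓ S.fix, ∃ h ∈ D.diagonalSubgroup K ⊓ S.fix, b = v * h := by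
  obtain ⟨v, hv, h, hh, rfl⟩ := (mem_B_iff hc).1 hb
  have hfix := (S.mem_fix.1 hf).2
  rw [S.app_mul (U_le_group hc hv) (H_le_group hc hh)] at hfix
  have hm : v⁻¹ * S.app v ∈ D.posUnipotent K ⊓ D.diagonalSubgroup K := by
    refine ⟨(D.posUnipotent K).mul_mem ((D.posUnipotent K).inv_mem hv) (S.app_U hv), ?_⟩
    have : v⁻¹ * S.app v = h * (S.app h)⁻¹ := by
      rw [eq_mul_inv_iff_mul_eq, mul_assoc, hfix]; group
    rw [this]
    exact (D.diagonalSubgroup K).mul_mem hh ((D.diagonalSubgroup K).inv_mem (S.app_H hh))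
  rw [U_inf_H hc, Subgroup.mem_bot, inv_mul_eq_one] at hm
  rw [← hm] at hfix
  exact ⟨v, ⟨hv, U_le_group hc hv, hm.symm⟩, h, ⟨hh, H_le_group hc hh, mul_left_cancel hfix⟩, rfl⟩

theorem Parts.U_le : D.posUnipotent K ⊓ S.fix ≤ P.G1 := by
  obtain ⟨w, hw, hw'⟩ := exists_w0 S
  rw [← Uw_w0 hw' hc]
  exact P.fixU_le hw

theorem Parts.B_le : D.borelSubgroup K ⊓ S.fix ≤ P.G1 := by
  rintro b ⟨hb, hf⟩
  obtain ⟨v, hv, h, hh, rfl⟩ := fixed_B_split hb hf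
  exact P.G1.mul_mem (P.U_le hv) (P.H_le hh)

/-- normal form of a fixed element with a chosen representative -/
theorem Parts.fixed_form {g : GL D.Idx K} (hg : g ∈ S.fix) :
    ∃ π ∈ S.W1, ∀ n ∈ P.G1, n ∈ D.monomialSubgroup K → Acts D A n π →
      ∃ b ∈ D.borelSubgroup K ⊓ S.fix, ∃ u ∈ fixU S π, g = b * n * u := by
  obtain ⟨b, hb, m, hm, π, hπ, hact, u, hu, rfl⟩ := S.fixed_form hg
  refine ⟨π, hπ, fun n hn hnN hnact => ?_⟩
  have hh : m * n⁻¹ ∈ D.diagonalSubgroup K := by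
    refine mem_H_of_acts_one hc ((D.monomialSubgroup K).mul_mem hm ((D.monomialSubgroup K).inv_mem hnN)) ?_
    obtain ⟨ρ, hρ⟩ := exists_acts hc ((D.monomialSubgroup K).inv_mem hnN)
    have h1 := hnact.mul hρ
    rw [mul_inv_cancel] at h1
    have h2 := hact.mul hρ
    rwa [show π * ρ = 1 from h1.unique hc (acts_one hc)] at h2
  set b' := b * (m * n⁻¹)
  have hb' : b' ∈ D.borelSubgroup K := (D.borelSubgroup K).mul_mem hb (H_le_B hh)
  have e : b * m * u = b' * n * u := by simp only [b']; group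
  rw [e] at hg ⊢
  have hnG : n ∈ D.group K := N_le_group hc hnN
  have hfix := (S.mem_fix.1 hg).2
  rw [S.app_mul ((D.group K).mul_mem (B_le_group hc hb') hnG) (U_le_group hc (Uw_le_U hc hu)),
    S.app_mul (B_le_group hc hb') hnG, (S.mem_fix.1 (P.le_fix hn)).2] at hfix
  have hu' : S.app u ∈ Uw D A K π := by
    have h := S.app_Uw hu
    rwa [(S.mem_W1.1 hπ).2] at h
  obtain ⟨h1, h2⟩ := normal_form_unique hc (S.app_B hb') hb' hnact hu' hu hfix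
  exact ⟨b', ⟨hb', B_le_group hc hb', h1⟩, u, ⟨hu, U_le_group hc (Uw_le_U hc hu), h2⟩, rfl⟩

theorem Parts.fix_eq : S.fix = P.G1 := by
  refine le_antisymm (fun g hg => ?_) P.le_fix
  obtain ⟨π, hπ, h⟩ := P.fixed_form hg
  obtain ⟨n, hn, hnN, hact⟩ := P.exists_rep hπ
  obtain ⟨b, hb, u, hu, rfl⟩ := h n hn hnN hact
  exact P.G1.mul_mem (P.G1.mul_mem (P.B_le hb) hn) (P.fixU_le hπ hu)

open scoped Classical in
/-- the members of the twisted Weyl group -/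
noncomputable def Sigma.W1fin (S : Sigma hc K) : Finset (Equiv.Perm (Fin D.nroots)) :=
  Finset.univ.filter fun π => π ∈ S.W1

theorem Sigma.mem_W1fin {π : Equiv.Perm (Fin D.nroots)} : π ∈ S.W1fin ↔ π ∈ S.W1 := by
  classical
  simp [Sigma.W1fin]

theorem card_fixB [Finite K] (S : Sigma hc K) : Nat.card ↥(D.borelSubgroup K ⊓ S.fix) =
    Nat.card ↥(D.posUnipotent K ⊓ S.fix) * Nat.card ↥(D.diagonalSubgroup K ⊓ S.fix) := by
  let f : ↥(D.posUnipotent K ⊓ S.fix) × ↥(D.diagonalSubgroup K ⊓ S.fix) → ↥(D.borelSubgroup K ⊓ S.fix) :=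
    fun p => ⟨p.1 * p.2, (D.borelSubgroup K).mul_mem (U_le_B p.1.2.1) (H_le_B p.2.2.1),
      S.fix.mul_mem p.1.2.2 p.2.2.2⟩
  rw [← Nat.card_prod]
  refine (Nat.card_congr (Equiv.ofBijective f ⟨?_, ?_⟩)).symm
  · rintro ⟨u, h⟩ ⟨u', h'⟩ e
    have e' : (u : GL D.Idx K) * h = u' * h' := congrArg Subtype.val e
    have hm : (u' : GL D.Idx K)⁻¹ * u ∈ D.posUnipotent K ⊓ D.diagonalSubgroup K := by
      refine ⟨(D.posUnipotent K).mul_mem ((D.posUnipotent K).inv_mem u'.2.1) u.2.1, ?_⟩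
      have : (u' : GL D.Idx K)⁻¹ * u = h' * (h : GL D.Idx K)⁻¹ := by
        rw [inv_mul_eq_iff_eq_mul, ← mul_assoc, ← e']; group
      rw [this]
      exact (D.diagonalSubgroup K).mul_mem h'.2.1 ((D.diagonalSubgroup K).inv_mem h.2.1)
    rw [U_inf_H hc, Subgroup.mem_bot, inv_mul_eq_one] at hm
    rw [← hm] at e'
    exact Prod.ext (Subtype.ext hm.symm) (Subtype.ext (mul_left_cancel e'))
  · rintro ⟨b, hb, hf⟩
    obtain ⟨v, hv, h, hh, rfl⟩ := fixed_B_split hb hf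
    exact ⟨(⟨v, hv⟩, ⟨h, hh⟩), rfl⟩

theorem Parts.card_fix [Finite K] : Nat.card ↥P.G1 =
    Nat.card ↥(D.borelSubgroup K ⊓ S.fix) * ∑ π ∈ S.W1fin, Nat.card ↥(fixU S π) := by
  classical
  have hrep : ∀ π : ↥S.W1fin, ∃ n, n ∈ P.G1 ∧ n ∈ D.monomialSubgroup K ∧
      Acts D A n (π : Equiv.Perm (Fin D.nroots)) := fun π => by
    obtain ⟨n, h1, h2, h3⟩ := P.exists_rep (S.mem_W1fin.1 π.2)
    exact ⟨n, h1, h2, h3⟩
  choose rep hrep1 hrep2 hrep3 using hrep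
  let T := Σ π : ↥S.W1fin, ↥(D.borelSubgroup K ⊓ S.fix) × ↥(fixU S (π : Equiv.Perm (Fin D.nroots)))
  let f : T → ↥S.fix := fun p => ⟨p.2.1 * rep p.1 * p.2.2,
    S.fix.mul_mem (S.fix.mul_mem p.2.1.2.2 (P.le_fix (hrep1 p.1))) p.2.2.2.2⟩
  have hf : Function.Bijective f := by
    constructor
    · rintro ⟨π, b, u⟩ ⟨π', b', u'⟩ e
      have e' : (b : GL D.Idx K) * rep π * u = b' * rep π' * u' := congrArg Subtype.val e
      have hh := inv_mul_mem_H hc b.2.1 (U_le_B (Uw_le_U hc u.2.1)) b'.2.1 (U_le_B (Uw_le_U hc u'.2.1))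
        (hrep2 π) (hrep2 π') e'
      have h1 := (hrep3 π).mul (acts_H hc hh)
      rw [← mul_assoc, mul_inv_cancel, one_mul, mul_one] at h1
      have hπ : π = π' := Subtype.ext (h1.unique hc (hrep3 π'))
      subst hπ
      obtain ⟨hb, hu⟩ := normal_form_unique hc b.2.1 b'.2.1 (hrep3 π) u.2.1 u'.2.1 e'
      rw [Subtype.ext hb, Subtype.ext hu]
    · rintro ⟨g, hg⟩
      obtain ⟨π, hπ, h⟩ := P.fixed_form hg
      have hπ' := S.mem_W1fin.2 hπ
      obtain ⟨b, hb, u, hu, rfl⟩ := h (rep ⟨π, hπ'⟩) (hrep1 _) (hrep2 _) (hrep3 _)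
      exact ⟨⟨⟨π, hπ'⟩, ⟨b, hb⟩, ⟨u, hu⟩⟩, rfl⟩
  rw [← P.fix_eq, ← Nat.card_congr (Equiv.ofBijective f hf), Nat.card_sigma, Finset.mul_sum,
    ← Finset.sum_coe_sort S.W1fin]
  exact Finset.sum_congr rfl fun π _ => Nat.card_prod _ _

end Cfsg.Lib.Tw
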