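/-
The (B,N)-pair of a twisted group, the map onto the twisted Weyl group, the normal core, simplicity.
-/
import Cfsg.Agent.Lib.Tw.Fix
import Cfsg.Agent.Lib.LieBN.Simple

set_option autoImplicit false

namespace Cfsg.Lib.Tw

open Cfsg.Lie Cfsg.Lib.Chev

variable {D : ChevalleyDatum} {A : Aux} {hc : Cert D A} {K : Type*} [Field K]

/-- the further properties giving a (B,N)-pair -/
structure Full {S : Sigma hc K} (O : Orbits S) extends Parts O where
  piJ_inj : Function.Injective O.piJ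
  nd_ne : ∀ J, O.nd J ≠ []
  faith : ∀ J, ∀ i ∈ O.nd J, ∃ v ∈ Up D A K i, ∃ t : K, t ≠ 0 ∧
    v * xg D K (D.simple i) t ∈ fixU S (O.piJ J)

variable {S : Sigma hc K} {O : Orbits S} (P : Full O)

include hc in
theorem mem_Up_root {i : Fin D.rank} {a : K} (h : xg D K (D.simple i) a ∈ Up D A K i) : a = 0 := by
  classical
  by_contra ha
  have hU : ∀ v ∈ Up D A K i, ng D K i * v * (ng D K i)⁻¹ ∈ D.borelSubgroup K :=
    fun v hv => U_le_B (Up_le_U hc (ng_conj_Up hc hv))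
  have h1 := hU _ h
  have h2 := (acts_ng (F := K) hc i).neg_subset hc (s := sR hc i) (by
    rw [sig_simple, pos_nR _ hc]; simp [sR, simple_pos hc i.2]) a
  have h3 : ng D K i * xg D K (D.simple i) a * (ng D K i)⁻¹ ∈ D.borelSubgroup K ⊓ D.negUnipotent K := ⟨h1, h2⟩
  rw [B_inf_V hc, Subgroup.mem_bot, conj_eq_one_iff] at h3
  exact ha ((xg_eq_one_iff hc (simple_lt hc i.2) a).1 h3)

include P in
theorem Full.fixU_ne_bot (J : Fin O.no) : ∃ u ∈ fixU S (O.piJ J), u ≠ 1 := by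
  obtain ⟨i, hi⟩ := List.exists_mem_of_ne_nil _ (P.nd_ne J)
  obtain ⟨v, hv, t, ht, hu⟩ := P.faith J i hi
  refine ⟨_, hu, fun e => ht (mem_Up_root (hc := hc) (i := i) ?_)⟩
  rw [show xg D K (D.simple i) t = v⁻¹ from eq_inv_of_mul_eq_one_right e]
  exact (Up D A K i).inv_mem hv

include P in
theorem Full.sq_piJ (J : Fin O.no) : O.piJ J * O.piJ J = 1 := by
  obtain ⟨i, hi⟩ := List.exists_mem_of_ne_nil _ (P.nd_ne J)
  have hmem : O.piJ J ∈ Subgroup.closure (sig hc '' {i | i ∈ O.nd J}) := by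
    have key : ∀ L : List (Fin D.rank), (∀ i ∈ L, i ∈ O.nd J) →
        wp hc L ∈ Subgroup.closure (sig hc '' {i | i ∈ O.nd J}) := by
      intro L
      induction L with
      | nil => intro _; rw [wp_nil]; exact Subgroup.one_mem _
      | cons a L ih =>
        intro h
        rw [wp_cons]
        exact Subgroup.mul_mem _ (Subgroup.subset_closure ⟨a, h a List.mem_cons_self, rfl⟩)
          (ih fun x hx => h x (List.mem_cons_of_mem _ hx))
    exact key _ (O.letters J)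
  rcases O.smallW J _ (Subgroup.mul_mem _ hmem hmem) (S.mem_W1.1 (S.W1.mul_mem (O.piJ_mem J) (O.piJ_mem J))).2 with h | h
  · exact h
  · exact absurd (mul_left_cancel (h.trans (mul_one (O.piJ J)).symm)) (O.piJ_ne_one J hi)

/-- elements `h n` of `B m B` with `m` acting as an element of `W_J π` -/
def twoCosets (O : Orbits S) (J : Fin O.no) (π : Equiv.Perm (Fin D.nroots)) (g : GL D.Idx K) : Prop :=
  ∃ b₁ ∈ D.borelSubgroup K, ∃ m ∈ D.monomialSubgroup K, ∃ b₂ ∈ D.borelSubgroup K,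
    ∃ ω ∈ Subgroup.closure (sig hc '' {i | i ∈ O.nd J}), Acts D A m (ω * π) ∧ g = b₁ * m * b₂

theorem ng_mul_twoCosets {J : Fin O.no} {π : Equiv.Perm (Fin D.nroots)} {i : Fin D.rank} (hi : i ∈ O.nd J)
    {g : GL D.Idx K} (hg : twoCosets O J π g) : twoCosets O J π (ng D K i * g) := by
  obtain ⟨b₁, hb₁, m, hm, b₂, hb₂, ω, hω, hact, rfl⟩ := hg
  rcases bn_axiom hc i hm hb₁ with ⟨c₁, hc₁, c₂, hc₂, e⟩ | ⟨c₁, hc₁, c₂, hc₂, e⟩
  · refine ⟨c₁, hc₁, ng D K i * m, (D.monomialSubgroup K).mul_mem (ng_mem_N hc i) hm, c₂ * b₂,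
      (D.borelSubgroup K).mul_mem hc₂ hb₂, sig hc i * ω,
      Subgroup.mul_mem _ (Subgroup.subset_closure ⟨i, hi, rfl⟩) hω, ?_, ?_⟩
    · rw [mul_assoc]; exact (acts_ng hc i).mul hact
    · rw [← mul_assoc, ← mul_assoc, e]; group
  · refine ⟨c₁, hc₁, m, hm, c₂ * b₂, (D.borelSubgroup K).mul_mem hc₂ hb₂, ω, hω, hact, ?_⟩
    rw [← mul_assoc, ← mul_assoc, e]; group

theorem Full.rank_one {J : Fin O.no} {n b : GL D.Idx K} {π : Equiv.Perm (Fin D.nroots)}
    (hn : n ∈ P.G1) (hnN : n ∈ D.monomialSubgroup K) (hact : Acts D A n π)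
    (hb : b ∈ D.borelSubgroup K ⊓ S.fix) :
    (∃ b₁ ∈ D.borelSubgroup K ⊓ S.fix, ∃ b₂ ∈ D.borelSubgroup K ⊓ S.fix,
      P.nJ J * b * n = b₁ * (P.nJ J * n) * b₂) ∨
    ∃ b₁ ∈ D.borelSubgroup K ⊓ S.fix, ∃ b₂ ∈ D.borelSubgroup K ⊓ S.fix, P.nJ J * b * n = b₁ * n * b₂ := by
  have hπ : π ∈ S.W1 := S.mem_W1_of_fixed hnN (S.mem_fix.1 (P.le_fix hn)).2 hact
  have key : ∀ L : List (Fin D.rank), (∀ i ∈ L, i ∈ O.nd J) → twoCosets O J π (wg D K L * (b * n)) := by
    intro L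
    induction L with
    | nil =>
      intro _
      exact ⟨b, hb.1, n, hnN, 1, (D.borelSubgroup K).one_mem, 1, Subgroup.one_mem _, by rwa [one_mul],
        by simp⟩
    | cons a L ih =>
      intro h
      rw [wg_cons, mul_assoc]
      exact ng_mul_twoCosets (h a List.mem_cons_self) (ih fun x hx => h x (List.mem_cons_of_mem _ hx))
  have hh : P.nJ J * (wg D K (O.wJ J))⁻¹ ∈ D.diagonalSubgroup K := by
    refine mem_H_of_acts_one hc ((D.monomialSubgroup K).mul_mem (P.nJ_mon J)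
      ((D.monomialSubgroup K).inv_mem (wg_mem_N hc _))) ?_
    obtain ⟨ρ, hρ⟩ := exists_acts hc ((D.monomialSubgroup K).inv_mem (wg_mem_N (F := K) hc (O.wJ J)))
    have h1 := (acts_wg (F := K) hc (O.wJ J)).mul hρ
    rw [mul_inv_cancel] at h1
    have h2 := (P.nJ_acts J).mul hρ
    rwa [show O.piJ J * ρ = 1 from h1.unique hc (acts_one hc)] at h2
  obtain ⟨b₁, hb₁, m, hm, b₂, hb₂, ω, hω, hmact, e⟩ := key (O.wJ J) (O.letters J)
  have hg : P.nJ J * b * n = (P.nJ J * (wg D K (O.wJ J))⁻¹ * b₁) * m * b₂ := by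
    calc P.nJ J * b * n = P.nJ J * (wg D K (O.wJ J))⁻¹ * (wg D K (O.wJ J) * (b * n)) := by group
      _ = _ := by rw [e]; group
  have hgfix : P.nJ J * b * n ∈ S.fix :=
    S.fix.mul_mem (S.fix.mul_mem (P.le_fix (P.nJ_mem J)) hb.2) (P.le_fix hn)
  obtain ⟨π₁, hπ₁, hform⟩ := P.toParts.fixed_form hgfix
  obtain ⟨n₁, hn₁, hn₁N, hn₁act⟩ := P.toParts.exists_rep hπ₁
  obtain ⟨c, hcB, u, hu, e₁⟩ := hform n₁ hn₁ hn₁N hn₁act
  have hH := inv_mul_mem_H hc hcB.1 (U_le_B (Uw_le_U hc hu.1))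
    ((D.borelSubgroup K).mul_mem (H_le_B hh) hb₁) hb₂ hn₁N hm (e₁.symm.trans hg)
  have hπ₁ω : π₁ = ω * π := by
    have h1 := hn₁act.mul (acts_H hc hH)
    rw [mul_inv_cancel_left, mul_one] at h1
    exact h1.unique hc hmact
  have hωW : ω ∈ S.W1 := by
    have : ω = π₁ * π⁻¹ := by rw [hπ₁ω, mul_inv_cancel_right]
    rw [this]
    exact S.W1.mul_mem hπ₁ (S.W1.inv_mem hπ)
  rcases O.smallW J ω hω (S.mem_W1.1 hωW).2 with rfl | rfl
  · right
    obtain ⟨c', hc', u', hu', e'⟩ := hform n hn hnN (by rw [hπ₁ω, one_mul]; exact hact)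
    exact ⟨c', hc', u', ⟨U_le_B (Uw_le_U hc hu'.1), hu'.2⟩, e'⟩
  · left
    obtain ⟨c', hc', u', hu', e'⟩ := hform (P.nJ J * n) (P.G1.mul_mem (P.nJ_mem J) hn)
      ((D.monomialSubgroup K).mul_mem (P.nJ_mon J) hnN) (by rw [hπ₁ω]; exact (P.nJ_acts J).mul hact)
    exact ⟨c', hc', u', ⟨U_le_B (Uw_le_U hc hu'.1), hu'.2⟩, e'⟩

theorem Full.nJ_injective {J J' : Fin O.no}
    (h : (P.nJ J)⁻¹ * P.nJ J' ∈ D.borelSubgroup K) : J = J' := by
  have hH : (P.nJ J)⁻¹ * P.nJ J' ∈ D.diagonalSubgroup K := by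
    rw [← B_inf_N hc]
    exact ⟨h, (D.monomialSubgroup K).mul_mem ((D.monomialSubgroup K).inv_mem (P.nJ_mon J)) (P.nJ_mon J')⟩
  have h1 := (P.nJ_acts J).mul (acts_H hc hH)
  rw [mul_inv_cancel_left, mul_one] at h1
  exact P.piJ_inj (h1.unique hc (P.nJ_acts J'))

theorem Full.B1_inf_N1 : (D.borelSubgroup K ⊓ P.G1) ⊓ (D.monomialSubgroup K ⊓ P.G1) =
    D.diagonalSubgroup K ⊓ P.G1 := by
  rw [← B_inf_N hc]
  ext g
  simp only [Subgroup.mem_inf]
  tauto

/-- the (B,N)-pair of the twisted group -/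
def Full.bnPair : Cfsg.BNPair ↥P.G1 where
  B := (D.borelSubgroup K ⊓ P.G1).subgroupOf P.G1
  N := (D.monomialSubgroup K ⊓ P.G1).subgroupOf P.G1
  S := {n : ↥P.G1 | ∃ J, (n : GL D.Idx K) = P.nJ J}
  sup_eq_top := by
    rw [eq_top_iff]
    rintro ⟨g, hg⟩ -
    obtain ⟨π, hπ, hform⟩ := P.toParts.fixed_form (P.le_fix hg)
    obtain ⟨n, hn, hnN, hact⟩ := P.toParts.exists_rep hπ
    obtain ⟨b, hb, u, hu, rfl⟩ := hform n hn hnN hact
    have hbG : b ∈ P.G1 := P.toParts.B_le hb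
    have huG : u ∈ P.G1 := P.toParts.fixU_le hπ hu
    have : (⟨b * n * u, hg⟩ : ↥P.G1) = ⟨b, hbG⟩ * ⟨n, hn⟩ * ⟨u, huG⟩ := rfl
    rw [this]
    exact Subgroup.mul_mem _ (Subgroup.mul_mem _
      (Subgroup.mem_sup_left ⟨hb.1, hbG⟩) (Subgroup.mem_sup_right ⟨hnN, hn⟩))
      (Subgroup.mem_sup_left ⟨U_le_B (Uw_le_U hc hu.1), huG⟩)
  conj_mem := by
    rintro n hn t ⟨ht1, ht2⟩
    have hH : (t : GL D.Idx K) ∈ D.diagonalSubgroup K := by
      rw [← B_inf_N hc]; exact ⟨ht1.1, ht2.1⟩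
    exact ⟨H_le_B (N_normalizes_H hc (show (n : GL D.Idx K) ∈ D.monomialSubgroup K from hn.1) hH),
      (n * t * n⁻¹ : ↥P.G1).2⟩
  subset := by
    rintro n ⟨J, h⟩
    exact ⟨show (n : GL D.Idx K) ∈ D.monomialSubgroup K by rw [h]; exact P.nJ_mon J, n.2⟩
  sq_mem := by
    rintro s ⟨J, h⟩
    refine ⟨show ((s * s : ↥P.G1) : GL D.Idx K) ∈ D.borelSubgroup K from ?_, (s * s : ↥P.G1).2⟩
    rw [Subgroup.coe_mul, h]
    refine H_le_B (mem_H_of_acts_one hc ((D.monomialSubgroup K).mul_mem (P.nJ_mon J) (P.nJ_mon J)) ?_)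
    have := (P.nJ_acts J).mul (P.nJ_acts J)
    rwa [P.sq_piJ J] at this
  inj := by
    rintro s ⟨J, h⟩ s' ⟨J', h'⟩ e
    have e' : ((s⁻¹ * s' : ↥P.G1) : GL D.Idx K) ∈ D.borelSubgroup K := e.1
    rw [Subgroup.coe_mul, Subgroup.coe_inv, h, h'] at e'
    exact Subtype.ext (by rw [h, h', P.nJ_injective e'])
  closure_sup := by
    refine le_antisymm (sup_le ((Subgroup.closure_le _).2 ?_) inf_le_right) ?_
    · rintro n ⟨J, h⟩
      exact ⟨show (n : GL D.Idx K) ∈ D.monomialSubgroup K by rw [h]; exact P.nJ_mon J, n.2⟩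
    · rintro n hn
      have hnN : (n : GL D.Idx K) ∈ D.monomialSubgroup K := hn.1
      obtain ⟨π, hact⟩ := exists_acts hc hnN
      have hπ : π ∈ S.W1 := S.mem_W1_of_fixed hnN (S.mem_fix.1 (P.le_fix n.2)).2 hact
      have key : ∀ π ∈ S.W1, ∃ m ∈ Subgroup.closure {n : ↥P.G1 | ∃ J, (n : GL D.Idx K) = P.nJ J},
          (m : GL D.Idx K) ∈ D.monomialSubgroup K ∧ Acts D A (m : GL D.Idx K) π := by
        refine O.induction_W1 ⟨1, Subgroup.one_mem _, (D.monomialSubgroup K).one_mem, acts_one hc⟩ ?_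
        rintro π _ J _ _ ⟨m, hm, hmN, hmact⟩
        refine ⟨m * ⟨P.nJ J, P.nJ_mem J⟩, Subgroup.mul_mem _ hm (Subgroup.subset_closure ⟨J, rfl⟩),
          (D.monomialSubgroup K).mul_mem hmN (P.nJ_mon J), ?_⟩
        have := hmact.mul (P.nJ_acts J)
        rwa [inv_mul_cancel_right] at this
      obtain ⟨m, hm, hmN, hmact⟩ := key π hπ
      have hH : ((n * m⁻¹ : ↥P.G1) : GL D.Idx K) ∈ D.diagonalSubgroup K := by
        rw [Subgroup.coe_mul, Subgroup.coe_inv]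
        refine mem_H_of_acts_one hc ((D.monomialSubgroup K).mul_mem hnN ((D.monomialSubgroup K).inv_mem hmN)) ?_
        obtain ⟨ρ, hρ⟩ := exists_acts hc ((D.monomialSubgroup K).inv_mem hmN)
        have h1 := hmact.mul hρ
        rw [mul_inv_cancel] at h1
        have h2 := hact.mul hρ
        rwa [show π * ρ = 1 from h1.unique hc (acts_one hc)] at h2
      have : n = (n * m⁻¹) * m := by group
      rw [this]
      exact Subgroup.mul_mem _ (Subgroup.mem_sup_right ⟨⟨H_le_B hH, (n * m⁻¹ : ↥P.G1).2⟩,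
        ⟨H_le_N hH, (n * m⁻¹ : ↥P.G1).2⟩⟩) (Subgroup.mem_sup_left hm)
  mul_mem_union := by
    rintro s ⟨J, hs⟩ n hn b hb
    obtain ⟨π, hact⟩ := exists_acts hc (show (n : GL D.Idx K) ∈ D.monomialSubgroup K from hn.1)
    rcases P.rank_one (J := J) n.2 hn.1 hact ⟨hb.1, P.le_fix b.2⟩ with
      ⟨b₁, h₁, b₂, h₂, e⟩ | ⟨b₁, h₁, b₂, h₂, e⟩
    · refine Or.inl (DoubleCoset.mem_doubleCoset.2 ⟨⟨b₁, P.toParts.B_le h₁⟩, ⟨h₁.1, P.toParts.B_le h₁⟩,
        ⟨b₂, P.toParts.B_le h₂⟩, ⟨h₂.1, P.toParts.B_le h₂⟩, Subtype.ext ?_⟩)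
      simp only [Subgroup.coe_mul, hs]; exact e
    · refine Or.inr (DoubleCoset.mem_doubleCoset.2 ⟨⟨b₁, P.toParts.B_le h₁⟩, ⟨h₁.1, P.toParts.B_le h₁⟩,
        ⟨b₂, P.toParts.B_le h₂⟩, ⟨h₂.1, P.toParts.B_le h₂⟩, Subtype.ext ?_⟩)
      simp only [Subgroup.coe_mul, hs]; exact e
  conj_ne := by
    rintro s ⟨J, hs⟩ heq
    obtain ⟨u, hu, hu1⟩ := P.fixU_ne_bot J
    let x : ↥P.G1 := ⟨u, P.toParts.fixU_le (O.piJ_mem J) hu⟩
    have hmem : s * x * s ∈ (((D.borelSubgroup K ⊓ P.G1).subgroupOf P.G1 : Subgroup ↥P.G1) : Set ↥P.G1) := by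
      rw [← heq]
      exact ⟨x, ⟨U_le_B (Uw_le_U hc hu.1), x.2⟩, rfl⟩
    have h1 : P.nJ J * u * P.nJ J ∈ D.borelSubgroup K := by
      have h : ((s * x * s : ↥P.G1) : GL D.Idx K) ∈ D.borelSubgroup K := (Subgroup.mem_subgroupOf.1 hmem).1
      rwa [Subgroup.coe_mul, Subgroup.coe_mul, hs] at h
    have hsq : P.nJ J * P.nJ J ∈ D.diagonalSubgroup K := by
      refine mem_H_of_acts_one hc ((D.monomialSubgroup K).mul_mem (P.nJ_mon J) (P.nJ_mon J)) ?_
      have := (P.nJ_acts J).mul (P.nJ_acts J)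
      rwa [P.sq_piJ J] at this
    have h2 : P.nJ J * u * (P.nJ J)⁻¹ ∈ D.borelSubgroup K ⊓ D.negUnipotent K := by
      refine ⟨?_, (P.nJ_acts J).conj_Uw hc hu.1⟩
      have := (D.borelSubgroup K).mul_mem h1 ((D.borelSubgroup K).inv_mem (H_le_B hsq))
      rwa [show P.nJ J * u * P.nJ J * (P.nJ J * P.nJ J)⁻¹ = P.nJ J * u * (P.nJ J)⁻¹ by group] at this
    rw [B_inf_V hc, Subgroup.mem_bot, conj_eq_one_iff] at h2
    exact hu1 h2

theorem Full.exists_bnPair : ∃ Q : Cfsg.BNPair ↥P.G1,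
    Q.B = (D.borelSubgroup K ⊓ P.G1).subgroupOf P.G1 ∧ Q.N = (D.monomialSubgroup K ⊓ P.G1).subgroupOf P.G1 :=
  ⟨P.bnPair, rfl, rfl⟩

/-- the normal core of the Borel subgroup is trivial -/
theorem Full.normalCore_eq_bot : ((D.borelSubgroup K ⊓ P.G1).subgroupOf P.G1).normalCore = ⊥ := by
  rw [eq_bot_iff]
  intro g hg
  obtain ⟨w, hw, hw'⟩ := exists_w0 S
  obtain ⟨n, hn, hnN, hact⟩ := P.toParts.exists_rep hw
  have hcore : ∀ k : ↥P.G1, ((k * g * k⁻¹ : ↥P.G1) : GL D.Idx K) ∈ D.borelSubgroup K := fun k => (hg k).1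
  have hgB : (g : GL D.Idx K) ∈ D.borelSubgroup K := by simpa using hcore 1
  have hall : ∀ k ∈ P.G1, k * (g : GL D.Idx K) * k⁻¹ ∈ D.diagonalSubgroup K := by
    intro k hk
    have hkB : k * (g : GL D.Idx K) * k⁻¹ ∈ D.borelSubgroup K := by simpa using hcore ⟨k, hk⟩
    have h1 : n * (k * (g : GL D.Idx K) * k⁻¹) * n⁻¹ ∈ D.borelSubgroup K := by
      have := hcore (⟨n, hn⟩ * ⟨k, hk⟩)
      simpa [mul_assoc] using this
    set y := k * (g : GL D.Idx K) * k⁻¹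
    obtain ⟨v, hv, t, ht, e⟩ := (mem_B_iff hc).1 hkB
    have hv' : v ∈ Uw D A K w := by rw [Uw_w0 hw' hc]; exact hv
    have h2 : n * y * n⁻¹ ∈ D.borelSubgroup K ⊓ (D.negUnipotent K ⊔ D.diagonalSubgroup K) := by
      refine ⟨h1, ?_⟩
      rw [e, show n * (v * t) * n⁻¹ = n * v * n⁻¹ * (n * t * n⁻¹) by group]
      exact Subgroup.mul_mem _ (Subgroup.mem_sup_left (hact.conj_Uw hc hv'))
        (Subgroup.mem_sup_right (N_normalizes_H hc hnN ht))
    rw [B_inf_VH hc] at h2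
    have := N_normalizes_H hc ((D.monomialSubgroup K).inv_mem hnN) h2
    rwa [show n⁻¹ * (n * y * n⁻¹) * n⁻¹⁻¹ = y by group] at this
  have hgH : (g : GL D.Idx K) ∈ D.diagonalSubgroup K := by simpa using hall 1 P.G1.one_mem
  obtain ⟨cT, hcT⟩ : ∃ c, torusFin D A K c = (g : GL D.Idx K) := by
    rw [← range_torusFin hc] at hgH; exact hgH
  obtain ⟨f, hf, e⟩ := H_diagonal hc hgH
  have hsimple : ∀ i : Fin D.rank, f (D.simple i) = 1 := by
    intro i
    obtain ⟨J, hJ⟩ := O.cover i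
    obtain ⟨v, hv, t, ht, hu⟩ := P.faith J i hJ
    set u := v * xg D K (D.simple i) t
    have huG : u ∈ P.G1 := P.toParts.fixU_le (O.piJ_mem J) hu
    have huU : u ∈ D.posUnipotent K := Uw_le_U hc hu.1
    have h3 : u * dg D f * u⁻¹ * (dg D f)⁻¹ ∈ D.posUnipotent K ⊓ D.diagonalSubgroup K := by
      rw [← e]
      refine ⟨?_, (D.diagonalSubgroup K).mul_mem (hall u huG) ((D.diagonalSubgroup K).inv_mem hgH)⟩
      rw [show u * (g : GL D.Idx K) * u⁻¹ * (g : GL D.Idx K)⁻¹ =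
        u * ((g : GL D.Idx K) * u⁻¹ * (g : GL D.Idx K)⁻¹) by group]
      exact (D.posUnipotent K).mul_mem huU (H_normalizes_U hc hgH ((D.posUnipotent K).inv_mem huU))
    rw [U_inf_H hc, Subgroup.mem_bot] at h3
    have h4 : dg D f * u * (dg D f)⁻¹ = u := by
      have := congrArg (fun z => z⁻¹ * u) h3
      simp only [mul_inv_rev, inv_inv, inv_one, one_mul] at this
      simpa [mul_assoc] using this
    have hp := simple_lt hc i.2
    have hconj : dg D f * v * (dg D f)⁻¹ ∈ Up D A K i := by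
      have key : ∀ y ∈ Up D A K i, dg D f * y * (dg D f)⁻¹ ∈ Up D A K i := by
        intro y hy
        induction hy using Subgroup.closure_induction with
        | mem x hx =>
          obtain ⟨r, s, hr, hP, -, rfl⟩ := hx
          rw [dg_conj_x hc hr hf]
          exact xg_mem_UG hr hP (Nat.zero_le _) _
        | one => simp
        | mul x y _ _ hx hy =>
          rw [show dg D f * (x * y) * (dg D f)⁻¹ = dg D f * x * (dg D f)⁻¹ * (dg D f * y * (dg D f)⁻¹) by group]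
          exact (Up D A K i).mul_mem hx hy
        | inv x _ hx =>
          rw [show dg D f * x⁻¹ * (dg D f)⁻¹ = (dg D f * x * (dg D f)⁻¹)⁻¹ by group]
          exact (Up D A K i).inv_mem hx
      exact key v hv
    have h5 : xg D K (D.simple i) ((f (D.simple i) : K) * t + -t) ∈ Up D A K i := by
      have : xg D K (D.simple i) ((f (D.simple i) : K) * t + -t) = (dg D f * v * (dg D f)⁻¹)⁻¹ * v := by
        rw [← xg_add hc hp, ← xg_inv hc hp, ← dg_conj_x hc hp hf t]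
        calc dg D f * xg D K (D.simple i) t * (dg D f)⁻¹ * (xg D K (D.simple i) t)⁻¹
            = (dg D f * v * (dg D f)⁻¹)⁻¹ * (dg D f * u * (dg D f)⁻¹) * (xg D K (D.simple i) t)⁻¹ := by
              simp only [u]; group
          _ = _ := by rw [h4]; simp only [u]; group
      rw [this]
      exact (Up D A K i).mul_mem ((Up D A K i).inv_mem hconj) hv
    have h6 := mem_Up_root (hc := hc) h5
    rw [← sub_eq_add_neg, sub_eq_zero] at h6
    exact Units.ext (mul_right_cancel₀ ht (by rw [Units.val_one, one_mul]; exact h6))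
  rw [Subgroup.mem_bot]
  refine Subtype.ext ?_
  rw [Subgroup.coe_one, ← hcT, ← MonoidHom.mem_ker, mem_ker_torusFin hc]
  intro j hj
  have h7 := dg_eq_iff.1 (hcT.trans e) (D.simple j) (simple_lt hc hj)
  rw [hsimple ⟨j, hj⟩, torusVal, Finset.prod_range] at h7
  simpa using h7

/-- the homomorphism onto the twisted Weyl group -/
theorem Full.exists_weyl_hom {M : Subgroup (GL D.Idx K)} (hM : M = D.monomialSubgroup K ⊓ P.G1) :
    ∃ φ : ↥M →* ↥S.W1, Function.Surjective φ ∧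
      φ.ker = (D.diagonalSubgroup K ⊓ P.G1).subgroupOf M := by
  subst hM
  let ψ : ↥(D.monomialSubgroup K ⊓ P.G1) →* Equiv.Perm (Fin D.nroots) :=
    (permHom hc).comp (Subgroup.inclusion inf_le_left)
  have hact : ∀ g : ↥(D.monomialSubgroup K ⊓ P.G1), Acts D A (g : GL D.Idx K) (ψ g) :=
    fun g => acts_permHom hc ⟨(g : GL D.Idx K), g.2.1⟩
  have hW : ∀ g : ↥(D.monomialSubgroup K ⊓ P.G1), ψ g ∈ S.W1 := fun g => S.mem_W1_of_fixed g.2.1 (S.mem_fix.1 (P.le_fix g.2.2)).2 (hact g)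
  refine ⟨ψ.codRestrict S.W1 hW, ?_, ?_⟩
  · rintro ⟨π, hπ⟩
    obtain ⟨n, hn, hnN, hact'⟩ := P.toParts.exists_rep hπ
    exact ⟨⟨n, hnN, hn⟩, Subtype.ext ((hact ⟨n, hnN, hn⟩).unique hc hact')⟩
  · ext g
    rw [MonoidHom.mem_ker, Subgroup.mem_subgroupOf]
    constructor
    · intro h
      refine ⟨mem_H_of_acts_one hc g.2.1 ?_, g.2.2⟩
      have := hact g
      rwa [show ψ g = 1 from congrArg Subtype.val h] at this
    · intro h
      exact Subtype.ext ((hact g).unique hc (acts_H hc h.1))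

/-- simplicity from perfectness and connectedness -/
theorem Full.isSimple (hsolv : Group.IsSolvable ↥(D.borelSubgroup K)) (z : Fin O.no) (d : Fin O.no → ℕ)
    (hconn : ∀ J, J ≠ z → ∃ J', d J' < d J ∧ O.piJ J * O.piJ J' ≠ O.piJ J' * O.piJ J)
    (hperf : commutator ↥P.G1 = ⊤) : IsSimpleGroup ↥P.G1 ∧ ¬ IsMulCommutative ↥P.G1 := by
  classical
  haveI : Nontrivial ↥P.G1 := by
    obtain ⟨u, hu, hu1⟩ := P.fixU_ne_bot z
    exact ⟨⟨⟨u, P.toParts.fixU_le (O.piJ_mem z) hu⟩, 1, fun h => hu1 (congrArg Subtype.val h)⟩⟩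
  have hirr : P.bnPair.Irreducible := by
    intro J hJ hJne hne
    by_contra hno
    push Not at hno
    let el : Fin O.no → ↥P.G1 := fun i => ⟨P.nJ i, P.nJ_mem i⟩
    have hel : ∀ i, el i ∈ P.bnPair.S := fun i => ⟨i, rfl⟩
    have hcomm : ∀ i j, el i ∈ J → el j ∉ J → O.piJ i * O.piJ j = O.piJ j * O.piJ i := by
      intro i j hi hj
      have h := (hno _ hi _ ⟨hel j, hj⟩).1
      change P.nJ i * P.nJ j * (P.nJ i)⁻¹ * (P.nJ j)⁻¹ ∈ D.borelSubgroup K at h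
      have hN := (D.monomialSubgroup K).mul_mem ((D.monomialSubgroup K).mul_mem
        ((D.monomialSubgroup K).mul_mem (P.nJ_mon i) (P.nJ_mon j))
        ((D.monomialSubgroup K).inv_mem (P.nJ_mon i))) ((D.monomialSubgroup K).inv_mem (P.nJ_mon j))
      have hH : P.nJ i * P.nJ j * (P.nJ i)⁻¹ * (P.nJ j)⁻¹ ∈ D.diagonalSubgroup K := by
        rw [← B_inf_N hc]; exact ⟨h, hN⟩
      have h2 := ((acts_H hc hH).mul ((P.nJ_acts j).mul (P.nJ_acts i)))
      rw [show P.nJ i * P.nJ j * (P.nJ i)⁻¹ * (P.nJ j)⁻¹ * (P.nJ j * P.nJ i) = P.nJ i * P.nJ j by group,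
        one_mul] at h2
      exact ((P.nJ_acts i).mul (P.nJ_acts j)).unique hc h2
    have hstep : ∀ j, el j ∈ J ↔ el z ∈ J := by
      intro j
      induction hm : d j using Nat.strong_induction_on generalizing j with
      | _ n ih =>
        by_cases h0 : j = z
        · rw [h0]
        · obtain ⟨k, hd, hA⟩ := hconn j h0
          rw [← ih (d k) (hm ▸ hd) k rfl]
          constructor
          · intro h1
            by_contra h2
            exact hA (hcomm _ _ h1 h2)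
          · intro h1
            by_contra h2
            exact hA (hcomm _ _ h1 h2).symm
    obtain ⟨s, hs⟩ := hJne
    obtain ⟨s', hs', hs'J⟩ := hne
    obtain ⟨a, ha⟩ := hJ hs
    obtain ⟨b, hb⟩ := hs'
    have ea : el a = s := Subtype.ext ha.symm
    have eb : el b = s' := Subtype.ext hb.symm
    rw [← ea] at hs
    rw [← eb] at hs'J
    exact hs'J ((hstep b).2 ((hstep a).1 hs))
  have hB : Group.IsSolvable ↥P.bnPair.B := by
    haveI := hsolv
    haveI : Group.IsSolvable ↥(D.borelSubgroup K ⊓ P.G1) :=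
      Group.isSolvable_of_isSolvable_injective
        (f := Subgroup.inclusion (inf_le_left : D.borelSubgroup K ⊓ P.G1 ≤ D.borelSubgroup K))
        (Subgroup.inclusion_injective _)
    exact Group.isSolvable_of_isSolvable_injective
      (f := (Subgroup.subgroupOfEquivOfLe (inf_le_right : D.borelSubgroup K ⊓ P.G1 ≤ P.G1)).toMonoidHom)
      (Subgroup.subgroupOfEquivOfLe (inf_le_right : D.borelSubgroup K ⊓ P.G1 ≤ P.G1)).injective
  refine ⟨LieBN.isSimpleGroup_of_bnPair hirr hB hperf P.normalCore_eq_bot, ?_⟩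
  intro h
  have : commutator ↥P.G1 = ⊥ := by
    rw [commutator_def, Subgroup.commutator_eq_bot_iff_le_centralizer]
    intro a _
    rw [Subgroup.mem_centralizer_iff]
    exact fun b _ => h.is_comm.comm b a
  rw [hperf] at this
  exact bot_ne_top this.symm

end Cfsg.Lib.Tw
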