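/-
Endomorphisms of Chevalley groups read off invariant coordinate sets of the adjoint module: graph
automorphisms and special isogenies.
-/
import Cfsg.Agent.Lib.Tw.Base

set_option autoImplicit false

namespace Cfsg.Lib.Tw

open Cfsg.Lie Cfsg.Lib.Chev

/-- coordinate lists for the source submodule and the quotient, signs, the symmetry, exponents, modulus -/
structure IsoData where
  /-- coordinates of the submodule -/
  li : List ℕ
  /-- coordinates of the quotient, in matching order -/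
  lq : List ℕ
  /-- signs of the matching -/
  sg : List ℤ
  /-- the symmetry on the nodes -/
  node : List ℕ
  /-- the symmetry on the roots -/
  root : List ℕ
  /-- exponents on the nodes -/
  lam : List ℕ
  /-- the characteristic, or zero -/
  md : ℕ

/-- the block of a sparse matrix on a coordinate list -/
def sel (ls : List ℕ) (sg : List ℤ) (A : List Ent) : List Ent :=
  A.filterMap fun e => if ls.contains e.row && ls.contains e.col then
    some ⟨e.dt, e.du, ls.idxOf e.row, ls.idxOf e.col,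
      sg.getD (ls.idxOf e.row) 1 * sg.getD (ls.idxOf e.col) 1 * e.val⟩ else none

/-- equality modulo `m` -/
def eqvMod (m : ℕ) (A B : List Ent) : Bool :=
  (norm (A ++ smul (-1) 0 0 B)).all fun e => decide (e.val % (m : ℤ) = 0)

theorem ev_sel {R : Type*} [CommRing R] {ls : List ℕ} (hnd : ls.Nodup) (sg : List ℤ) (t u : R) {i j : ℕ}
    (hi : i < ls.length) (hj : j < ls.length) (A : List Ent) :
    ev t u (sel ls sg A) i j =
      ((sg.getD i 1 : ℤ) : R) * ((sg.getD j 1 : ℤ) : R) * ev t u A (ls[i]) (ls[j]) := by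
  induction A with
  | nil => simp [sel]
  | cons e A ih =>
    simp only [sel, List.filterMap_cons] at ih ⊢
    rw [ev_cons, mul_add, ← ih]
    by_cases h : (ls.contains e.row && ls.contains e.col) = true
    · rw [if_pos h]
      simp only [Bool.and_eq_true, List.contains_iff_mem] at h
      rw [ev_cons]
      congr 1
      simp only [Ent.at']
      by_cases h' : e.row = ls[i] ∧ e.col = ls[j]
      · rw [if_pos h', if_pos ⟨by rw [h'.1, hnd.idxOf_getElem], by rw [h'.2, hnd.idxOf_getElem]⟩]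
        rw [h'.1, h'.2, hnd.idxOf_getElem, hnd.idxOf_getElem]
        push_cast
        ring
      · rw [if_neg h', mul_zero, if_neg]
        rintro ⟨h1, h2⟩
        exact h' ⟨by subst h1; exact (List.getElem_idxOf hi).symm, by subst h2; exact (List.getElem_idxOf hj).symm⟩
    · rw [if_neg h]
      simp only [Ent.at']
      rw [if_neg, mul_zero, zero_add]
      rintro ⟨h1, h2⟩
      apply h
      simp only [Bool.and_eq_true, List.contains_iff_mem]
      exact ⟨h1 ▸ List.getElem_mem hi, h2 ▸ List.getElem_mem hj⟩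

theorem ev_eq_of_eqvMod {R : Type*} [CommRing R] {m : ℕ} (hm : (m : R) = 0) {A B : List Ent}
    (h : eqvMod m A B = true) (t u : R) (i j : ℕ) : ev t u A i j = ev t u B i j := by
  simp only [eqvMod, List.all_eq_true, decide_eq_true_eq] at h
  have e0 : ev t u (norm (A ++ smul (-1) 0 0 B)) i j = 0 := by
    generalize norm (A ++ smul (-1) 0 0 B) = L at h
    induction L with
    | nil => rfl
    | cons e L ih =>
      rw [ev_cons, ih fun x hx => h x (List.mem_cons_of_mem _ hx), add_zero]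
      have he := h e List.mem_cons_self
      obtain ⟨d, hd⟩ := Int.dvd_of_emod_eq_zero he
      simp [Ent.at', hd, hm]
  rw [ev_norm, ev_append, ev_smul] at e0
  linear_combination e0

variable {D : ChevalleyDatum} {A : Aux} (hc : Cert D A) {K : Type*} [Field K]

/-- the block of a matrix on a coordinate list, with signs -/
def subMat (D : ChevalleyDatum) {K : Type*} [Field K] (ls : List ℕ) (hb : ∀ x ∈ ls, x < dim D) (sg : List ℤ)
    (g : Matrix D.Idx D.Idx K) : Matrix (Fin ls.length) (Fin ls.length) K :=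
  Matrix.of fun i j => ((sg.getD i 1 : ℤ) : K) * ((sg.getD j 1 : ℤ) : K) *
    g ((enc D).symm ⟨ls[(i : ℕ)], hb _ (List.getElem_mem i.2)⟩) ((enc D).symm ⟨ls[(j : ℕ)], hb _ (List.getElem_mem j.2)⟩)

/-- no entries leave the coordinates of the list -/
def ColTri (D : ChevalleyDatum) {K : Type*} [Field K] (ls : List ℕ) (g : Matrix D.Idx D.Idx K) : Prop :=
  ∀ a b : D.Idx, ((enc D b : Fin (dim D)) : ℕ) ∈ ls → ((enc D a : Fin (dim D)) : ℕ) ∉ ls → g a b = 0

/-- no entries enter the coordinates of the list -/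
def RowTri (D : ChevalleyDatum) {K : Type*} [Field K] (ls : List ℕ) (g : Matrix D.Idx D.Idx K) : Prop :=
  ∀ a b : D.Idx, ((enc D a : Fin (dim D)) : ℕ) ∈ ls → ((enc D b : Fin (dim D)) : ℕ) ∉ ls → g a b = 0

theorem ColTri.mul {ls : List ℕ} {g h : Matrix D.Idx D.Idx K} (hg : ColTri D ls g) (hh : ColTri D ls h) :
    ColTri D ls (g * h) := by
  intro a b hb ha
  rw [Matrix.mul_apply]
  refine Finset.sum_eq_zero fun x _ => ?_
  by_cases hx : ((enc D x : Fin (dim D)) : ℕ) ∈ ls
  · rw [hg a x hx ha, zero_mul]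
  · rw [hh x b hb hx, mul_zero]

theorem RowTri.mul {ls : List ℕ} {g h : Matrix D.Idx D.Idx K} (hg : RowTri D ls g) (hh : RowTri D ls h) :
    RowTri D ls (g * h) := by
  intro a b ha hb
  rw [Matrix.mul_apply]
  refine Finset.sum_eq_zero fun x _ => ?_
  by_cases hx : ((enc D x : Fin (dim D)) : ℕ) ∈ ls
  · rw [hh x b hx hb, mul_zero]
  · rw [hg a x ha hx, zero_mul]

theorem colTri_one (ls : List ℕ) : ColTri D ls (1 : Matrix D.Idx D.Idx K) := fun a b hb ha =>
  Matrix.one_apply_ne fun e => ha (e ▸ hb)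

theorem rowTri_one (ls : List ℕ) : RowTri D ls (1 : Matrix D.Idx D.Idx K) := fun a b ha hb =>
  Matrix.one_apply_ne fun e => hb (e ▸ ha)

section Sub

variable {ls : List ℕ} (hb : ∀ x ∈ ls, x < dim D) (hnd : ls.Nodup) {sg : List ℤ}
  (hsg : ∀ x ∈ sg, x = 1 ∨ x = -1)

include hsg in
theorem sign_sq (i : ℕ) : ((sg.getD i 1 : ℤ) : K) * ((sg.getD i 1 : ℤ) : K) = 1 := by
  by_cases hi : i < sg.length
  · rw [List.getD_eq_getElem _ _ hi]
    rcases hsg _ (List.getElem_mem hi) with h | h <;> rw [h] <;> simp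
  · simp [Nat.le_of_not_lt hi]

include hnd hsg in
theorem subMat_one : subMat D (K := K) ls hb sg 1 = 1 := by
  ext i j
  simp only [subMat, Matrix.of_apply, Matrix.one_apply, (enc D).symm.apply_eq_iff_eq, Fin.mk.injEq,
    hnd.getElem_inj_iff, Fin.val_inj]
  by_cases h : i = j
  · subst h; simpa using sign_sq (K := K) hsg (i : ℕ)
  · simp [h]

include hnd hsg in
theorem subMat_mul {g h : Matrix D.Idx D.Idx K} (hgh : ColTri D ls h ∨ RowTri D ls g) :
    subMat D ls hb sg (g * h) = subMat D ls hb sg g * subMat D ls hb sg h := by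
  classical
  ext i j
  simp only [subMat, Matrix.of_apply, Matrix.mul_apply, Finset.mul_sum]
  let ι : Fin ls.length → D.Idx := fun k => (enc D).symm ⟨ls[(k : ℕ)], hb _ (List.getElem_mem k.2)⟩
  have hι : Function.Injective ι := fun a b e => by
    have := Fin.mk.inj_iff.1 ((enc D).symm.injective e)
    exact Fin.ext (hnd.getElem_inj_iff.1 this)
  rw [← Finset.sum_subset (Finset.subset_univ (Finset.univ.image ι)), Finset.sum_image fun a _ b _ e => hι e]
  · refine Finset.sum_congr rfl fun k _ => ?_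
    have := sign_sq (K := K) hsg (k : ℕ)
    show _ = _ * g _ (ι k) * (_ * h (ι k) _)
    linear_combination (-(((sg.getD (i : ℕ) 1 : ℤ) : K) * ((sg.getD (j : ℕ) 1 : ℤ) : K) *
      g (ι i) (ι k) * h (ι k) (ι j))) * this
  · intro x _ hx
    have hx' : ((enc D x : Fin (dim D)) : ℕ) ∉ ls := by
      intro hmem
      obtain ⟨k, hk, e⟩ := List.getElem_of_mem hmem
      refine hx (Finset.mem_image.2 ⟨⟨k, hk⟩, Finset.mem_univ _, ?_⟩)
      show (enc D).symm _ = x
      rw [Equiv.symm_apply_eq]; exact Fin.ext e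
    rcases hgh with hh | hg
    · rw [hh x _ (by simp) hx']; ring
    · rw [hg _ x (by simp) hx']; ring

end Sub

/-- the checks on one root element -/
def isoOK1 (D : ChevalleyDatum) (A : Aux) (d : IsoData) (r r' l : ℕ) : Bool :=
  ((sp D A r).all fun e => (d.li.contains e.row || !(d.li.contains e.col) || decide (e.val % (d.md : ℤ) = 0)) &&
    (d.lq.contains e.col || !(d.lq.contains e.row) || decide (e.val % (d.md : ℤ) = 0))) &&
  eqvMod d.md (sel d.lq d.sg (sp D A r)) (sel d.li [] (sub 1 l 0 (sp D A r')))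

/-- the checks -/
def isoOK (D : ChevalleyDatum) (A : Aux) (d : IsoData) : Bool :=
  decide d.li.Nodup && decide d.lq.Nodup && Nat.beq d.li.length d.lq.length &&
  (d.li.all fun x => Nat.blt x (dim D)) && (d.lq.all fun x => Nat.blt x (dim D)) &&
  (d.sg.all fun x => decide (x = 1 ∨ x = -1)) &&
  allB D.rank fun i => Nat.blt (d.node.getD i 0) D.rank &&
    isoOK1 D A d (D.simple i) (D.simple (d.node.getD i 0)) (d.lam.getD i 0) &&
    isoOK1 D A d (negI D (D.simple i)) (negI D (D.simple (d.node.getD i 0))) (d.lam.getD i 0)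

include hc in
theorem group_le_simple {S : Subgroup (GL D.Idx K)}
    (h : ∀ i : Fin D.rank, ∀ t : K, xg D K (D.simple i) t ∈ S ∧ xg D K (negI D (D.simple i)) t ∈ S) :
    D.group K ≤ S := by
  have hn : ∀ i : Fin D.rank, ng D K i ∈ S := fun i => S.mul_mem (h i _).1 (S.mul_mem (h i _).2 (h i _).1)
  have hw : ∀ L : List (Fin D.rank), wg D K L ∈ S := fun L => by
    induction L with
    | nil => simp
    | cons i L ih => rw [wg_cons]; exact S.mul_mem (hn i) ih
  refine group_le hc fun r hr t => ?_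
  obtain ⟨L, i, hL⟩ := exists_word_to hc ⟨r, hr⟩
  obtain ⟨-, c, -, hcx⟩ := acts_wg (F := K) hc L
  have h1 := hcx (sR hc i) (((c (sR hc i))⁻¹ : Kˣ) * t)
  rw [hL, ← mul_assoc, ← Units.val_mul, mul_inv_cancel, Units.val_one, one_mul] at h1
  rw [← h1]
  exact S.mul_mem (S.mul_mem (hw L) (h i _).1) (S.inv_mem (hw L))

variable {d : IsoData}

theorem isoOK_spec (h : isoOK D A d = true) :
    d.li.Nodup ∧ d.lq.Nodup ∧ d.li.length = d.lq.length ∧ (∀ x ∈ d.li, x < dim D) ∧
      (∀ x ∈ d.lq, x < dim D) ∧ (∀ x ∈ d.sg, x = 1 ∨ x = -1) ∧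
      ∀ i < D.rank, d.node.getD i 0 < D.rank ∧
        isoOK1 D A d (D.simple i) (D.simple (d.node.getD i 0)) (d.lam.getD i 0) = true ∧
        isoOK1 D A d (negI D (D.simple i)) (negI D (D.simple (d.node.getD i 0))) (d.lam.getD i 0) = true := by
  simp only [isoOK, Bool.and_eq_true, decide_eq_true_eq, Nat.beq_eq, List.all_eq_true, Nat.blt_eq, allB_iff] at h
  obtain ⟨⟨⟨⟨⟨⟨h1, h2⟩, h3⟩, h4⟩, h5⟩, h6⟩, h7⟩ := h
  exact ⟨h1, h2, h3, h4, h5, h6, fun i hi => ⟨(h7 i hi).1.1, (h7 i hi).1.2, (h7 i hi).2⟩⟩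

/-- the relation between an element and its image -/
def IsoRel (D : ChevalleyDatum) (d : IsoData) (hI : ∀ x ∈ d.li, x < dim D) (hQ : ∀ x ∈ d.lq, x < dim D)
    (hlen : d.li.length = d.lq.length) {K : Type*} [Field K] (g g' : GL D.Idx K) : Prop :=
  subMat D d.lq hQ d.sg (g : Matrix D.Idx D.Idx K) =
    (subMat D d.li hI [] (g' : Matrix D.Idx D.Idx K)).submatrix (Fin.cast hlen.symm) (Fin.cast hlen.symm)

include hc in
theorem iso_gen (hm : (d.md : K) = 0) {r r' l : ℕ} (hr : r < D.nroots) (hr' : r' < D.nroots)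
    (h : isoOK D A d = true) (h1 : isoOK1 D A d r r' l = true) (t : K) :
    ColTri D d.li (xg D K r t : Matrix D.Idx D.Idx K) ∧ RowTri D d.lq (xg D K r t : Matrix D.Idx D.Idx K) ∧
      IsoRel D d (isoOK_spec h).2.2.2.1 (isoOK_spec h).2.2.2.2.1 (isoOK_spec h).2.2.1 (xg D K r t)
        (xg D K r' (t ^ l)) := by
  obtain ⟨hn1, hn2, hlen, hI, hQ, hsg, -⟩ := isoOK_spec h
  simp only [isoOK1, Bool.and_eq_true, List.all_eq_true, Bool.or_eq_true, Bool.not_eq_true', decide_eq_true_eq,
    List.contains_iff_mem, List.contains_eq_mem, decide_eq_false_iff_not] at h1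
  obtain ⟨htri, heq⟩ := h1
  have hz : ∀ a b : ℕ, (∀ e ∈ sp D A r, e.row = a → e.col = b → e.val % (d.md : ℤ) = 0) →
      ev t (1 : K) (sp D A r) a b = 0 := by
    intro a b hab
    generalize sp D A r = L at hab
    induction L with
    | nil => rfl
    | cons e L ih =>
      rw [ev_cons, ih fun x hx => hab x (List.mem_cons_of_mem _ hx), add_zero]
      simp only [Ent.at']
      split
      · rename_i hh
        obtain ⟨k, hk⟩ := Int.dvd_of_emod_eq_zero (hab e List.mem_cons_self hh.1 hh.2)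
        simp [hk, hm]
      · rfl
  refine ⟨fun a b hb ha => ?_, fun a b ha hb => ?_, ?_⟩
  · rw [coe_xg hc hr, x_eq hc hr t 1, Matrix.add_apply, toMat_apply, Matrix.one_apply_ne fun e => ha (by rw [e]; exact hb),
      zero_add]
    refine hz _ _ fun e he e1 e2 => ?_
    rcases (htri e he).1 with (h0 | h0) | h0
    · exact absurd (e1 ▸ h0) ha
    · exact absurd (e2 ▸ hb) h0
    · exact h0
  · rw [coe_xg hc hr, x_eq hc hr t 1, Matrix.add_apply, toMat_apply, Matrix.one_apply_ne fun e => hb (by rw [← e]; exact ha),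
      zero_add]
    refine hz _ _ fun e he e1 e2 => ?_
    rcases (htri e he).2 with (h0 | h0) | h0
    · exact absurd (e2 ▸ h0) hb
    · exact absurd (e1 ▸ ha) h0
    · exact h0
  · unfold IsoRel
    rw [coe_xg hc hr, coe_xg hc hr', x_eq hc hr t 1, x_eq hc hr' (t ^ l) 1]
    ext i j
    have hi : (i : ℕ) < d.li.length := by rw [hlen]; exact i.2
    have hj : (j : ℕ) < d.li.length := by rw [hlen]; exact j.2
    have hs0 : ∀ k, ([] : List ℤ).getD k 1 = 1 := fun k => by simp
    have e1 := ev_eq_of_eqvMod hm heq t 1 (i : ℕ) (j : ℕ)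
    rw [ev_sel hn2 _ _ _ i.2 j.2, ev_sel hn1 _ _ _ hi hj, hs0, hs0, Int.cast_one, one_mul, one_mul] at e1
    have e2 : ev t (1 : K) (sub 1 l 0 (sp D A r')) d.li[(i : ℕ)] d.li[(j : ℕ)] =
        ev (t ^ l) (1 : K) (sp D A r') d.li[(i : ℕ)] d.li[(j : ℕ)] := by
      have e3 := congrFun (congrFun (toMat_sub (D := D) t (1 : K) 1 l 0 (L := sp D A r') sp_du)
        ((enc D).symm ⟨d.li[(i : ℕ)], hI _ (List.getElem_mem hi)⟩))
        ((enc D).symm ⟨d.li[(j : ℕ)], hI _ (List.getElem_mem hj)⟩)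
      simpa [toMat_apply] using e3
    rw [e2] at e1
    simp only [subMat, Matrix.of_apply, Matrix.submatrix_apply, Matrix.add_apply, toMat_apply, Fin.val_cast,
      Equiv.apply_symm_apply, hs0, Int.cast_one, one_mul, mul_add, Matrix.one_apply,
      (enc D).symm.apply_eq_iff_eq, Fin.mk.injEq, hn2.getElem_inj_iff, hn1.getElem_inj_iff]
    rw [e1]
    congr 1
    by_cases hij : (i : ℕ) = j
    · rw [if_pos hij, hij, mul_one, sign_sq hsg]
    · rw [if_neg hij, mul_zero]

include hc in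
/-- the endomorphism, characterised on the fundamental root subgroups -/
theorem exists_iso (h : isoOK D A d = true) (hm : (d.md : K) = 0)
    (hinj : ∀ g ∈ D.group K, subMat D d.li (isoOK_spec h).2.2.2.1 [] (g : Matrix D.Idx D.Idx K) = 1 → g = 1) :
    ∃ ψ : ↥(D.group K) →* ↥(D.group K), (∀ (r r' l : ℕ), r < D.nroots → r' < D.nroots →
      isoOK1 D A d r r' l = true → ∀ (t : K) (g : ↥(D.group K)), (g : GL D.Idx K) = xg D K r t →
        (ψ g : GL D.Idx K) = xg D K r' (t ^ l)) ∧ ∀ (i : Fin D.rank) (t : K) (g : ↥(D.group K)),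
      ((g : GL D.Idx K) = xg D K (D.simple i) t →
        (ψ g : GL D.Idx K) = xg D K (D.simple (d.node.getD i 0)) (t ^ d.lam.getD i 0)) ∧
      ((g : GL D.Idx K) = xg D K (negI D (D.simple i)) t →
        (ψ g : GL D.Idx K) = xg D K (negI D (D.simple (d.node.getD i 0))) (t ^ d.lam.getD i 0)) := by
  classical
  obtain ⟨hn1, hn2, hlen, hI, hQ, hsg, hnode⟩ := isoOK_spec h
  have hs1 : ∀ x ∈ ([] : List ℤ), x = 1 ∨ x = -1 := fun x hx => by simp at hx
  let R : GL D.Idx K → GL D.Idx K → Prop := IsoRel D d hI hQ hlen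
  let Good : GL D.Idx K → Prop := fun g =>
    ColTri D d.li (g : Matrix D.Idx D.Idx K) ∧ RowTri D d.lq (g : Matrix D.Idx D.Idx K) ∧
      ∃ g' ∈ D.group K, ColTri D d.li (g' : Matrix D.Idx D.Idx K) ∧ R g g'
  have Rmul : ∀ {g g' k k' : GL D.Idx K}, RowTri D d.lq (g : Matrix D.Idx D.Idx K) →
      ColTri D d.li (k' : Matrix D.Idx D.Idx K) → R g g' → R k k' → R (g * k) (g' * k') := by
    intro g g' k k' hg hk' e1 e2
    show IsoRel D d hI hQ hlen _ _
    unfold IsoRel
    rw [Units.val_mul, Units.val_mul, subMat_mul hQ hn2 hsg (Or.inr hg), subMat_mul hI hn1 hs1 (Or.inl hk'), e1, e2]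
    exact (Matrix.submatrix_mul _ _ (Fin.cast hlen.symm) (Fin.cast hlen.symm) _ (finCongr hlen.symm).bijective).symm
  have Rone : R 1 1 := by
    show IsoRel D d hI hQ hlen _ _
    unfold IsoRel
    rw [Units.val_one, subMat_one hQ hn2 hsg, subMat_one hI hn1 hs1]
    exact (Matrix.submatrix_one _ (finCongr hlen.symm).injective).symm
  have hmul : ∀ {g k : GL D.Idx K}, Good g → Good k → Good (g * k) := by
    rintro g k ⟨g1, g2, g', hg', g3, g4⟩ ⟨k1, k2, k', hk', k3, k4⟩
    exact ⟨g1.mul k1, g2.mul k2, g' * k', (D.group K).mul_mem hg' hk', g3.mul k3, Rmul g2 k3 g4 k4⟩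
  let T : Subgroup (GL D.Idx K) :=
    { carrier := {g | Good g ∧ Good g⁻¹}
      one_mem' := ⟨⟨colTri_one _, rowTri_one _, 1, (D.group K).one_mem, colTri_one _, Rone⟩,
        by rw [inv_one]; exact ⟨colTri_one _, rowTri_one _, 1, (D.group K).one_mem, colTri_one _, Rone⟩⟩
      mul_mem' := fun {a b} ha hb => ⟨hmul ha.1 hb.1, by rw [mul_inv_rev]; exact hmul hb.2 ha.2⟩
      inv_mem' := fun {a} ha => ⟨ha.2, by rw [inv_inv]; exact ha.1⟩ }
  have htri : ∀ r, r < D.nroots → (∃ r' l, isoOK1 D A d r r' l = true) → ∀ t : K,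
      ColTri D d.li (xg D K r t : Matrix D.Idx D.Idx K) := by
    rintro r hr ⟨r', l, h1⟩ t
    simp only [isoOK1, Bool.and_eq_true, List.all_eq_true, Bool.or_eq_true, Bool.not_eq_true', decide_eq_true_eq,
      List.contains_iff_mem, List.contains_eq_mem, decide_eq_false_iff_not] at h1
    intro a b hb ha
    rw [coe_xg hc hr, x_eq hc hr t 1, Matrix.add_apply, toMat_apply, Matrix.one_apply_ne fun e => ha (by rw [e]; exact hb),
      zero_add]
    have key : ∀ L : List Ent, (∀ e ∈ L, e.row = ((enc D a : Fin (dim D)) : ℕ) →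
        e.col = ((enc D b : Fin (dim D)) : ℕ) → e.val % (d.md : ℤ) = 0) →
        ev t (1 : K) L (enc D a) (enc D b) = 0 := by
      intro L hab
      induction L with
      | nil => rfl
      | cons e L ih =>
        rw [ev_cons, ih fun x hx => hab x (List.mem_cons_of_mem _ hx), add_zero]
        simp only [Ent.at']
        split
        · rename_i hh
          obtain ⟨k, hk⟩ := Int.dvd_of_emod_eq_zero (hab e List.mem_cons_self hh.1 hh.2)
          simp [hk, hm]
        · rfl
    refine key _ fun e he e1 e2 => ?_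
    rcases (h1.1 e he).1 with (h0 | h0) | h0
    · exact absurd (e1 ▸ h0) ha
    · exact absurd (e2 ▸ hb) h0
    · exact h0
  have hall : ∀ (s : ℕ), s < D.nroots → (∃ i : Fin D.rank, s = D.simple i ∨ s = negI D (D.simple i)) →
      ∀ t : K, ColTri D d.li (xg D K s t : Matrix D.Idx D.Idx K) := by
    rintro s hs ⟨i, rfl | rfl⟩ t
    · exact htri _ hs ⟨_, _, (hnode i i.2).2.1⟩ t
    · exact htri _ hs ⟨_, _, (hnode i i.2).2.2⟩ t
  have hT : D.group K ≤ T := by
    refine group_le_simple hc fun i t => ?_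
    obtain ⟨hj, h1, h2⟩ := hnode i i.2
    have hp := simple_lt hc i.2
    have hp' := simple_lt hc hj
    have good : ∀ r r' l, r < D.nroots → r' < D.nroots → isoOK1 D A d r r' l = true →
        (∀ u : K, ColTri D d.li (xg D K r' u : Matrix D.Idx D.Idx K)) → ∀ t : K, Good (xg D K r t) := by
      intro r r' l hr hr' h1 h2 t
      obtain ⟨e1, e2, e3⟩ := iso_gen hc hm hr hr' h h1 t
      exact ⟨e1, e2, _, xg_mem_group hc hr' _, h2 _, e3⟩
    refine ⟨⟨good _ _ _ hp hp' h1 (fun u => hall _ hp' ⟨⟨_, hj⟩, Or.inl rfl⟩ u) t, ?_⟩,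
      good _ _ _ (negI_lt hp) (negI_lt hp') h2 (fun u => hall _ (negI_lt hp') ⟨⟨_, hj⟩, Or.inr rfl⟩ u) t, ?_⟩
    · rw [xg_inv hc hp]
      exact good _ _ _ hp hp' h1 (fun u => hall _ hp' ⟨⟨_, hj⟩, Or.inl rfl⟩ u) _
    · rw [xg_inv hc (negI_lt hp)]
      exact good _ _ _ (negI_lt hp) (negI_lt hp') h2 (fun u => hall _ (negI_lt hp') ⟨⟨_, hj⟩, Or.inr rfl⟩ u) _
  have hex : ∀ g : ↥(D.group K), ∃ g' : ↥(D.group K), ColTri D d.li ((g' : GL D.Idx K) : Matrix D.Idx D.Idx K) ∧
      R g g' := fun g => by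
    obtain ⟨-, -, g', hg', h3, h4⟩ := (hT g.2).1
    exact ⟨⟨g', hg'⟩, h3, h4⟩
  have huniq : ∀ (g : GL D.Idx K) (a b : ↥(D.group K)), R g a → R g b → a = b := by
    intro g a b ha hb
    have e : subMat D d.li hI [] ((a : GL D.Idx K) : Matrix D.Idx D.Idx K) =
        subMat D d.li hI [] ((b : GL D.Idx K) : Matrix D.Idx D.Idx K) := by
      have := ha.symm.trans hb
      ext i j
      have h' := congrFun (congrFun this (Fin.cast hlen i)) (Fin.cast hlen j)
      simpa using h'
    have hab : (a : GL D.Idx K)⁻¹ * b = 1 := by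
      refine hinj _ ((D.group K).mul_mem ((D.group K).inv_mem a.2) b.2) ?_
      rw [Units.val_mul, subMat_mul hI hn1 hs1 (Or.inl (hT b.2).1.1), ← e,
        ← subMat_mul hI hn1 hs1 (Or.inl (hT a.2).1.1), ← Units.val_mul, inv_mul_cancel, Units.val_one,
        subMat_one hI hn1 hs1]
    exact Subtype.ext (inv_mul_eq_one.1 hab)
  choose f hf1 hf2 using hex
  refine ⟨MonoidHom.mk' f fun a b => huniq _ _ _ (hf2 (a * b))
    (Rmul (hT a.2).1.2.1 (hf1 b) (hf2 a) (hf2 b)), fun r r' l hr hr' h1 t g e => ?_, fun i t g => ?_⟩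
  · refine congrArg Subtype.val (huniq _ (f g) ⟨_, xg_mem_group hc hr' _⟩ (hf2 g) ?_)
    rw [e]; exact (iso_gen hc hm hr hr' h h1 t).2.2
  obtain ⟨hj, h1, h2⟩ := hnode i i.2
  have hp := simple_lt hc i.2
  have hp' := simple_lt hc hj
  refine ⟨fun e => ?_, fun e => ?_⟩
  · refine congrArg Subtype.val (huniq _ (f g) ⟨_, xg_mem_group hc hp' _⟩ (hf2 g) ?_)
    rw [e]; exact (iso_gen hc hm hp hp' h h1 t).2.2
  · refine congrArg Subtype.val (huniq _ (f g) ⟨_, xg_mem_group hc (negI_lt hp') _⟩ (hf2 g) ?_)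
    rw [e]; exact (iso_gen hc hm (negI_lt hp) (negI_lt hp') h h2 t).2.2

/-- the checks for the symmetry -/
def symOK (D : ChevalleyDatum) (A : Aux) (d : IsoData) : Bool :=
  decide ((List.range D.rank).map fun i => d.node.getD i 0).Nodup &&
  decide ((List.range D.nroots).map fun s => d.root.getD s 0).Nodup &&
  (allB D.rank fun i => Nat.blt (d.node.getD i 0) D.rank &&
    Nat.beq (d.root.getD (D.simple i) 0) (D.simple (d.node.getD i 0)) &&
    allB D.nroots fun s => Nat.beq (d.root.getD (A.w i s) 0) (A.w (d.node.getD i 0) (d.root.getD s 0))) &&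
  allB D.nroots fun s => Nat.blt (d.root.getD s 0) D.nroots &&
    Nat.beq (d.root.getD (negI D s) 0) (negI D (d.root.getD s 0)) && (A.pos (d.root.getD s 0) == A.pos s)

theorem symOK_spec (h : symOK D A d = true) :
    (∀ i : Fin D.rank, d.node.getD i 0 < D.rank) ∧ (∀ s : Fin D.nroots, d.root.getD s 0 < D.nroots) ∧
    (∀ i j : Fin D.rank, d.node.getD i 0 = d.node.getD j 0 → i = j) ∧
    (∀ s t : Fin D.nroots, d.root.getD s 0 = d.root.getD t 0 → s = t) ∧
    (∀ i : Fin D.rank, d.root.getD (D.simple i) 0 = D.simple (d.node.getD i 0)) ∧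
    (∀ (i : Fin D.rank) (s : Fin D.nroots),
      d.root.getD (A.w i s) 0 = A.w (d.node.getD i 0) (d.root.getD s 0)) ∧
    (∀ s : Fin D.nroots, d.root.getD (negI D s) 0 = negI D (d.root.getD s 0)) ∧
    ∀ s : Fin D.nroots, A.pos (d.root.getD s 0) = A.pos s := by
  simp only [symOK, Bool.and_eq_true, decide_eq_true_eq, allB_iff, Nat.blt_eq, Nat.beq_eq, beq_iff_eq] at h
  obtain ⟨⟨⟨h1, h2⟩, h3⟩, h4⟩ := h
  refine ⟨fun i => (h3 i i.2).1.1, fun s => (h4 s s.2).1.1, fun i j e => Fin.ext ?_, fun s t e => Fin.ext ?_,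
    fun i => (h3 i i.2).1.2, fun i s => (h3 i i.2).2 s s.2, fun s => (h4 s s.2).1.2, fun s => (h4 s s.2).2⟩
  · exact List.inj_on_of_nodup_map h1 (List.mem_range.2 i.2) (List.mem_range.2 j.2) e
  · exact List.inj_on_of_nodup_map h2 (List.mem_range.2 s.2) (List.mem_range.2 t.2) e

/-- the node symmetry -/
noncomputable def nodePerm (h : symOK D A d = true) : Equiv.Perm (Fin D.rank) :=
  Equiv.ofBijective (fun i => ⟨d.node.getD i 0, (symOK_spec h).1 i⟩)
    (Finite.injective_iff_bijective.1 fun i j e => (symOK_spec h).2.2.1 i j (congrArg Fin.val e))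

/-- the root symmetry -/
noncomputable def rootPerm (h : symOK D A d = true) : Equiv.Perm (Fin D.nroots) :=
  Equiv.ofBijective (fun s => ⟨d.root.getD s 0, (symOK_spec h).2.1 s⟩)
    (Finite.injective_iff_bijective.1 fun s t e => (symOK_spec h).2.2.2.1 s t (congrArg Fin.val e))

include hc in
/-- the twisting endomorphism, with its effect on further root elements -/
theorem exists_sigma_roots (h : isoOK D A d = true) (hs : symOK D A d = true) (hm : (d.md : K) = 0)
    (hinj : ∀ g ∈ D.group K, subMat D d.li (isoOK_spec h).2.2.2.1 [] (g : Matrix D.Idx D.Idx K) = 1 → g = 1)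
    (θ : K ≃+* K) (φ : Fin D.rank → (K ≃+* K)) (hφ : ∀ i t, φ i t = θ t ^ d.lam.getD i 0) :
    ∃ S : Sigma hc K, S.node = nodePerm hs ∧ S.root = rootPerm hs ∧ S.phi = φ ∧
      ∀ r r' l : ℕ, r < D.nroots → r' < D.nroots → isoOK1 D A d r r' l = true →
        ∀ t : K, S.app (xg D K r t) = xg D K r' (θ t ^ l) := by
  obtain ⟨ψ, hr, hψ⟩ := exists_iso hc h hm hinj
  obtain ⟨h1, h2, -, -, h5, h6, h7, h8⟩ := symOK_spec hs
  refine ⟨{ hom := ψ.comp (fieldAut hc θ).toMonoidHom
            node := nodePerm hs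
            root := rootPerm hs
            phi := φ
            root_simple := fun i => Fin.ext (h5 i)
            root_neg := fun s => Fin.ext (h7 s)
            root_pos := fun s => h8 s
            root_sig := fun i => Equiv.ext fun s => Fin.ext (h6 i s)
            hom_pos := fun i t => ?_
            hom_neg := fun i t => ?_ }, rfl, rfl, rfl, fun r r' l hr1 hr2 h' t => ?_⟩
  · rw [hφ]
    refine (hψ i (θ t) (fieldAut hc θ ⟨xg D K (D.simple i) t, xg_mem_group hc (simple_lt hc i.2) t⟩)).1 ?_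
    exact map_xg hc (θ : K →+* K) (simple_lt hc i.2) t
  · rw [hφ]
    refine (hψ i (θ t)
      (fieldAut hc θ ⟨xg D K (negI D (D.simple i)) t, xg_mem_group hc (negI_lt (simple_lt hc i.2)) t⟩)).2 ?_
    exact map_xg hc (θ : K →+* K) (negI_lt (simple_lt hc i.2)) t
  · rw [Sigma.app_eq _ (xg_mem_group hc hr1 t)]
    exact hr r r' l hr1 hr2 h' (θ t) (fieldAut hc θ ⟨xg D K r t, xg_mem_group hc hr1 t⟩)
      (map_xg hc (θ : K →+* K) hr1 t)

include hc in
/-- the twisting endomorphism -/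
theorem exists_sigma (h : isoOK D A d = true) (hs : symOK D A d = true) (hm : (d.md : K) = 0)
    (hinj : ∀ g ∈ D.group K, subMat D d.li (isoOK_spec h).2.2.2.1 [] (g : Matrix D.Idx D.Idx K) = 1 → g = 1)
    (θ : K ≃+* K) (φ : Fin D.rank → (K ≃+* K)) (hφ : ∀ i t, φ i t = θ t ^ d.lam.getD i 0) :
    ∃ S : Sigma hc K, S.node = nodePerm hs ∧ S.root = rootPerm hs ∧ S.phi = φ := by
  obtain ⟨S, h1, h2, h3, -⟩ := exists_sigma_roots hc h hs hm hinj θ φ hφ
  exact ⟨S, h1, h2, h3⟩

end Cfsg.Lib.Tw
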