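/-
Certified orbit data for a symmetry read off tables.
-/
import Cfsg.Agent.Lib.Tw.Orbits
import Cfsg.Agent.Lib.Tw.Isogeny

set_option autoImplicit false

namespace Cfsg.Lib.Tw

open Cfsg.Lie Cfsg.Lib.Chev

/-- the orbits on the nodes, the longest words and the words for the elements of each small Weyl group -/
structure OrbData where
  /-- the orbits -/
  os : List (List ℕ)
  /-- the longest words -/
  ws : List (List ℕ)
  /-- words for all elements of the small Weyl groups -/
  wl : List (List (List ℕ))

/-- the action of a word on root indices -/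
def wAct (A : Aux) (L : List ℕ) (s : ℕ) : ℕ := L.foldr A.w s

/-- a list of numbers as elements of `Fin n` -/
def toFins (n : ℕ) (L : List ℕ) : List (Fin n) :=
  L.filterMap fun i => if h : i < n then some ⟨i, h⟩ else none

theorem mem_toFins {n : ℕ} {L : List ℕ} {i : Fin n} : i ∈ toFins n L ↔ (i : ℕ) ∈ L := by
  simp only [toFins, List.mem_filterMap]
  constructor
  · rintro ⟨a, ha, h⟩
    split at h
    · obtain rfl := Option.some.inj h; exact ha
    · simp at h
  · intro h
    exact ⟨i, h, by rw [dif_pos i.2]⟩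

theorem map_val_toFins {n : ℕ} : ∀ {L : List ℕ}, (∀ i ∈ L, i < n) → (toFins n L).map Fin.val = L
  | [], _ => rfl
  | a :: L, h => by
    have := map_val_toFins (n := n) (L := L) fun i hi => h i (List.mem_cons_of_mem _ hi)
    simp only [toFins, List.filterMap_cons, dif_pos (h a List.mem_cons_self), List.map_cons] at this ⊢
    rw [this]

variable {D : ChevalleyDatum} {A : Aux}

theorem wp_val (hc : Cert D A) : ∀ (L : List (Fin D.rank)) (s : Fin D.nroots),
    ((wp hc L s : Fin D.nroots) : ℕ) = wAct A (L.map Fin.val) s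
  | [], s => rfl
  | i :: L, s => by
    rw [wp_cons, Equiv.Perm.mul_apply, sig_apply, wp_val hc L s]
    rfl

/-- the checks -/
def orbOK (D : ChevalleyDatum) (A : Aux) (d : IsoData) (o : OrbData) : Bool :=
  (allB D.rank fun i => o.os.any fun L => L.contains i) &&
  allB o.os.length fun J =>
    ((o.os.getD J []).all fun i => (o.os.getD J []).all fun j =>
      (List.range D.rank).any fun k => Nat.beq ((fun x => d.node.getD x 0)^[k] i) j) &&
    ((o.os.getD J []).all fun i => Nat.blt i D.rank && !(A.pos (wAct A (o.ws.getD J []) (D.simple i)))) &&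
    ((o.ws.getD J []).all fun i => Nat.blt i D.rank && (o.os.getD J []).contains i) &&
    (allB D.nroots fun s =>
      Nat.beq (d.root.getD (wAct A (o.ws.getD J []) s) 0) (wAct A (o.ws.getD J []) (d.root.getD s 0)) &&
      (!(A.pos s) || A.pos (wAct A (o.ws.getD J []) s) ||
        allB D.rank fun m => (o.os.getD J []).contains m || decide (A.co m s = 0))) &&
    ((o.wl.getD J []).all fun L => L.all fun i => Nat.blt i D.rank) &&
    (o.wl.getD J []).contains [] &&
    ((o.os.getD J []).all fun i => (o.wl.getD J []).all fun L =>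
      (o.wl.getD J []).any fun L' => allB D.nroots fun s => Nat.beq (wAct A (i :: L) s) (wAct A L' s)) &&
    ((o.wl.getD J []).all fun L =>
      !(allB D.nroots fun s => Nat.beq (d.root.getD (wAct A L s) 0) (wAct A L (d.root.getD s 0))) ||
      (allB D.nroots fun s => Nat.beq (wAct A L s) s) ||
      (allB D.nroots fun s => Nat.beq (wAct A L s) (wAct A (o.ws.getD J []) s)))

variable {hc : Cert D A} {K : Type*} [Field K] (S : Sigma hc K) {d : IsoData}

theorem rootPerm_val (hs : symOK D A d = true) (s : Fin D.nroots) :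
    ((rootPerm hs s : Fin D.nroots) : ℕ) = d.root.getD s 0 := rfl

theorem nodePerm_pow_val (hs : symOK D A d = true) (i : Fin D.rank) : ∀ k : ℕ,
    (((nodePerm hs ^ k : Equiv.Perm (Fin D.rank)) i : Fin D.rank) : ℕ) = (fun x => d.node.getD x 0)^[k] i
  | 0 => rfl
  | k + 1 => by
    rw [pow_succ', Equiv.Perm.mul_apply, Function.iterate_succ_apply', ← nodePerm_pow_val hs i k]
    rfl

variable {S}

theorem tw_eq_iff (hs : symOK D A d = true) (hr : S.root = rootPerm hs) (L : List (Fin D.rank)) :
    S.tw (wp hc L) = wp hc L ↔ ∀ s : Fin D.nroots,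
      d.root.getD (wAct A (L.map Fin.val) s) 0 = wAct A (L.map Fin.val) (d.root.getD s 0) := by
  constructor
  · intro h s
    have := congrArg Fin.val (S.tw_apply (wp hc L) s)
    rw [h, hr, wp_val, rootPerm_val, rootPerm_val, wp_val] at this
    exact this.symm
  · intro h
    refine Equiv.ext fun s => ?_
    obtain ⟨s, rfl⟩ := S.root.surjective s
    rw [S.tw_apply]
    refine Fin.ext ?_
    rw [hr, wp_val, rootPerm_val, rootPerm_val, wp_val]
    exact h s

/-- the orbits from checked data -/
theorem exists_orbits (hs : symOK D A d = true) {o : OrbData} (ho : orbOK D A d o = true)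
    (hn : S.node = nodePerm hs) (hr : S.root = rootPerm hs) :
    ∃ O : Orbits S, ∃ e : O.no = o.os.length,
      ∀ J, O.nd J = toFins D.rank (o.os.getD (Fin.cast e J) []) ∧
        O.wJ J = toFins D.rank (o.ws.getD (Fin.cast e J) []) := by
  simp only [orbOK, Bool.and_eq_true, allB_iff, List.all_eq_true, List.any_eq_true, List.mem_range,
    Nat.beq_eq, Nat.blt_eq, Bool.or_eq_true, Bool.not_eq_true',
    decide_eq_true_eq, List.contains_eq_mem] at ho
  obtain ⟨hcov, hJ⟩ := ho
  have hval : ∀ J : Fin o.os.length, (toFins D.rank (o.ws.getD J [])).map Fin.val = o.ws.getD J [] := fun J =>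
    map_val_toFins fun i hi => ((hJ J J.2).1.1.1.1.1.2 i hi).1
  refine ⟨{ no := o.os.length
            nd := fun J => toFins D.rank (o.os.getD J [])
            wJ := fun J => toFins D.rank (o.ws.getD J [])
            cover := fun i => ?_
            trans := fun J i hi j hj => ?_
            comm := fun J => ?_
            neg := fun J i hi => ?_
            supp := fun J s h1 h2 m hm => ?_
            letters := fun J i hi => ?_
            smallW := fun J π hπ hfix => ?_ }, rfl, fun J => ⟨rfl, rfl⟩⟩
  · obtain ⟨L, hL, hi⟩ := hcov i i.2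
    obtain ⟨n, hn', e⟩ := List.getElem_of_mem hL
    exact ⟨⟨n, hn'⟩, mem_toFins.2 (by rw [List.getD_eq_getElem _ _ hn', e]; exact hi)⟩
  · obtain ⟨k, -, e⟩ := (hJ J J.2).1.1.1.1.1.1.1 _ (mem_toFins.1 hi) _ (mem_toFins.1 hj)
    refine ⟨k, Fin.ext ?_⟩
    rw [hn, nodePerm_pow_val hs]
    exact e
  · refine (tw_eq_iff hs hr _).2 fun s => ?_
    rw [hval]
    exact ((hJ J J.2).1.1.1.1.2 s s.2).1
  · rw [wp_val, hval]
    exact ((hJ J J.2).1.1.1.1.1.1.2 _ (mem_toFins.1 hi)).2
  · rcases ((hJ J J.2).1.1.1.1.2 s s.2).2 with (h0 | h0) | h0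
    · rw [h0] at h1; simp at h1
    · rw [wp_val, hval] at h2; rw [h2] at h0; simp at h0
    · exact (h0 m m.2).resolve_left fun h => hm (mem_toFins.2 h)
  · exact mem_toFins.2 (((hJ J J.2).1.1.1.1.1.2 _ (mem_toFins.1 hi)).2)
  · obtain ⟨⟨⟨⟨-, hlt⟩, hnil⟩, hcl⟩, hsm⟩ := hJ J J.2
    have key : ∃ L ∈ o.wl.getD J [], π = wp hc (toFins D.rank L) := by
      have hstep : ∀ (i : Fin D.rank), i ∈ toFins D.rank (o.os.getD J []) → ∀ π',
          (∃ L ∈ o.wl.getD J [], π' = wp hc (toFins D.rank L)) →
          ∃ L ∈ o.wl.getD J [], sig hc i * π' = wp hc (toFins D.rank L) := by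
        rintro i hi _ ⟨L, hL, rfl⟩
        obtain ⟨L', hL', e⟩ := hcl _ (mem_toFins.1 hi) L hL
        refine ⟨L', hL', Equiv.ext fun s => Fin.ext ?_⟩
        rw [← wp_cons, wp_val, wp_val, List.map_cons, map_val_toFins (fun x hx => hlt L hL x hx),
          map_val_toFins (fun x hx => hlt L' hL' x hx)]
        exact e s s.2
      clear hfix
      induction hπ using Subgroup.closure_induction_left with
      | one => exact ⟨[], hnil, rfl⟩
      | mul_left x hx y _ ih =>
        obtain ⟨i, hi, rfl⟩ := hx
        exact hstep i hi y ih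
      | inv_mul_cancel x hx y _ ih =>
        obtain ⟨i, hi, rfl⟩ := hx
        rw [sig_inv]
        exact hstep i hi y ih
    obtain ⟨L, hL, rfl⟩ := key
    have hlL : (toFins D.rank L).map Fin.val = L := map_val_toFins fun x hx => hlt L hL x hx
    rcases hsm L hL with (h0 | h0) | h0
    · exfalso
      have h' := (tw_eq_iff hs hr _).1 hfix
      rw [hlL] at h'
      have : (allB D.nroots fun s => Nat.beq (d.root.getD (wAct A L s) 0) (wAct A L (d.root.getD s 0))) = true :=
        (allB_iff).2 fun s hs' => Nat.beq_eq.mpr (h' ⟨s, hs'⟩)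
      rw [this] at h0
      exact absurd h0 (by decide)
    · left
      refine Equiv.ext fun s => Fin.ext ?_
      rw [wp_val, hlL]
      exact h0 s s.2
    · right
      refine Equiv.ext fun s => Fin.ext ?_
      rw [wp_val, wp_val, hlL, hval]
      exact h0 s s.2

end Cfsg.Lib.Tw
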