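/-
Minimal coset representatives along a chain of orbits: the length polynomial of a twisted Weyl group.
-/
import Cfsg.Agent.Lib.Tw.OrbData
import Cfsg.Agent.Lib.Tw.Fix
import Cfsg.Agent.Lib.Chev.Reps

set_option autoImplicit false

namespace Cfsg.Lib.Tw

open Cfsg.Lie Cfsg.Lib.Chev

variable {D : ChevalleyDatum} {A : Aux} (hc : Cert D A)

/-- the subgroup generated by the reflections in a set of nodes -/
def WP (hc : Cert D A) (P : ℕ → Prop) : Subgroup (Equiv.Perm (Fin D.nroots)) :=
  Subgroup.closure {π | ∃ i : Fin D.rank, P i ∧ sig hc i = π}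

include hc in
theorem co_of_mem_WP {P : ℕ → Prop} {v : Equiv.Perm (Fin D.nroots)} (hv : v ∈ WP hc P) :
    ∀ (s : Fin D.nroots) (m : ℕ), m < D.rank → ¬ P m → A.co m (v s) = A.co m s := by
  induction hv using Subgroup.closure_induction with
  | mem x hx =>
    obtain ⟨i, hi, rfl⟩ := hx
    intro s m hm hkm
    rw [sig_apply, co_w hc i.2 hm s.2, if_neg (fun e => hkm (by subst e; exact hi)), sub_zero]
  | one => intros; rfl
  | mul x y _ _ hx hy =>
    intro s m hm hkm
    rw [Equiv.Perm.mul_apply, hx _ m hm hkm, hy _ m hm hkm]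
  | inv x _ hx =>
    intro s m hm hkm
    have := hx (x⁻¹ s) m hm hkm
    rw [show x (x⁻¹ s) = s from x.apply_symm_apply s] at this
    exact this.symm

include hc in
/-- lengths add on a minimal representative -/
theorem len_mul_of_minP {d v : Equiv.Perm (Fin D.nroots)} {P : ℕ → Prop} (hd : IsRootAut D A d)
    (hmin : ∀ j : Fin D.rank, P j → A.pos (d (sR hc j)) = true) (hv : v ∈ WP hc P) :
    len D A (d * v) = len D A d + len D A v := by
  classical
  obtain ⟨M, hM⟩ := hd.linear
  -- roots supported on the first `k` nodes keep their sign under `d`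
  have hsub : ∀ s : Fin D.nroots, (∀ m < D.rank, ¬ P m → A.co m s = 0) → A.pos (d s) = A.pos s := by
    have hpos : ∀ s : Fin D.nroots, (∀ m < D.rank, ¬ P m → A.co m s = 0) → A.pos s = true →
        A.pos (d s) = true := by
      intro s hs hp
      cases hq : A.pos (d s) with
      | true => rfl
      | false =>
        exfalso
        obtain ⟨j, hj, hne⟩ := exists_cc_ne_zero hc (d s).2
        refine hne ((cc_eq_zero_iff hc hj (d s).2).2 (le_antisymm (co_nonpos hc hj (d s).2 hq).1 ?_))
        rw [hM s j hj]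
        refine Finset.sum_nonneg fun m hm => ?_
        rw [Finset.mem_range] at hm
        rcases Classical.em (P m) with hmk | hmk
        · have e := hM (sR hc ⟨m, hm⟩) j hj
          rw [Finset.sum_eq_single m] at e
          · simp only [sR, co_simple hc hm hm, if_true, mul_one] at e
            refine mul_nonneg ?_ (co_nonneg hc hm s.2 hp).1
            rw [← e]
            exact (co_nonneg hc hj (d _).2 (hmin ⟨m, hm⟩ hmk)).1
          · intro b hb hne; simp only [sR]; rw [co_simple hc hm (Finset.mem_range.1 hb), if_neg hne, mul_zero]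
          · intro h; exact absurd (Finset.mem_range.2 hm) h
        · rw [hs m hm hmk, mul_zero]
    intro s hs
    cases hp : A.pos s with
    | true => exact hpos s hs hp
    | false =>
      have := hpos (nR s) (fun m hm hmk => by
        show A.co m (negI D s) = 0
        rw [co_neg hc hm s.2, hs m hm hmk, neg_zero]) (by rw [pos_nR _ hc, hp]; rfl)
      rw [hd.neg, pos_nR _ hc] at this
      simpa using this
  -- roots off the first `k` nodes keep their sign under `v`
  have hoff : ∀ s : Fin D.nroots, ¬ (∀ m < D.rank, ¬ P m → A.co m s = 0) → A.pos (v s) = A.pos s := by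
    intro s hs
    push Not at hs
    obtain ⟨m, hm, hmk, hne⟩ := hs
    have e := co_of_mem_WP hc hv s m hm hmk
    cases hp : A.pos s <;> cases hq : A.pos (v s) <;> try rfl
    · have := (co_nonpos hc hm s.2 hp).1
      have := (co_nonneg hc hm (v s).2 hq).1
      omega
    · have := (co_nonneg hc hm s.2 hp).1
      have := (co_nonpos hc hm (v s).2 hq).1
      omega
  have hvcl : ∀ s : Fin D.nroots, (∀ m < D.rank, ¬ P m → A.co m (v s) = 0) ↔
      (∀ m < D.rank, ¬ P m → A.co m s = 0) := fun s =>
    forall₃_congr fun m hm hmk => by rw [co_of_mem_WP hc hv s m hm hmk]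
  have e : (Finset.univ.filter fun s : Fin D.nroots => A.pos s = true ∧ A.pos ((d * v) s) = false) =
      (Finset.univ.filter fun s : Fin D.nroots => A.pos s = true ∧ A.pos (v s) = false) ∪
        (Finset.univ.filter fun s : Fin D.nroots => A.pos s = true ∧ A.pos (d s) = false).image (v⁻¹ ·) := by
    ext s
    rw [Finset.mem_filter, Finset.mem_union, Finset.mem_filter, Finset.mem_image]
    simp only [Finset.mem_filter, Finset.mem_univ, true_and, Equiv.Perm.mul_apply]
    constructor
    · rintro ⟨h1, h2⟩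
      by_cases hs : ∀ m < D.rank, ¬ P m → A.co m s = 0
      · exact Or.inl ⟨h1, by rw [← hsub (v s) ((hvcl s).2 hs)]; exact h2⟩
      · exact Or.inr ⟨v s, ⟨by rw [hoff s hs, h1], h2⟩, v.symm_apply_apply s⟩
    · rintro (⟨h1, h2⟩ | ⟨t, ⟨h1, h2⟩, rfl⟩)
      · have hs : ∀ m < D.rank, ¬ P m → A.co m s = 0 := by
          by_contra h
          rw [hoff s h, h1] at h2
          cases h2
        exact ⟨h1, by rw [hsub (v s) ((hvcl s).2 hs)]; exact h2⟩
      · rw [show v (v⁻¹ t) = t from v.apply_symm_apply t]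
        refine ⟨?_, h2⟩
        have hs : ¬ ∀ m < D.rank, ¬ P m → A.co m (v⁻¹ t : Fin D.nroots) = 0 := fun h => by
          have h' := (hvcl (v⁻¹ t)).2 h
          rw [show v (v⁻¹ t) = t from v.apply_symm_apply t] at h'
          rw [hsub t h', h1] at h2
          cases h2
        have := hoff _ hs
        rw [show v (v⁻¹ t) = t from v.apply_symm_apply t, h1] at this
        exact this.symm
  unfold len
  rw [e, Finset.card_union_of_disjoint, Finset.card_image_of_injective _ (v⁻¹).injective, Nat.add_comm]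
  rw [Finset.disjoint_left]
  intro s h1 h2
  rw [Finset.mem_filter] at h1
  obtain ⟨t, ht, rfl⟩ := Finset.mem_image.1 h2
  rw [Finset.mem_filter] at ht
  rw [show v (v⁻¹ t) = t from v.apply_symm_apply t, ht.2.1] at h1
  cases h1.2.2

/-- a word in orbits as a word in nodes -/
def expand (ws : List (List ℕ)) (L : List ℕ) : List ℕ := L.flatMap fun i => ws.getD i []

/-- checks for one step of the chain -/
def tstepOK (D : ChevalleyDatum) (A : Aux) (o : OrbData) (e k : ℕ) (R nx : List (List ℕ)) : Bool :=
  Nat.blt k o.os.length && Nat.beq (R.getD 0 [0]).length 0 && Nat.blt 0 R.length &&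
    (allB o.os.length fun j => (o.os.getD j []).all (fun i => Nat.blt i D.rank) &&
      (o.ws.getD j []).all (fun i => (o.os.getD j []).contains i) &&
      Nat.beq (imgCode D A (o.ws.getD j [] ++ o.ws.getD j [])) (imgCode D A [])) &&
    allB R.length (fun d =>
      let L := R.getD d []
      (L.all fun i => Nat.ble i k) && redOK D A (expand o.ws L) &&
        Nat.beq ((expand o.ws L).length % e) 0 &&
        (allB k fun j => (o.os.getD j []).all fun i => A.pos (wordApp A (expand o.ws L) (D.simple i))) &&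
        allB (k + 1) fun i =>
          let t := (nx.getD d []).getD i 0
          if t < R.length then
            Nat.beq (imgCode D A (expand o.ws (i :: L))) (imgCode D A (expand o.ws (R.getD t [])))
          else Nat.blt (t - R.length) k &&
            Nat.beq (imgCode D A (expand o.ws (i :: L))) (imgCode D A (expand o.ws (L ++ [t - R.length])))) &&
    decide ((R.map fun L => imgCode D A (expand o.ws L)).Nodup)

variable {hc} {K : Type*} [Field K] {S : Sigma hc K} (O : Orbits S)

/-- the subgroup generated by the first `k` orbit elements -/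
def W1k (k : ℕ) : Subgroup (Equiv.Perm (Fin D.nroots)) :=
  Subgroup.closure {π | ∃ J : Fin O.no, (J : ℕ) < k ∧ O.piJ J = π}

open scoped Classical in
/-- the weighted length polynomial of a stage of the chain -/
noncomputable def twPoin (e k q : ℕ) : ℕ :=
  ∑ π ∈ Finset.univ.filter (fun π => π ∈ W1k O k), q ^ (len D A π / e)

theorem twPoin_zero (e q : ℕ) : twPoin O e 0 q = 1 := by
  classical
  have h0 : W1k O 0 = ⊥ := by
    rw [W1k, show {π | ∃ J : Fin O.no, (J : ℕ) < 0 ∧ O.piJ J = π} = (∅ : Set _) from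
      Set.eq_empty_of_forall_notMem fun π ⟨i, hi, _⟩ => Nat.not_lt_zero _ hi, Subgroup.closure_empty]
  have : (Finset.univ.filter fun π => π ∈ W1k O 0) = {1} := by
    ext π; simp [h0]
  rw [twPoin, this, Finset.sum_singleton, len_one, Nat.zero_div, pow_zero]

theorem W1k_top : W1k O O.no = S.W1 := by
  rw [O.W1_eq_closure, W1k]
  congr 1
  ext π
  exact ⟨fun ⟨J, _, h⟩ => ⟨J, h⟩, fun ⟨J, h⟩ => ⟨J, J.2, h⟩⟩

theorem twPoin_succ {o : OrbData} (he : O.no = o.os.length)
    (hO : ∀ J, O.nd J = toFins D.rank (o.os.getD (Fin.cast he J) []) ∧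
      O.wJ J = toFins D.rank (o.ws.getD (Fin.cast he J) []))
    {e k : ℕ} {R nx : List (List ℕ)} (h : tstepOK D A o e k R nx = true) (q : ℕ) :
    twPoin O e (k + 1) q = (R.map fun L => q ^ ((expand o.ws L).length / e)).sum * twPoin O e k q := by
  classical
  simp only [tstepOK, Bool.and_eq_true, Nat.blt_eq, Nat.beq_eq, decide_eq_true_eq, allB_iff,
    List.all_eq_true, Nat.ble_eq, List.contains_eq_mem] at h
  obtain ⟨⟨⟨⟨⟨hk, h0⟩, hR⟩, hos⟩, hall⟩, hnd⟩ := h
  have hws : ∀ j < o.os.length, ∀ i ∈ o.ws.getD j [], i < D.rank := fun j hj i hi =>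
    (hos j hj).1.1 i ((hos j hj).1.2 i hi)
  have hexp : ∀ L : List ℕ, (∀ j ∈ L, j < o.os.length) → ∀ i ∈ expand o.ws L, i < D.rank := by
    intro L hL i hi
    obtain ⟨j, hj, hji⟩ := List.mem_flatMap.1 hi
    exact hws j (hL j hj) i hji
  have hmem : ∀ L ∈ R, (∀ j ∈ L, j < o.os.length) ∧ (∀ j ∈ L, j ≤ k) ∧ redOK D A (expand o.ws L) = true ∧
      (expand o.ws L).length % e = 0 ∧
      (∀ j < k, ∀ i ∈ o.os.getD j [], A.pos (wordApp A (expand o.ws L) (D.simple i)) = true) := by
    intro L hL
    obtain ⟨d, hd, rfl⟩ := List.getElem_of_mem hL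
    obtain ⟨⟨⟨⟨h1, h2⟩, h3⟩, h4⟩, -⟩ := hall d hd
    rw [List.getD_eq_getElem _ _ hd] at h1 h2 h3 h4
    exact ⟨fun i hi => lt_of_le_of_lt (h1 i hi) hk, h1, h2, h3, h4⟩
  let ρ : List ℕ → Equiv.Perm (Fin D.nroots) := fun L => wp hc (toWord D (expand o.ws L))
  let π₀ : ℕ → Equiv.Perm (Fin D.nroots) := fun j => wp hc (toWord D (o.ws.getD j []))
  have hπ₀ : ∀ J : Fin O.no, O.piJ J = π₀ J := fun J => by
    show wp hc (O.wJ J) = _
    rw [(hO J).2]; rfl
  have hρcons : ∀ j L, ρ (j :: L) = π₀ j * ρ L := fun j L => by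
    show wp hc (toWord D (o.ws.getD j [] ++ expand o.ws L)) = _
    rw [toWord, List.filterMap_append, wp_append]; rfl
  have hρsnoc : ∀ L j, ρ (L ++ [j]) = ρ L * π₀ j := fun L j => by
    show wp hc (toWord D (expand o.ws (L ++ [j]))) = _
    rw [expand, List.flatMap_append, List.flatMap_singleton, toWord, List.filterMap_append, wp_append]; rfl
  have hW : ∀ j, j < k → π₀ j ∈ W1k O k ∧ j < O.no := fun j hj =>
    ⟨Subgroup.subset_closure ⟨⟨j, by omega⟩, hj, hπ₀ _⟩, by omega⟩
  let P : ℕ → Prop := fun i => ∃ j < k, i ∈ o.os.getD j []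
  have hW1P : W1k O k ≤ WP hc P := by
    refine (Subgroup.closure_le _).2 ?_
    rintro x ⟨J, hJ, rfl⟩
    show O.piJ J ∈ WP hc P
    have key : ∀ L : List (Fin D.rank), (∀ i ∈ L, P i) → wp hc L ∈ WP hc P := by
      intro L
      induction L with
      | nil => intro _; exact one_mem _
      | cons i L ih =>
        intro h
        rw [wp_cons]
        exact mul_mem (Subgroup.subset_closure ⟨i, h i List.mem_cons_self, rfl⟩)
          (ih fun x hx => h x (List.mem_cons_of_mem _ hx))
    refine key _ fun i hi => ⟨J, hJ, ?_⟩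
    rw [(hO J).2] at hi
    exact (hos J (by omega)).1.2 _ (mem_toFins.1 hi)
  have hlenρ : ∀ L ∈ R, len D A (ρ L) = (expand o.ws L).length := fun L hL =>
    len_of_redOK hc (hexp L (hmem L hL).1) (hmem L hL).2.2.1
  have hlen : ∀ L ∈ R, ∀ v ∈ W1k O k, len D A (ρ L * v) = (expand o.ws L).length + len D A v := by
    intro L hL v hv
    rw [len_mul_of_minP hc (P := P) (isRootAut_wp hc _) ?_ (hW1P hv), hlenρ L hL]
    rintro i ⟨j, hj, hi⟩
    have := (hmem L hL).2.2.2.2 j hj i hi
    rwa [show D.simple i = ((sR hc i : Fin D.nroots) : ℕ) from rfl, wordApp_eq hc (hexp L (hmem L hL).1)] at this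
  let Rf : Finset (List ℕ) := R.toFinset
  let Wf : ℕ → Finset (Equiv.Perm (Fin D.nroots)) := fun k => Finset.univ.filter fun π => π ∈ W1k O k
  have hWf : ∀ k π, π ∈ Wf k ↔ π ∈ W1k O k := fun k π => by simp [Wf]
  have himg : Wf (k + 1) = (Rf ×ˢ Wf k).image fun p => ρ p.1 * p.2 := by
    ext π
    simp only [hWf, Finset.mem_image, Finset.mem_product, List.mem_toFinset, Rf, Prod.exists]
    constructor
    · intro hπ
      have step : ∀ j, j < k + 1 →
          ∀ L v, L ∈ R → v ∈ W1k O k → ∃ L' v', (L' ∈ R ∧ v' ∈ W1k O k) ∧ ρ L' * v' = π₀ j * (ρ L * v) := by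
        intro i hi L v hL hv
        obtain ⟨d, hd, rfl⟩ := List.getElem_of_mem hL
        have hn := (hall d hd).2 i hi
        rw [List.getD_eq_getElem _ _ hd] at hn
        have hLr := (hmem _ hL).1
        have hiL : ∀ x ∈ expand o.ws (i :: R[d]), x < D.rank := hexp _ (by
          rintro x (_ | ⟨_, hx⟩); exacts [by omega, hLr x hx])
        split_ifs at hn with ht
        · rw [List.getD_eq_getElem _ _ ht] at hn
          have e := wp_eq_of_imgCode hc hiL (hexp _ (hmem _ (List.getElem_mem ht)).1) (Nat.eq_of_beq_eq_true hn)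
          refine ⟨_, v, ⟨List.getElem_mem ht, hv⟩, ?_⟩
          rw [← mul_assoc, ← hρcons]
          exact congrArg (· * v) e.symm
        · simp only [Bool.and_eq_true, Nat.blt_eq, Nat.beq_eq] at hn
          obtain ⟨hj, hn⟩ := hn
          set j := (nx.getD d []).getD i 0 - R.length
          have e := wp_eq_of_imgCode hc hiL (L' := expand o.ws (R[d] ++ [j])) (hexp _ (by
            intro x hx
            rcases List.mem_append.1 hx with hx | hx
            · exact hLr x hx
            · rw [List.mem_singleton] at hx; omega)) hn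
          refine ⟨R[d], π₀ j * v, ⟨hL, mul_mem (hW j hj).1 hv⟩, ?_⟩
          rw [← mul_assoc, ← mul_assoc, ← hρsnoc, ← hρcons]
          exact congrArg (· * v) e.symm
      have h1 : R.getD 0 [0] ∈ R := by rw [List.getD_eq_getElem _ _ hR]; exact List.getElem_mem hR
      induction hπ using Subgroup.closure_induction_left with
      | one =>
        refine ⟨_, 1, ⟨h1, one_mem _⟩, ?_⟩
        show wp hc (toWord D (expand o.ws (R.getD 0 [0]))) * 1 = 1
        rw [List.eq_nil_of_length_eq_zero h0]; simp [toWord, expand]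
      | mul_left x hx y _ ih =>
        obtain ⟨J, hJ, rfl⟩ := hx
        obtain ⟨L, v, ⟨hL, hv⟩, rfl⟩ := ih
        rw [hπ₀]
        exact step J hJ L v hL hv
      | inv_mul_cancel x hx y _ ih =>
        obtain ⟨J, hJ, rfl⟩ := hx
        obtain ⟨L, v, ⟨hL, hv⟩, rfl⟩ := ih
        have hsq : O.piJ J * O.piJ J = 1 := by
          rw [hπ₀]
          have hj : (J : ℕ) < o.os.length := by omega
          have e := wp_eq_of_imgCode hc (L := o.ws.getD J [] ++ o.ws.getD J []) (L' := []) (by
            intro x hx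
            rcases List.mem_append.1 hx with hx | hx <;> exact hws J hj x hx) (by simp) (hos J hj).2
          rw [toWord, List.filterMap_append, wp_append] at e
          simpa [π₀, toWord] using e
        rw [inv_eq_of_mul_eq_one_left hsq, hπ₀]
        exact step J hJ L v hL hv
    · rintro ⟨L, v, ⟨hL, hv⟩, rfl⟩
      refine mul_mem ?_ (Subgroup.closure_mono (k := {π | ∃ J : Fin O.no, (J : ℕ) < k + 1 ∧ O.piJ J = π})
        (fun x hx => ⟨hx.choose, Nat.lt_succ_of_lt hx.choose_spec.1, hx.choose_spec.2⟩) hv)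
      have key : ∀ L : List ℕ, (∀ j ∈ L, j ≤ k) → ρ L ∈ W1k O (k + 1) := by
        intro L
        induction L with
        | nil => intro _; show wp hc (toWord D []) ∈ _; simp [toWord]
        | cons j L ih =>
          intro h
          rw [hρcons]
          have hj : j ≤ k := h j List.mem_cons_self
          exact mul_mem (Subgroup.subset_closure ⟨⟨j, by omega⟩, Nat.lt_succ_of_le hj, hπ₀ _⟩)
            (ih fun x hx => h x (List.mem_cons_of_mem _ hx))
      exact key L (hmem L hL).2.1
  have hle : W1k O k ≤ Wgrp hc := (Subgroup.closure_le _).2 (by rintro x ⟨J, _, rfl⟩; exact O.piJ_mem_Wgrp J)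
  have hinj : Set.InjOn (fun p : List ℕ × Equiv.Perm (Fin D.nroots) => ρ p.1 * p.2) ↑(Rf ×ˢ Wf k) := by
    rintro ⟨L, v⟩ hp ⟨L', v'⟩ hp' e'
    simp only [Finset.coe_product, Set.mem_prod, Finset.mem_coe, List.mem_toFinset, hWf, Rf] at hp hp' e'
    have e1 : ρ L' = ρ L * (v * v'⁻¹) := by rw [← mul_assoc, e', mul_inv_cancel_right]
    have e2 : ρ L = ρ L' * (v' * v⁻¹) := by rw [← mul_assoc, ← e', mul_inv_cancel_right]
    have hu : v * v'⁻¹ ∈ W1k O k := mul_mem hp.2 (inv_mem hp'.2)
    have hu' : v' * v⁻¹ ∈ W1k O k := mul_mem hp'.2 (inv_mem hp.2)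
    have l1 := hlen L hp.1 _ hu
    rw [← e1] at l1
    have l2 := hlen L' hp'.1 _ hu'
    rw [← e2] at l2
    have l0 := hlenρ L hp.1
    have l0' := hlenρ L' hp'.1
    have hv : v * v'⁻¹ = 1 := eq_one_of_len_eq_zero hc (hle hu) (by omega)
    rw [mul_inv_eq_one] at hv
    subst hv
    have eρ : ρ L = ρ L' := mul_right_cancel e'
    have : imgCode D A (expand o.ws L) = imgCode D A (expand o.ws L') := by
      unfold imgCode
      refine List.foldr_ext _ _ _ fun i hi c => ?_
      have hi' : i < D.rank := List.mem_range.1 hi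
      rw [show D.simple i = ((sR hc ⟨i, hi'⟩ : Fin D.nroots) : ℕ) from rfl,
        wordApp_eq hc (hexp L (hmem L hp.1).1), wordApp_eq hc (hexp L' (hmem L' hp'.1).1)]
      show ((ρ L (sR hc ⟨i, hi'⟩) : Fin D.nroots) : ℕ) + _ = (ρ L' (sR hc ⟨i, hi'⟩) : Fin D.nroots) + _
      rw [eρ]
    rw [List.inj_on_of_nodup_map hnd hp.1 hp'.1 this]
  show ∑ π ∈ Wf (k + 1), q ^ (len D A π / e) = _
  rw [himg, Finset.sum_image hinj, Finset.sum_product]
  have : ∀ L ∈ Rf, ∑ v ∈ Wf k, q ^ (len D A (ρ L * v) / e) = q ^ ((expand o.ws L).length / e) * twPoin O e k q := by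
    intro L hL
    have hL' : L ∈ R := List.mem_toFinset.1 hL
    show _ = _ * ∑ v ∈ Wf k, _
    rw [Finset.mul_sum]
    refine Finset.sum_congr rfl fun v hv => ?_
    rw [hlen L hL' v ((hWf k v).1 hv), Nat.add_div_of_dvd_right (Nat.dvd_of_mod_eq_zero (hmem L hL').2.2.2.1),
      pow_add]
  rw [Finset.sum_congr rfl this, ← Finset.sum_mul]
  congr 1
  exact List.sum_toFinset _ (List.Nodup.of_map _ hnd)

/-- the checks along the whole chain -/
def tchainOK (D : ChevalleyDatum) (A : Aux) (o : OrbData) (e : ℕ)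
    (S : List (List (List ℕ) × List (List ℕ))) : Bool :=
  Nat.beq S.length o.os.length &&
    allB S.length fun k => tstepOK D A o e k (S.getD k ([], [])).1 (S.getD k ([], [])).2

theorem twPoin_prod {o : OrbData} (he : O.no = o.os.length)
    (hO : ∀ J, O.nd J = toFins D.rank (o.os.getD (Fin.cast he J) []) ∧
      O.wJ J = toFins D.rank (o.ws.getD (Fin.cast he J) []))
    {e : ℕ} {St : List (List (List ℕ) × List (List ℕ))} (h : tchainOK D A o e St = true) (q : ℕ) :
    ∑ π ∈ S.W1fin, q ^ (len D A π / e) =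
      (St.map fun p => (p.1.map fun L => q ^ ((expand o.ws L).length / e)).sum).prod := by
  classical
  simp only [tchainOK, Bool.and_eq_true, Nat.beq_eq, allB_iff] at h
  obtain ⟨hl, hok⟩ := h
  have key : ∀ k ≤ St.length, twPoin O e k q =
      ((St.take k).map fun p => (p.1.map fun L => q ^ ((expand o.ws L).length / e)).sum).prod := by
    intro k
    induction k with
    | zero => intro _; simp [twPoin_zero]
    | succ k ih =>
      intro hk
      rw [twPoin_succ O he hO (hok k (by omega)) q, ih (by omega), List.take_add_one,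
        List.getElem?_eq_getElem (by omega), Option.toList_some, List.map_append, List.prod_append]
      rw [List.getD_eq_getElem _ _ (show k < St.length by omega)]
      simp [mul_comm]
  have e1 := key _ le_rfl
  rw [List.take_length, twPoin] at e1
  rw [← e1]
  refine Finset.sum_congr ?_ fun _ _ => rfl
  ext π
  rw [S.mem_W1fin, Finset.mem_filter, show St.length = O.no by omega, W1k_top]
  simp

end Cfsg.Lib.Tw
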