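/-
Shared lemmas for the four twisted exceptional families.
-/
import Cfsg.Agent.Lib.Tw.Fix
import Cfsg.Agent.Lib.Tw.Isogeny

set_option autoImplicit false

namespace Cfsg.Lib.Tw

open Cfsg.Lie Cfsg.Lib.Chev

variable {D : ChevalleyDatum} {A : Aux} {hc : Cert D A} {K : Type*} [Field K]

theorem exists_qAut [Fintype K] {p a N : ℕ} (hp : p.Prime) (hK : Fintype.card K = p ^ N) (ha : 0 < N) :
    ∃ θ : K ≃+* K, ∀ t, θ t = t ^ p ^ a := by
  haveI : CharP K p := by
    obtain ⟨p', hp'⟩ := CharP.exists K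
    obtain ⟨n, hpp, hn⟩ := FiniteField.card K p'
    rw [hK] at hn
    have h1 : p ∣ p' ^ (n : ℕ) := hn ▸ dvd_pow_self p ha.ne'
    obtain rfl := (Nat.prime_dvd_prime_iff_eq hp hpp).1 (hp.dvd_of_dvd_pow h1)
    exact hp'
  haveI := Fact.mk hp
  exact ⟨RingEquiv.ofBijective (iterateFrobenius K p a)
    (Finite.injective_iff_bijective.1 (iterateFrobenius K p a).injective), fun t => rfl⟩

/-- the number of solutions of `t ^ q = t` -/
theorem card_pow_eq_self [Fintype K] {q : ℕ} (hq : 2 ≤ q) (hdvd : (q - 1) ∣ Fintype.card K - 1) :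
    Nat.card {t : K // t ^ q = t} = q := by
  classical
  have h0 : (0 : K) ^ q = 0 := zero_pow (by omega)
  have e : Nat.card {t : K // t ^ q = t} = Nat.card (powMonoidHom (q - 1) : Kˣ →* Kˣ).ker + 1 := by
    let f : Option (powMonoidHom (q - 1) : Kˣ →* Kˣ).ker → {t : K // t ^ q = t} := fun o => match o with
      | none => ⟨0, h0⟩
      | some u => ⟨((u : Kˣ) : K), by
          have h := congrArg Units.val (MonoidHom.mem_ker.1 u.2)
          simp only [powMonoidHom_apply, Units.val_pow_eq_pow_val, Units.val_one] at h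
          calc ((u : Kˣ) : K) ^ q = ((u : Kˣ) : K) ^ (q - 1 + 1) := by congr 1; omega
            _ = ((u : Kˣ) : K) := by rw [pow_succ, h, one_mul]⟩
    rw [← Finite.card_option, Nat.card_congr (Equiv.ofBijective f ⟨?_, ?_⟩)]
    · rintro (_ | u) (_ | v) h
      · rfl
      · exact absurd (congrArg Subtype.val h).symm (Units.ne_zero _)
      · exact absurd (congrArg Subtype.val h) (Units.ne_zero _)
      · exact congrArg some (Subtype.ext (Units.ext (congrArg Subtype.val h)))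
    · rintro ⟨t, ht⟩
      by_cases h : t = 0
      · exact ⟨none, Subtype.ext h.symm⟩
      · refine ⟨some ⟨Units.mk0 t h, MonoidHom.mem_ker.2 (Units.ext ?_)⟩, Subtype.ext rfl⟩
        simp only [powMonoidHom_apply, Units.val_pow_eq_pow_val, Units.val_mk0, Units.val_one]
        refine mul_right_cancel₀ h ?_
        rw [one_mul, ← pow_succ, show q - 1 + 1 = q by omega, ht]
  rw [e, IsCyclic.card_powMonoidHom_ker, Nat.card_units, Nat.card_eq_fintype_card, Nat.gcd_eq_right hdvd]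
  omega

/-- the number of units with `t ^ n = 1` -/
theorem card_units_pow_eq_one [Fintype K] {n : ℕ} (hdvd : n ∣ Fintype.card K - 1) :
    Nat.card {u : Kˣ // u ^ n = 1} = n := by
  classical
  have e : {u : Kˣ // u ^ n = 1} ≃ (powMonoidHom n : Kˣ →* Kˣ).ker :=
    Equiv.subtypeEquivRight fun u => by simp [MonoidHom.mem_ker]
  rw [Nat.card_congr e, IsCyclic.card_powMonoidHom_ker, Nat.card_units, Nat.card_eq_fintype_card,
    Nat.gcd_eq_right hdvd]

/-- a word as a group element -/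
noncomputable def wordProd (D : ChevalleyDatum) (w : List (ℕ × K)) : GL D.Idx K :=
  (w.map fun p => xg D K p.1 p.2).prod

include hc in
theorem coe_wordProd : ∀ {w : List (ℕ × K)}, (∀ p ∈ w, p.1 < D.nroots) →
    (wordProd D w : Matrix D.Idx D.Idx K) = D.wordMat K w
  | [], _ => by simp [wordProd, ChevalleyDatum.wordMat]
  | p :: w, h => by
    have ih := coe_wordProd (w := w) fun x hx => h x (List.mem_cons_of_mem _ hx)
    simp only [wordProd, ChevalleyDatum.wordMat, List.map_cons, List.prod_cons, Units.val_mul] at ih ⊢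
    rw [ih, coe_xg hc (h p List.mem_cons_self)]

include hc in
theorem wordProd_mem_gen {W : Set (List (ℕ × K))} {w : List (ℕ × K)} (hw : w ∈ W)
    (hr : ∀ p ∈ w, p.1 < D.nroots) : wordProd D w ∈ D.genSubgroup K W :=
  Subgroup.subset_closure ⟨w, hw, coe_wordProd (hc := hc) hr⟩

include hc in
theorem gen_le {W : Set (List (ℕ × K))} {H : Subgroup (GL D.Idx K)}
    (h : ∀ w ∈ W, (∀ p ∈ w, p.1 < D.nroots) ∧ wordProd D w ∈ H) : D.genSubgroup K W ≤ H := by
  refine (Subgroup.closure_le _).2 ?_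
  rintro g ⟨w, hw, hg⟩
  obtain ⟨h1, h2⟩ := h w hw
  rw [show g = wordProd D w from Units.ext (hg.trans (coe_wordProd (hc := hc) h1).symm)]
  exact h2

include hc in
theorem xg_comm {r s : ℕ} (hr : r < D.nroots) (hs : s < D.nroots) (h1 : s ≠ r) (h2 : s ≠ negI D r)
    (h : D.commTerms r s = []) (t u : K) : Commute (xg D K r t) (xg D K s u) := by
  refine Units.ext ?_
  simp only [Units.val_mul, coe_xg hc hr, coe_xg hc hs]
  rw [comm_formula hc hr hs h1 h2 t u]
  simp [ChevalleyDatum.commWord, h, ChevalleyDatum.wordMat]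

/-- an element of the group is determined by its full block -/
theorem subMat_full {ls : List ℕ} (hb : ∀ x ∈ ls, x < dim D) (hnd : ls.Nodup)
    (hall : ∀ x < dim D, x ∈ ls) {g : GL D.Idx K}
    (h : subMat D ls hb [] (g : Matrix D.Idx D.Idx K) = 1) : g = 1 := by
  refine Units.ext ?_
  ext a b
  obtain ⟨i, hi, ei⟩ := List.getElem_of_mem (hall _ (enc D a).2)
  obtain ⟨j, hj, ej⟩ := List.getElem_of_mem (hall _ (enc D b).2)
  have ea : (enc D).symm ⟨ls[i], hb _ (List.getElem_mem hi)⟩ = a :=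
    (Equiv.symm_apply_eq _).2 (Fin.ext ei)
  have eb : (enc D).symm ⟨ls[j], hb _ (List.getElem_mem hj)⟩ = b :=
    (Equiv.symm_apply_eq _).2 (Fin.ext ej)
  have h' := congrFun (congrFun h ⟨i, hi⟩) ⟨j, hj⟩
  simp only [subMat, Matrix.of_apply] at h'
  rw [ea, eb] at h'
  rw [Units.val_one]
  by_cases hab : a = b
  · have hij : (⟨i, hi⟩ : Fin ls.length) = ⟨j, hj⟩ := by
      refine Fin.ext ((hnd.getElem_inj_iff (hi := hi) (hj := hj)).1 ?_)
      rw [ei, ej, hab]
    subst hab
    rw [Matrix.one_apply_eq]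
    rw [hij, Matrix.one_apply_eq] at h'
    simpa using h'
  · have hij : (⟨i, hi⟩ : Fin ls.length) ≠ ⟨j, hj⟩ := fun e => by
      obtain rfl : i = j := congrArg Fin.val e
      exact hab (ea.symm.trans eb)
    rw [Matrix.one_apply_ne hab]
    rw [Matrix.one_apply_ne hij] at h'
    simpa using h'

/-! ### the fixed part of the torus -/

/-- twisting as a homomorphism -/
noncomputable def Sigma.twTHom (S : Sigma hc K) : (Fin D.rank → Kˣ) →* (Fin D.rank → Kˣ) where
  toFun := S.twT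
  map_one' := by funext j; simp [Sigma.twT]
  map_mul' a b := by funext j; simp [Sigma.twT]

/-- the fixed torus coordinates -/
noncomputable def Sigma.fixT (S : Sigma hc K) : Subgroup (Fin D.rank → Kˣ) :=
  MonoidHom.eqLocus S.twTHom (MonoidHom.id _)

variable (S : Sigma hc K)

theorem Sigma.mem_fixT {c : Fin D.rank → Kˣ} : c ∈ S.fixT ↔ S.twT c = c := Iff.rfl

theorem Sigma.mem_fixT_iff {c : Fin D.rank → Kˣ} :
    c ∈ S.fixT ↔ ∀ i, (c (S.node i) : K) = S.phi i (c i : K) := by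
  rw [S.mem_fixT]
  constructor
  · intro h i; rw [← S.twT_apply, h]
  · intro h
    funext j
    obtain ⟨i, rfl⟩ := S.node.surjective j
    exact Units.ext ((S.twT_apply c i).trans (h i).symm)

include hc in
theorem torusFin_mem (c : Fin D.rank → Kˣ) : torusFin D A K c ∈ D.diagonalSubgroup K := by
  rw [← range_torusFin hc]; exact ⟨c, rfl⟩

theorem Sigma.H_fix_eq (hobs : ∀ c, S.twT c * c⁻¹ ∈ (torusFin D A K).ker →
    ∃ z ∈ (torusFin D A K).ker, c * z ∈ S.fixT) :
    D.diagonalSubgroup K ⊓ S.fix = S.fixT.map (torusFin D A K) := by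
  apply le_antisymm
  · rintro g ⟨hg, -, hf⟩
    rw [← range_torusFin hc] at hg
    obtain ⟨c, rfl⟩ := hg
    rw [S.app_torusFin] at hf
    obtain ⟨z, hz, hcz⟩ := hobs c (by rw [MonoidHom.mem_ker, map_mul, map_inv, hf, mul_inv_cancel])
    exact ⟨c * z, hcz, by rw [map_mul, MonoidHom.mem_ker.1 hz, mul_one]⟩
  · rintro g ⟨c, hc', rfl⟩
    refine ⟨torusFin_mem (hc := hc) c, H_le_group hc (torusFin_mem (hc := hc) c), ?_⟩
    rw [S.app_torusFin, S.mem_fixT.1 hc']

theorem Sigma.card_H_fix [Finite K] (hobs : ∀ c, S.twT c * c⁻¹ ∈ (torusFin D A K).ker →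
    ∃ z ∈ (torusFin D A K).ker, c * z ∈ S.fixT) :
    Nat.card ↥(D.diagonalSubgroup K ⊓ S.fix) * Nat.card ↥((torusFin D A K).ker ⊓ S.fixT) =
      Nat.card ↥S.fixT := by
  rw [S.H_fix_eq hobs]
  let f := (torusFin D A K).comp S.fixT.subtype
  have h1 : f.range = S.fixT.map (torusFin D A K) := by
    rw [MonoidHom.range_comp, Subgroup.range_subtype]
  have h2 : Nat.card f.ker = Nat.card ↥((torusFin D A K).ker ⊓ S.fixT) :=
    Nat.card_congr
      { toFun := fun x => ⟨x.1.1, x.2, x.1.2⟩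
        invFun := fun x => ⟨⟨x.1, x.2.2⟩, x.2.1⟩
        left_inv := fun _ => rfl
        right_inv := fun _ => rfl }
  rw [← h1, ← h2, Subgroup.card_eq_card_quotient_mul_card_subgroup f.ker,
    Nat.card_congr (QuotientGroup.quotientKerEquivRange f).toEquiv]

theorem Sigma.twT_mem_ker {z : Fin D.rank → Kˣ} (hz : z ∈ (torusFin D A K).ker) :
    S.twT z ∈ (torusFin D A K).ker := by
  rw [MonoidHom.mem_ker] at hz ⊢
  rw [← S.app_torusFin, hz, S.app_one]

theorem Sigma.obs_of_free [Finite K] (hfree : ∀ z ∈ (torusFin D A K).ker, S.twT z = z → z = 1) :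
    ∀ c, S.twT c * c⁻¹ ∈ (torusFin D A K).ker → ∃ z ∈ (torusFin D A K).ker, c * z ∈ S.fixT := by
  intro c hc'
  let f : ↥(torusFin D A K).ker → ↥(torusFin D A K).ker :=
    fun z => ⟨S.twT z * (z : Fin D.rank → Kˣ)⁻¹, mul_mem (S.twT_mem_ker z.2) (inv_mem z.2)⟩
  have hf : Function.Injective f := by
    intro a b e
    have e' : S.twTHom a * (a : Fin D.rank → Kˣ)⁻¹ = S.twTHom b * (b : Fin D.rank → Kˣ)⁻¹ := congrArg Subtype.val e
    have : S.twT ((a : Fin D.rank → Kˣ) * (b : Fin D.rank → Kˣ)⁻¹) = (a : Fin D.rank → Kˣ) * (b : Fin D.rank → Kˣ)⁻¹ := by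
      show S.twTHom (_ * _) = _
      rw [map_mul, map_inv]
      rw [mul_inv_eq_iff_eq_mul] at e'
      rw [e', mul_right_comm, mul_right_comm _ (b : Fin D.rank → Kˣ)⁻¹, mul_inv_cancel, one_mul, mul_comm]
    have h1 := hfree _ (mul_mem a.2 (inv_mem b.2)) this
    exact Subtype.ext (mul_inv_eq_one.1 h1)
  obtain ⟨z, hz⟩ := (Finite.injective_iff_surjective.1 hf) ⟨c * (S.twT c)⁻¹, by
    have := inv_mem hc'
    rwa [mul_inv_rev, inv_inv] at this⟩
  refine ⟨z, z.2, S.mem_fixT.2 ?_⟩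
  have e : S.twT z * (z : Fin D.rank → Kˣ)⁻¹ = c * (S.twT c)⁻¹ := congrArg Subtype.val hz
  show S.twTHom (c * z) = c * z
  rw [map_mul]
  show S.twT c * S.twT z = c * z
  rw [mul_inv_eq_iff_eq_mul] at e
  rw [e, ← mul_assoc, ← mul_assoc, mul_comm (S.twT c) c, mul_assoc c, mul_inv_cancel, mul_one]

end Cfsg.Lib.Tw
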