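/-
Certified data for the twists of the Chevalley groups of types D4, E6, F4, G2.
-/
import Cfsg.Agent.Lib.Tw.Isogeny
import Cfsg.Agent.Lib.Chev.All

set_option autoImplicit false

namespace Cfsg.Lib.Tw

open Cfsg.Lie Cfsg.Lib.Chev

/-- the twist of D4 -/
def isoD4 : IsoData where
  li := [
    0, 1, 2, 3, 4, 5, 6, 7, 8, 9, 10, 11, 12, 13, 14, 15, 16, 17,
    18, 19, 20, 21, 22, 23, 24, 25, 26, 27]
  lq := [
    3, 1, 0, 2, 4, 5, 7, 10, 12, 15, 6, 8, 11, 13, 9, 14, 17, 22,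
    18, 20, 23, 25, 16, 19, 21, 24, 26, 27]
  sg := [1, 1, 1, 1, 1, 1, 1, -1, -1, 1, -1, -1, 1, 1, 1, 1, 1, 1, 1, 1, -1, -1, 1, -1, -1, 1, 1, 1]
  node := [2, 1, 3, 0]
  root := [0, 1, 6, 2, 7, 10, 3, 8, 4, 9, 11, 5, 18, 12, 14, 19, 15, 20, 13, 16, 21, 17, 22, 23]
  lam := [1, 1, 1, 1]
  md := 0

/-- the twist of E6 -/
def isoE6 : IsoData where
  li := [
    0, 1, 2, 3, 4, 5, 6, 7, 8, 9, 10, 11, 12, 13, 14, 15, 16, 17,
    18, 19, 20, 21, 22, 23, 24, 25, 26, 27, 28, 29, 30, 31, 32, 33, 34, 35,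
    36, 37, 38, 39, 40, 41, 42, 43, 44, 45, 46, 47, 48, 49, 50, 51, 52, 53,
    54, 55, 56, 57, 58, 59, 60, 61, 62, 63, 64, 65, 66, 67, 68, 69, 70, 71,
    72, 73, 74, 75, 76, 77]
  lq := [
    5, 1, 4, 3, 2, 0, 6, 7, 8, 11, 22, 9, 12, 23, 14, 25, 28, 17,
    32, 36, 39, 41, 10, 13, 24, 15, 26, 29, 16, 27, 30, 31, 18, 33, 37, 40,
    19, 34, 38, 20, 35, 21, 62, 48, 63, 45, 49, 64, 43, 46, 50, 65, 52, 53,
    56, 67, 54, 57, 68, 59, 70, 73, 42, 44, 47, 51, 66, 55, 58, 69, 60, 71,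
    74, 61, 72, 75, 76, 77]
  sg := [
    1, 1, 1, 1, 1, 1, 1, 1, 1, 1, -1, 1, 1, -1, 1, -1, -1, 1,
    -1, 1, -1, 1, -1, -1, 1, -1, 1, 1, -1, 1, 1, 1, -1, 1, -1, 1,
    1, -1, 1, -1, 1, 1, 1, 1, -1, 1, -1, 1, 1, -1, 1, -1, 1, 1,
    1, -1, 1, 1, -1, 1, -1, -1, 1, -1, 1, -1, 1, -1, -1, 1, -1, 1,
    1, -1, 1, 1, 1, 1]
  node := [5, 1, 4, 3, 2, 0]
  root := [
    0, 1, 2, 5, 16, 3, 6, 17, 8, 19, 22, 11, 26, 30, 33, 35, 4, 7,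
    18, 9, 20, 23, 10, 21, 24, 25, 12, 27, 31, 34, 13, 28, 32, 14, 29, 15,
    56, 42, 57, 39, 43, 58, 37, 40, 44, 59, 46, 47, 50, 61, 48, 51, 62, 53,
    64, 67, 36, 38, 41, 45, 60, 49, 52, 63, 54, 65, 68, 55, 66, 69, 70, 71]
  lam := [1, 1, 1, 1, 1, 1]
  md := 0

/-- the twist of F4 -/
def isoF4 : IsoData where
  li := [
    0, 1, 7, 11, 12, 13, 14, 15, 16, 17, 18, 22, 23, 24, 31, 32, 33, 37,
    38, 39, 40, 41, 42, 43, 44, 48]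
  lq := [3, 2, 4, 5, 6, 8, 19, 9, 20, 25, 27, 10, 21, 26, 29, 34, 45, 28, 30, 35, 46, 36, 47, 49, 50, 51]
  sg := []
  node := [3, 2, 1, 0]
  root := [
    3, 7, 8, 0, 9, 11, 18, 1, 2, 4, 15, 5, 16, 21, 23, 10, 12, 19,
    6, 17, 22, 13, 20, 14, 33, 27, 34, 25, 30, 41, 28, 35, 37, 24, 26, 31,
    42, 32, 43, 45, 46, 29, 36, 38, 47, 39, 40, 44]
  lam := [2, 2, 1, 1]
  md := 2

/-- the twist of G2 -/
def isoG2 : IsoData where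
  li := [0, 4, 5, 6, 9, 10, 11]
  lq := [1, 2, 3, 7, 8, 12, 13]
  sg := [1, 1, 1, 1, 1, 1, 1]
  node := [1, 0]
  root := [2, 3, 0, 1, 5, 4, 7, 6, 10, 11, 8, 9]
  lam := [3, 1]
  md := 3

theorem isoOK_D4 : isoOK chevD4 auxD4 isoD4 = true := by decide +kernel

theorem symOK_D4 : symOK chevD4 auxD4 isoD4 = true := by decide +kernel

theorem isoOK_E6 : isoOK chevE6 auxE6 isoE6 = true := by decide +kernel

theorem symOK_E6 : symOK chevE6 auxE6 isoE6 = true := by decide +kernel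

theorem isoOK_F4 : isoOK chevF4 auxF4 isoF4 = true := by decide +kernel

theorem symOK_F4 : symOK chevF4 auxF4 isoF4 = true := by decide +kernel

theorem isoOK_G2 : isoOK chevG2 auxG2 isoG2 = true := by decide +kernel

theorem symOK_G2 : symOK chevG2 auxG2 isoG2 = true := by decide +kernel

end Cfsg.Lib.Tw
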