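/-
An orbit of type G2 in characteristic three: the fixed elements of its root groups.
-/
import Cfsg.Agent.Lib.Tw.Base

set_option autoImplicit false

namespace Cfsg.Lib.Tw

open Cfsg.Lie Cfsg.Lib.Chev

variable {D : ChevalleyDatum} {A : Aux} {hc : Cert D A} {K : Type*} [Field K]

/-- six root groups `a, b, a+b, 2a+b, 3a+b, 3a+2b` exchanged by the twist -/
structure G2Data (S : Sigma hc K) where
  /-- the root group of `a` -/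
  Xa : K → GL D.Idx K
  /-- the root group of `b` -/
  Xb : K → GL D.Idx K
  /-- the root group of `a+b` -/
  Xc : K → GL D.Idx K
  /-- the root group of `2a+b` -/
  Xd : K → GL D.Idx K
  /-- the root group of `3a+b` -/
  Xe : K → GL D.Idx K
  /-- the root group of `3a+2b` -/
  Xh : K → GL D.Idx K
  /-- the field map of the short roots -/
  f : K ≃+* K
  /-- the field map of the long roots -/
  g : K ≃+* K
  three : (3 : K) = 0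
  fg : ∀ x, f (g x) = x
  gf : ∀ x, g (f x) = x
  gcube : ∀ x, g x ^ 3 = f x
  mem : ∀ v, Xa v ∈ D.group K ∧ Xb v ∈ D.group K ∧ Xc v ∈ D.group K ∧ Xd v ∈ D.group K ∧ Xe v ∈ D.group K ∧
    Xh v ∈ D.group K
  addA : ∀ s t, Xa s * Xa t = Xa (s + t)
  addB : ∀ s t, Xb s * Xb t = Xb (s + t)
  addC : ∀ s t, Xc s * Xc t = Xc (s + t)
  addD : ∀ s t, Xd s * Xd t = Xd (s + t)
  addE : ∀ s t, Xe s * Xe t = Xe (s + t)
  addH : ∀ s t, Xh s * Xh t = Xh (s + t)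
  appA : ∀ v, S.app (Xa v) = Xb (f v)
  appB : ∀ v, S.app (Xb v) = Xa (g v)
  appC : ∀ v, S.app (Xc v) = Xe (f v)
  appD : ∀ v, S.app (Xd v) = Xh (f v)
  appE : ∀ v, S.app (Xe v) = Xc (g v)
  appH : ∀ v, S.app (Xh v) = Xd (g v)
  swap : ∀ t u, Xb u * Xa t =
    Xa t * Xb u * Xc (t * u) * Xd (t ^ 2 * u) * Xe (-(t ^ 3 * u)) * Xh (-(t ^ 3 * u ^ 2))
  swapCA : ∀ t c, Xc c * Xa t = Xa t * Xc c * Xd (-(t * c))
  swapEB : ∀ u e, Xe e * Xb u = Xb u * Xe e * Xh (-(u * e))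
  commAD : ∀ s t, Commute (Xa s) (Xd t)
  commAE : ∀ s t, Commute (Xa s) (Xe t)
  commAH : ∀ s t, Commute (Xa s) (Xh t)
  commBC : ∀ s t, Commute (Xb s) (Xc t)
  commBD : ∀ s t, Commute (Xb s) (Xd t)
  commBH : ∀ s t, Commute (Xb s) (Xh t)
  commCD : ∀ s t, Commute (Xc s) (Xd t)
  commCE : ∀ s t, Commute (Xc s) (Xe t)
  commCH : ∀ s t, Commute (Xc s) (Xh t)
  commDE : ∀ s t, Commute (Xd s) (Xe t)
  commDH : ∀ s t, Commute (Xd s) (Xh t)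
  commEH : ∀ s t, Commute (Xe s) (Xh t)

variable {S : Sigma hc K} (G : G2Data S)

/-- the abelian tail -/
def G2Data.Q (γ δ ε ζ : K) : GL D.Idx K := G.Xc γ * G.Xd δ * G.Xe ε * G.Xh ζ

/-- a product of the six root elements -/
def G2Data.W (α β γ δ ε ζ : K) : GL D.Idx K := G.Xa α * G.Xb β * G.Q γ δ ε ζ

theorem G2Data.W_mem (α β γ δ ε ζ : K) : G.W α β γ δ ε ζ ∈ D.group K :=
  mul_mem (mul_mem (G.mem α).1 (G.mem β).2.1)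
    (mul_mem (mul_mem (mul_mem (G.mem γ).2.2.1 (G.mem δ).2.2.2.1) (G.mem ε).2.2.2.2.1) (G.mem ζ).2.2.2.2.2)

theorem G2Data.Q_mul (γ δ ε ζ γ' δ' ε' ζ' : K) :
    G.Q γ δ ε ζ * G.Q γ' δ' ε' ζ' = G.Q (γ + γ') (δ + δ') (ε + ε') (ζ + ζ') := by
  simp only [G2Data.Q]
  calc G.Xc γ * G.Xd δ * G.Xe ε * G.Xh ζ * (G.Xc γ' * G.Xd δ' * G.Xe ε' * G.Xh ζ')
      = G.Xc γ * G.Xd δ * (G.Xe ε * (G.Xh ζ * G.Xc γ')) * (G.Xd δ' * G.Xe ε' * G.Xh ζ') := by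
        simp only [mul_assoc]
    _ = G.Xc γ * (G.Xd δ * G.Xc γ') * G.Xe ε * G.Xh ζ * (G.Xd δ' * G.Xe ε' * G.Xh ζ') := by
        rw [← (G.commCH γ' ζ).eq, ← mul_assoc (G.Xe ε), ← (G.commCE γ' ε).eq]; simp only [mul_assoc]
    _ = G.Xc (γ + γ') * G.Xd δ * (G.Xe ε * (G.Xh ζ * G.Xd δ')) * (G.Xe ε' * G.Xh ζ') := by
        rw [← (G.commCD γ' δ).eq, ← G.addC]; simp only [mul_assoc]
    _ = G.Xc (γ + γ') * (G.Xd δ * G.Xd δ') * G.Xe ε * (G.Xh ζ * G.Xe ε') * G.Xh ζ' := by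
        rw [← (G.commDH δ' ζ).eq, ← mul_assoc (G.Xe ε), ← (G.commDE δ' ε).eq]; simp only [mul_assoc]
    _ = _ := by
        rw [G.addD, ← (G.commEH ε' ζ).eq, ← G.addE, ← G.addH]; simp only [mul_assoc]

theorem G2Data.Q_a (γ δ ε ζ t : K) :
    G.Q γ δ ε ζ * G.Xa t = G.Xa t * G.Q γ (δ - t * γ) ε ζ := by
  simp only [G2Data.Q]
  calc G.Xc γ * G.Xd δ * G.Xe ε * G.Xh ζ * G.Xa t
      = G.Xc γ * (G.Xd δ * (G.Xe ε * (G.Xh ζ * G.Xa t))) := by simp only [mul_assoc]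
    _ = G.Xc γ * G.Xa t * (G.Xd δ * (G.Xe ε * G.Xh ζ)) := by
        rw [← (G.commAH t ζ).eq, ← mul_assoc (G.Xe ε), ← (G.commAE t ε).eq, mul_assoc (G.Xa t),
          ← mul_assoc (G.Xd δ), ← (G.commAD t δ).eq]
        simp only [mul_assoc]
    _ = _ := by
        rw [G.swapCA, sub_eq_neg_add, ← G.addD]; simp only [mul_assoc]

theorem G2Data.Q_b (γ δ ε ζ u : K) :
    G.Q γ δ ε ζ * G.Xb u = G.Xb u * G.Q γ δ ε (ζ - u * ε) := by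
  simp only [G2Data.Q]
  calc G.Xc γ * G.Xd δ * G.Xe ε * G.Xh ζ * G.Xb u
      = G.Xc γ * (G.Xd δ * (G.Xe ε * (G.Xh ζ * G.Xb u))) := by simp only [mul_assoc]
    _ = G.Xc γ * (G.Xd δ * (G.Xb u * G.Xe ε * G.Xh (-(u * ε)) * G.Xh ζ)) := by
        rw [← (G.commBH u ζ).eq, ← mul_assoc (G.Xe ε), G.swapEB]
    _ = G.Xc γ * (G.Xd δ * G.Xb u) * (G.Xe ε * G.Xh (ζ - u * ε)) := by
        rw [sub_eq_neg_add, ← G.addH]; simp only [mul_assoc]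
    _ = _ := by
        rw [← (G.commBD u δ).eq, ← mul_assoc (G.Xc γ), ← (G.commBC u γ).eq]; simp only [mul_assoc]

theorem G2Data.W_mul (α β γ δ ε ζ α' β' γ' δ' ε' ζ' : K) :
    G.W α β γ δ ε ζ * G.W α' β' γ' δ' ε' ζ' = G.W (α + α') (β + β') (γ + γ' + α' * β)
      (δ + δ' + α' ^ 2 * β - α' * γ) (ε + ε' - α' ^ 3 * β)
      (ζ + ζ' - α' ^ 3 * β ^ 2 - β' * (ε - α' ^ 3 * β)) := by
  have hQ0 : G.Xc (α' * β) * G.Xd (α' ^ 2 * β) * G.Xe (-(α' ^ 3 * β)) * G.Xh (-(α' ^ 3 * β ^ 2)) =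
      G.Q (α' * β) (α' ^ 2 * β) (-(α' ^ 3 * β)) (-(α' ^ 3 * β ^ 2)) := rfl
  simp only [G2Data.W]
  calc G.Xa α * G.Xb β * G.Q γ δ ε ζ * (G.Xa α' * G.Xb β' * G.Q γ' δ' ε' ζ')
      = G.Xa α * G.Xb β * (G.Q γ δ ε ζ * G.Xa α') * (G.Xb β' * G.Q γ' δ' ε' ζ') := by simp only [mul_assoc]
    _ = G.Xa α * (G.Xb β * G.Xa α') * G.Q γ (δ - α' * γ) ε ζ * (G.Xb β' * G.Q γ' δ' ε' ζ') := by
        rw [G.Q_a]; simp only [mul_assoc]
    _ = G.Xa α * (G.Xa α' * G.Xb β *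
          (G.Q (α' * β) (α' ^ 2 * β) (-(α' ^ 3 * β)) (-(α' ^ 3 * β ^ 2)) * G.Q γ (δ - α' * γ) ε ζ)) *
          (G.Xb β' * G.Q γ' δ' ε' ζ') := by
        rw [G.swap, ← hQ0]; simp only [mul_assoc]
    _ = G.Xa α * G.Xa α' * G.Xb β *
          (G.Q (α' * β + γ) (α' ^ 2 * β + (δ - α' * γ)) (-(α' ^ 3 * β) + ε) (-(α' ^ 3 * β ^ 2) + ζ) * G.Xb β') *
          G.Q γ' δ' ε' ζ' := by
        rw [G.Q_mul]; simp only [mul_assoc]
    _ = G.Xa (α + α') * (G.Xb β * G.Xb β') *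
          (G.Q (α' * β + γ) (α' ^ 2 * β + (δ - α' * γ)) (-(α' ^ 3 * β) + ε)
              (-(α' ^ 3 * β ^ 2) + ζ - β' * (-(α' ^ 3 * β) + ε)) * G.Q γ' δ' ε' ζ') := by
        rw [G.Q_b, G.addA]; simp only [mul_assoc]
    _ = _ := by
        rw [G.addB, G.Q_mul]
        congr 2 <;> ring

theorem G2Data.app_W (α β γ δ ε ζ : K) : S.app (G.W α β γ δ ε ζ) =
    G.W (G.g β) (G.f α) (G.g β * G.f α + G.g ε) (G.g β ^ 2 * G.f α + G.g ζ) (G.f γ - G.g β ^ 3 * G.f α)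
      (G.f δ - G.g β ^ 3 * G.f α ^ 2) := by
  obtain ⟨hA, -, -, -, -, -⟩ := G.mem α
  obtain ⟨-, hB, -, -, -, -⟩ := G.mem β
  obtain ⟨-, -, hC, -, -, -⟩ := G.mem γ
  obtain ⟨-, -, -, hD, -, -⟩ := G.mem δ
  obtain ⟨-, -, -, -, hE, -⟩ := G.mem ε
  obtain ⟨-, -, -, -, -, hH⟩ := G.mem ζ
  rw [G2Data.W, G2Data.Q, S.app_mul (mul_mem hA hB) (mul_mem (mul_mem (mul_mem hC hD) hE) hH), S.app_mul hA hB,
    S.app_mul (mul_mem (mul_mem hC hD) hE) hH, S.app_mul (mul_mem hC hD) hE, S.app_mul hC hD,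
    G.appA, G.appB, G.appC, G.appD, G.appE, G.appH, G.swap]
  calc G.Xa (G.g β) * G.Xb (G.f α) * G.Xc (G.g β * G.f α) * G.Xd (G.g β ^ 2 * G.f α) *
          G.Xe (-(G.g β ^ 3 * G.f α)) * G.Xh (-(G.g β ^ 3 * G.f α ^ 2)) *
          (G.Xe (G.f γ) * G.Xh (G.f δ) * G.Xc (G.g ε) * G.Xd (G.g ζ))
      = G.Xa (G.g β) * G.Xb (G.f α) *
          (G.Q (G.g β * G.f α) (G.g β ^ 2 * G.f α) (-(G.g β ^ 3 * G.f α)) (-(G.g β ^ 3 * G.f α ^ 2)) *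
            (G.Xe (G.f γ) * G.Xh (G.f δ) * G.Xc (G.g ε) * G.Xd (G.g ζ))) := by
        simp only [G2Data.Q, mul_assoc]
    _ = G.Xa (G.g β) * G.Xb (G.f α) *
          (G.Q (G.g β * G.f α) (G.g β ^ 2 * G.f α) (-(G.g β ^ 3 * G.f α)) (-(G.g β ^ 3 * G.f α ^ 2)) *
            G.Q (G.g ε) (G.g ζ) (G.f γ) (G.f δ)) := by
        congr 2
        simp only [G2Data.Q]
        calc G.Xe (G.f γ) * G.Xh (G.f δ) * G.Xc (G.g ε) * G.Xd (G.g ζ)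
            = G.Xc (G.g ε) * (G.Xe (G.f γ) * G.Xh (G.f δ)) * G.Xd (G.g ζ) := by
              rw [((G.commCE _ _).mul_right (G.commCH _ _)).eq]
          _ = G.Xc (G.g ε) * (G.Xd (G.g ζ) * (G.Xe (G.f γ) * G.Xh (G.f δ))) := by
              rw [mul_assoc, ((G.commDE _ _).mul_right (G.commDH _ _)).eq]
          _ = _ := by simp only [mul_assoc]
    _ = _ := by
        rw [G.Q_mul, neg_add_eq_sub, neg_add_eq_sub]
        rfl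

/-- the fixed element with parameters `t, u, v` -/
def G2Data.word (t u v : K) : GL D.Idx K :=
  G.W (G.g t) t (G.g t * t + G.g u) (G.g t ^ 2 * t + G.g v) u v

theorem G2Data.word_fixed (t u v : K) : G.word t u v ∈ S.fix := by
  refine ⟨G.W_mem _ _ _ _ _ _, ?_⟩
  rw [G2Data.word, G.app_W, G.fg, map_add, map_add, map_mul, map_mul, map_pow, G.fg, G.fg, G.fg, G.gcube]
  congr 1 <;> ring

theorem G2Data.word_of_fixed
    (hinj : ∀ α β γ δ ε ζ α' β' γ' δ' ε' ζ', G.W α β γ δ ε ζ = G.W α' β' γ' δ' ε' ζ' →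
      α = α' ∧ β = β' ∧ γ = γ' ∧ δ = δ' ∧ ε = ε' ∧ ζ = ζ')
    {α β γ δ ε ζ : K} (h : G.W α β γ δ ε ζ ∈ S.fix) : G.W α β γ δ ε ζ = G.word β ε ζ := by
  have e := h.2
  rw [G.app_W] at e
  obtain ⟨e1, e2, e3, e4, -, -⟩ := hinj _ _ _ _ _ _ _ _ _ _ _ _ e
  rw [e2] at e3 e4
  rw [G2Data.word, e1, ← e3, ← e4, e1]

theorem G2Data.word_mul
    (hinj : ∀ α β γ δ ε ζ α' β' γ' δ' ε' ζ', G.W α β γ δ ε ζ = G.W α' β' γ' δ' ε' ζ' →
      α = α' ∧ β = β' ∧ γ = γ' ∧ δ = δ' ∧ ε = ε' ∧ ζ = ζ') (t u v t' u' v' : K) :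
    G.word t u v * G.word t' u' v' = G.word (t + t') (u + u' - G.f t' * t)
      (v + v' - G.f t' * t ^ 2 - t' * (u - G.f t' * t)) := by
  have h := S.fix.mul_mem (G.word_fixed t u v) (G.word_fixed t' u' v')
  unfold G2Data.word at h ⊢
  rw [G.W_mul] at h ⊢
  rw [G.word_of_fixed hinj h, G2Data.word, G.gcube]

theorem G2Data.word_conj (h : GL D.Idx K) (la lb lc ld le lh : K)
    (ha : ∀ v, h * G.Xa v * h⁻¹ = G.Xa (la * v)) (hb : ∀ v, h * G.Xb v * h⁻¹ = G.Xb (lb * v))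
    (hC : ∀ v, h * G.Xc v * h⁻¹ = G.Xc (lc * v)) (hd : ∀ v, h * G.Xd v * h⁻¹ = G.Xd (ld * v))
    (he : ∀ v, h * G.Xe v * h⁻¹ = G.Xe (le * v)) (hh : ∀ v, h * G.Xh v * h⁻¹ = G.Xh (lh * v))
    (e1 : la = G.g lb) (e2 : lc = la * lb) (e3 : ld = la ^ 2 * lb) (e4 : le = la ^ 3 * lb)
    (e5 : lh = la ^ 3 * lb ^ 2) (t u v : K) :
    h * G.word t u v * h⁻¹ = G.word (lb * t) (le * u) (lh * v) := by
  simp only [G2Data.word, G2Data.W, G2Data.Q]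
  rw [show h * (G.Xa (G.g t) * G.Xb t * (G.Xc (G.g t * t + G.g u) * G.Xd (G.g t ^ 2 * t + G.g v) * G.Xe u * G.Xh v)) *
      h⁻¹ = (h * G.Xa (G.g t) * h⁻¹) * (h * G.Xb t * h⁻¹) * ((h * G.Xc (G.g t * t + G.g u) * h⁻¹) *
        (h * G.Xd (G.g t ^ 2 * t + G.g v) * h⁻¹) * (h * G.Xe u * h⁻¹) * (h * G.Xh v * h⁻¹)) by group,
    ha, hb, hC, hd, he, hh]
  have g4 : G.g le = lb * G.g lb := by rw [e4, e1, G.gcube, map_mul, G.gf]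
  have g5 : G.g lh = lb * G.g lb ^ 2 := by rw [e5, e1, G.gcube, map_mul, map_pow, G.gf]
  simp only [map_mul]
  rw [g4, g5, e2, e3, e1]
  congr 4
  · congr 1; ring
  · congr 1; ring

end Cfsg.Lib.Tw
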