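/-
Orbits of pairwise orthogonal nodes: the root groups, representatives and torus of the orbit.
-/
import Cfsg.Agent.Lib.Tw.Common
import Cfsg.Agent.Lib.Tw.BN
import Cfsg.Agent.Lib.Tw.OrbData

set_option autoImplicit false

namespace Cfsg.Lib.Tw

open Cfsg.Lie Cfsg.Lib.Chev

theorem prod_commute_three {G α : Type*} [Group G] (f g h : α → G) : ∀ l : List α,
    (∀ i ∈ l, ∀ j ∈ l, i ≠ j → Commute (f i) (g j) ∧ Commute (f i) (h j) ∧ Commute (g i) (h j) ∧
      Commute (g i) (f j) ∧ Commute (h i) (f j) ∧ Commute (h i) (g j)) → l.Nodup →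
    (l.map f).prod * (l.map g).prod * (l.map h).prod = (l.map fun i => f i * g i * h i).prod
  | [], _, _ => by simp
  | a :: l, hc, hn => by
    obtain ⟨ha, hn⟩ := List.nodup_cons.1 hn
    have ih := prod_commute_three f g h l
      (fun i hi j hj => hc i (List.mem_cons_of_mem _ hi) j (List.mem_cons_of_mem _ hj)) hn
    have key : ∀ j ∈ l, Commute (f j) (g a) ∧ Commute (f j) (h a) ∧ Commute (g j) (h a) := fun j hj => by
      obtain ⟨h1, h2, h3, -⟩ := hc j (List.mem_cons_of_mem _ hj) a List.mem_cons_self fun e => ha (e ▸ hj)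
      exact ⟨h1, h2, h3⟩
    have c1 : Commute (g a) (l.map f).prod := Commute.list_prod_right _ _ fun x hx => by
      obtain ⟨j, hj, rfl⟩ := List.mem_map.1 hx; exact (key j hj).1.symm
    have c2 : Commute (h a) ((l.map f).prod * (l.map g).prod) := by
      refine Commute.mul_right (Commute.list_prod_right _ _ fun x hx => ?_) (Commute.list_prod_right _ _ fun x hx => ?_)
      · obtain ⟨j, hj, rfl⟩ := List.mem_map.1 hx; exact (key j hj).2.1.symm
      · obtain ⟨j, hj, rfl⟩ := List.mem_map.1 hx; exact (key j hj).2.2.symm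
    simp only [List.map_cons, List.prod_cons, ← ih]
    calc f a * (l.map f).prod * (g a * (l.map g).prod) * (h a * (l.map h).prod)
        = f a * ((l.map f).prod * g a) * (l.map g).prod * (h a * (l.map h).prod) := by simp only [mul_assoc]
      _ = f a * g a * ((l.map f).prod * (l.map g).prod * h a) * (l.map h).prod := by
          rw [← c1.eq]; simp only [mul_assoc]
      _ = f a * g a * h a * ((l.map f).prod * (l.map g).prod * (l.map h).prod) := by
          rw [← c2.eq]; simp only [mul_assoc]

theorem prod_mul_inv {G α : Type*} [Group G] (f g : α → G) : ∀ l : List α,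
    (∀ i ∈ l, ∀ j ∈ l, i ≠ j → Commute (f i) (g j)) → l.Nodup →
    (∀ i ∈ l, ∀ j ∈ l, i ≠ j → Commute (g i) (g j)) →
    (l.map fun i => f i * (g i)⁻¹).prod = (l.map f).prod * (l.map g).prod⁻¹
  | [], _, _, _ => by simp
  | a :: l, hc, hn, hg => by
    obtain ⟨ha, hn⟩ := List.nodup_cons.1 hn
    have ih := prod_mul_inv f g l (fun i hi j hj => hc i (List.mem_cons_of_mem _ hi) j (List.mem_cons_of_mem _ hj))
      hn (fun i hi j hj => hg i (List.mem_cons_of_mem _ hi) j (List.mem_cons_of_mem _ hj))
    have c1 : Commute (g a) (l.map f).prod := Commute.list_prod_right _ _ fun x hx => by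
      obtain ⟨j, hj, rfl⟩ := List.mem_map.1 hx
      exact (hc j (List.mem_cons_of_mem _ hj) a List.mem_cons_self fun e => ha (e ▸ hj)).symm
    have c2 : Commute (g a) (l.map g).prod := Commute.list_prod_right _ _ fun x hx => by
      obtain ⟨j, hj, rfl⟩ := List.mem_map.1 hx
      exact hg a List.mem_cons_self j (List.mem_cons_of_mem _ hj) fun e => ha (e ▸ hj)
    simp only [List.map_cons, List.prod_cons, ih, mul_inv_rev]
    calc f a * (g a)⁻¹ * ((l.map f).prod * (l.map g).prod⁻¹)
        = f a * ((g a)⁻¹ * (l.map f).prod) * (l.map g).prod⁻¹ := by simp only [mul_assoc]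
      _ = f a * (l.map f).prod * ((g a)⁻¹ * (l.map g).prod⁻¹) := by
          rw [c1.inv_left.eq]; simp only [mul_assoc]
      _ = f a * (l.map f).prod * ((l.map g).prod⁻¹ * (g a)⁻¹) := by rw [c2.inv_inv.eq]

variable {D : ChevalleyDatum} {A : Aux} {hc : Cert D A} {K : Type*} [Field K]

/-- the two roots of a node -/
def sgnRoot (D : ChevalleyDatum) : Bool → ℕ → ℕ
  | true, i => D.simple i
  | false, i => negI D (D.simple i)

include hc in
theorem sgnRoot_lt (b : Bool) (i : Fin D.rank) : sgnRoot D b i < D.nroots := by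
  cases b
  exacts [negI_lt (simple_lt hc i.2), simple_lt hc i.2]

theorem Sigma.app_sgn (S : Sigma hc K) (b : Bool) (i : Fin D.rank) (t : K) :
    S.app (xg D K (sgnRoot D b i) t) = xg D K (sgnRoot D b (S.node i)) (S.phi i t) := by
  cases b
  exacts [S.app_neg_simple i t, S.app_simple i t]

theorem Sigma.app_prod (S : Sigma hc K) : ∀ {l : List (GL D.Idx K)}, (∀ g ∈ l, g ∈ D.group K) →
    S.app l.prod = (l.map S.app).prod
  | [], _ => by simp [S.app_one]
  | a :: l, h => by
    rw [List.prod_cons, List.map_cons, List.prod_cons, S.app_mul (h a List.mem_cons_self)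
      (list_prod_mem fun x hx => h x (List.mem_cons_of_mem _ hx)),
      Sigma.app_prod S fun x hx => h x (List.mem_cons_of_mem _ hx)]

/-- checks that a list of nodes is pairwise orthogonal and the product of its reflections negates only them -/
def orthOK (D : ChevalleyDatum) (A : Aux) (J : List ℕ) : Bool :=
  decide J.Nodup &&
  (J.all fun i => J.all fun j => (i == j) ||
    [true, false].all fun a => [true, false].all fun b =>
      !(Nat.beq (sgnRoot D b j) (sgnRoot D a i)) && !(Nat.beq (sgnRoot D b j) (negI D (sgnRoot D a i))) &&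
      (D.commTerms (sgnRoot D a i) (sgnRoot D b j)).isEmpty) &&
  allB D.nroots fun s => !(A.pos s) || A.pos (wAct A J s) || J.any fun i => Nat.beq (D.simple i) s

/-- an orbit of pairwise orthogonal nodes, with its generators inside a subgroup -/
structure Orth {S : Sigma hc K} (O : Orbits S) (J : Fin O.no) (G1 : Subgroup (GL D.Idx K)) : Prop where
  wJ_eq : O.wJ J = O.nd J
  ok : orthOK D A ((O.nd J).map Fin.val) = true
  gen : ∀ (b : Bool) (t : Fin D.rank → K), (∀ i ∈ O.nd J, t (S.node i) = S.phi i (t i)) →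
    ((O.nd J).map fun i : Fin D.rank => xg D K (sgnRoot D b i) (t i)).prod ∈ G1

variable {S : Sigma hc K} {O : Orbits S} {J : Fin O.no}

/-- the product of the root elements of an orbit -/
noncomputable def orbProd (O : Orbits S) (J : Fin O.no) (b : Bool) (t : Fin D.rank → K) : GL D.Idx K :=
  ((O.nd J).map fun i : Fin D.rank => xg D K (sgnRoot D b i) (t i)).prod

theorem orbProd_mem_group (b : Bool) (t : Fin D.rank → K) : orbProd O J b t ∈ D.group K :=
  list_prod_mem fun x hx => by
    obtain ⟨i, -, rfl⟩ := List.mem_map.1 hx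
    exact xg_mem_group hc (sgnRoot_lt (hc := hc) b i) _

section Ok

variable (hok : orthOK D A ((O.nd J).map Fin.val) = true)

include hok

theorem orth_nodup : (O.nd J).Nodup := by
  simp only [orthOK, Bool.and_eq_true, decide_eq_true_eq] at hok
  exact List.Nodup.of_map _ hok.1.1

theorem orth_comm {i j : Fin D.rank} (hi : i ∈ O.nd J) (hj : j ∈ O.nd J) (hne : i ≠ j) (a b : Bool) (t u : K) :
    Commute (xg D K (sgnRoot D a i) t) (xg D K (sgnRoot D b j) u) := by
  simp only [orthOK, Bool.and_eq_true, List.all_eq_true, Bool.or_eq_true, beq_iff_eq, Bool.not_eq_true',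
    List.isEmpty_iff] at hok
  rcases hok.1.2 _ (List.mem_map_of_mem (f := Fin.val) hi) _ (List.mem_map_of_mem (f := Fin.val) hj) with h | h
  · exact absurd (Fin.ext h) hne
  · obtain ⟨⟨h1, h2⟩, h3⟩ := h a (by cases a <;> simp) b (by cases b <;> simp)
    refine xg_comm (hc := hc) (sgnRoot_lt (hc := hc) a i) (sgnRoot_lt (hc := hc) b j)
      (fun e => ?_) (fun e => ?_) h3 t u
    · rw [e] at h1; simp at h1
    · rw [e] at h2; simp at h2

theorem orth_perm : ((O.nd J).map S.node) ⊆ O.nd J → ((O.nd J).map S.node).Perm (O.nd J) := fun h =>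
  List.Subperm.perm_of_length_le (((orth_nodup hok).map S.node.injective).subperm h) (by simp)

theorem orbProd_app (b : Bool) (hcl : ∀ i ∈ O.nd J, S.node i ∈ O.nd J) {t : Fin D.rank → K}
    (ht : ∀ i ∈ O.nd J, t (S.node i) = S.phi i (t i)) : S.app (orbProd O J b t) = orbProd O J b t := by
  rw [orbProd, S.app_prod fun g hg => by
    obtain ⟨i, -, rfl⟩ := List.mem_map.1 hg
    exact xg_mem_group hc (sgnRoot_lt (hc := hc) b i) _, List.map_map]
  have e : ((O.nd J).map (S.app ∘ fun i : Fin D.rank => xg D K (sgnRoot D b i) (t i))) =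
      ((O.nd J).map S.node).map fun i : Fin D.rank => xg D K (sgnRoot D b i) (t i) := by
    rw [List.map_map]
    refine List.map_congr_left fun i hi => ?_
    simp only [Function.comp_apply]
    rw [S.app_sgn, ht i hi]
  rw [e]
  refine List.Perm.prod_eq' ((orth_perm hok fun x hx => ?_).map _) ?_
  · obtain ⟨i, hi, rfl⟩ := List.mem_map.1 hx
    exact hcl i hi
  · rw [List.pairwise_map]
    refine ((orth_nodup hok).map S.node.injective).imp_of_mem ?_
    intro x y hx hy hne
    obtain ⟨i, hi, rfl⟩ := List.mem_map.1 hx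
    obtain ⟨j, hj, rfl⟩ := List.mem_map.1 hy
    exact orth_comm hok (hcl i hi) (hcl j hj) hne b b _ _

theorem orbProd_mul (b : Bool) (t u : Fin D.rank → K) :
    orbProd O J b t * orbProd O J b u = orbProd O J b (t + u) := by
  have h := prod_commute_three (fun i : Fin D.rank => xg D K (sgnRoot D b i) (t i))
    (fun i : Fin D.rank => xg D K (sgnRoot D b i) (u i)) (fun _ => 1) (O.nd J)
    (fun i hi j hj hne => ⟨orth_comm hok hi hj hne b b _ _, Commute.one_right _, Commute.one_right _,
      orth_comm hok hi hj hne b b _ _, Commute.one_left _, Commute.one_left _⟩) (orth_nodup hok)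
  simp only [List.map_const', List.prod_replicate, one_pow, mul_one] at h
  rw [orbProd, orbProd, h, orbProd]
  refine congrArg List.prod (List.map_congr_left fun i _ => ?_)
  rw [xg_add hc (sgnRoot_lt (hc := hc) b i)]
  rfl

theorem orbProd_zero (b : Bool) : orbProd O J b (0 : Fin D.rank → K) = 1 :=
  List.prod_eq_one fun x hx => by
    obtain ⟨i, -, rfl⟩ := List.mem_map.1 hx
    exact xg_zero hc (sgnRoot_lt (hc := hc) b i)

theorem exists_orbProd (hw : O.wJ J = O.nd J) {u : GL D.Idx K} (hu : u ∈ Uw D A K (O.piJ J)) :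
    ∃ t, u = orbProd O J true t := by
  classical
  induction hu using Subgroup.closure_induction with
  | mem x hx =>
    obtain ⟨r, a, hr, ⟨_, h1, h2⟩, -, rfl⟩ := hx
    have hok' := hok
    simp only [orthOK, Bool.and_eq_true, allB_iff, Bool.or_eq_true, Bool.not_eq_true', List.any_eq_true,
      Nat.beq_eq] at hok'
    have h3 : wAct A ((O.nd J).map Fin.val) r = ((O.piJ J ⟨r, hr⟩ : Fin D.nroots) : ℕ) := by
      show _ = ((wp hc (O.wJ J) ⟨r, hr⟩ : Fin D.nroots) : ℕ)
      rw [hw, wp_val]
    rcases hok'.2 r hr with (h | h) | ⟨m, hm, he⟩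
    · rw [h] at h1; cases h1
    · rw [h3] at h; rw [h] at h2; cases h2
    · obtain ⟨i, hi, rfl⟩ := List.mem_map.1 hm
      refine ⟨Pi.single i a, ?_⟩
      rw [orbProd]
      have key : ∀ l : List (Fin D.rank), l.Nodup → i ∈ l →
          (l.map fun j : Fin D.rank => xg D K (sgnRoot D true j) ((Pi.single i a : Fin D.rank → K) j)).prod =
            xg D K (D.simple i) a := by
        intro l
        induction l with
        | nil => intro _ h; simp at h
        | cons x l ih =>
          intro hn hm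
          obtain ⟨hx, hn⟩ := List.nodup_cons.1 hn
          rw [List.map_cons, List.prod_cons]
          rcases List.mem_cons.1 hm with rfl | hm
          · rw [Pi.single_eq_same, List.prod_eq_one (fun y hy => ?_), mul_one]
            · rfl
            · obtain ⟨j, hj, rfl⟩ := List.mem_map.1 hy
              rw [Pi.single_eq_of_ne (fun e => hx (by rwa [e] at hj))]
              exact xg_zero hc (sgnRoot_lt (hc := hc) true j)
          · rw [ih hn hm, Pi.single_eq_of_ne (fun e => hx (by rwa [← e] at hm))]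
            rw [xg_zero hc (sgnRoot_lt (hc := hc) true x), one_mul]
      rw [key _ (orth_nodup hok) hi, ← he]
  | one => exact ⟨0, (orbProd_zero hok true).symm⟩
  | mul x y _ _ hx hy =>
    obtain ⟨t, rfl⟩ := hx
    obtain ⟨u, rfl⟩ := hy
    exact ⟨t + u, orbProd_mul hok true t u⟩
  | inv x _ hx =>
    obtain ⟨t, rfl⟩ := hx
    refine ⟨-t, (eq_inv_of_mul_eq_one_left ?_).symm⟩
    rw [orbProd_mul hok, neg_add_cancel, orbProd_zero hok]

omit hok in
theorem orbProd_mem_Uw (t : Fin D.rank → K) : orbProd O J true t ∈ Uw D A K (O.piJ J) :=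
  list_prod_mem fun x hx => by
    obtain ⟨i, hi, rfl⟩ := List.mem_map.1 hx
    exact xg_mem_Uw (sR hc i) (simple_pos hc i.2) (O.neg J i hi) _

theorem orbProd_split {i : Fin D.rank} (hi : i ∈ O.nd J) (t : Fin D.rank → K) :
    ∃ v ∈ Up D A K i, orbProd O J true t = v * xg D K (D.simple i) (t i) := by
  classical
  have h1 : t = Function.update t i 0 + Pi.single i (t i) := by
    funext j
    by_cases h : j = i
    · subst h; simp
    · simp [h]
  refine ⟨orbProd O J true (Function.update t i 0), list_prod_mem fun x hx => ?_, ?_⟩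
  · obtain ⟨j, hj, rfl⟩ := List.mem_map.1 hx
    by_cases hji : j = i
    · subst hji
      rw [Function.update_self, xg_zero hc (sgnRoot_lt (hc := hc) true _)]
      exact one_mem _
    · refine xg_mem_UG (sgnRoot_lt (hc := hc) true j) ⟨simple_pos hc j.2, fun e => hji ?_⟩ (Nat.zero_le _) _
      exact Fin.ext (simple_injective hc j.2 i.2 e)
  · conv_lhs => rw [h1, ← orbProd_mul hok]
    congr 1
    rw [orbProd]
    have key : ∀ l : List (Fin D.rank), l.Nodup → i ∈ l →
        (l.map fun j : Fin D.rank => xg D K (sgnRoot D true j) ((Pi.single i (t i) : Fin D.rank → K) j)).prod =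
          xg D K (D.simple i) (t i) := by
      intro l
      induction l with
      | nil => intro _ h; simp at h
      | cons x l ih =>
        intro hn hm
        obtain ⟨hx, hn⟩ := List.nodup_cons.1 hn
        rw [List.map_cons, List.prod_cons]
        rcases List.mem_cons.1 hm with rfl | hm
        · rw [Pi.single_eq_same, List.prod_eq_one (fun y hy => ?_), mul_one]
          · rfl
          · obtain ⟨j, hj, rfl⟩ := List.mem_map.1 hy
            rw [Pi.single_eq_of_ne (fun e => hx (by rwa [e] at hj))]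
            exact xg_zero hc (sgnRoot_lt (hc := hc) true j)
        · rw [ih hn hm, Pi.single_eq_of_ne (fun e => hx (by rwa [← e] at hm))]
          rw [xg_zero hc (sgnRoot_lt (hc := hc) true x), one_mul]
    exact key _ (orth_nodup hok) hi

theorem orbProd_inj {t u : Fin D.rank → K} (h : orbProd O J true t = orbProd O J true u) {i : Fin D.rank}
    (hi : i ∈ O.nd J) : t i = u i := by
  obtain ⟨v, hv, e⟩ := orbProd_split hok hi (t - u)
  have h1 : orbProd O J true (t - u) = 1 := by
    have := orbProd_mul hok true (t - u) u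
    rw [sub_add_cancel, h] at this
    simpa using this
  rw [h1] at e
  refine sub_eq_zero.1 (mem_Up_root (hc := hc) (i := i) ?_)
  rw [show xg D K (D.simple i) (t i - u i) = v⁻¹ from eq_inv_of_mul_eq_one_right e.symm]
  exact inv_mem hv

end Ok

variable {G1 : Subgroup (GL D.Idx K)} (h : Orth O J G1)

include h

theorem Orth.fixU_eq (hcl : ∀ i ∈ O.nd J, S.node i ∈ O.nd J) (u : GL D.Idx K) : u ∈ fixU S (O.piJ J) ↔
    ∃ t : Fin D.rank → K, (∀ i ∈ O.nd J, t (S.node i) = S.phi i (t i)) ∧ u = orbProd O J true t := by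
  constructor
  · rintro ⟨hu, -, hf⟩
    obtain ⟨t, rfl⟩ := exists_orbProd h.ok h.wJ_eq hu
    refine ⟨t, fun i hi => ?_, rfl⟩
    -- compare with the image
    have e : S.app (orbProd O J true t) = orbProd O J true fun j => S.phi (S.node⁻¹ j) (t (S.node⁻¹ j)) := by
      have hmem : ∀ g ∈ ((O.nd J).map fun i : Fin D.rank => xg D K (sgnRoot D true i) (t i)), g ∈ D.group K := by
        intro g hg
        obtain ⟨i, -, rfl⟩ := List.mem_map.1 hg
        exact xg_mem_group hc (sgnRoot_lt (hc := hc) true i) _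
      rw [orbProd, S.app_prod hmem, List.map_map]
      have e' : ((O.nd J).map (S.app ∘ fun i : Fin D.rank => xg D K (sgnRoot D true i) (t i))) =
          ((O.nd J).map S.node).map fun j : Fin D.rank =>
            xg D K (sgnRoot D true j) (S.phi (S.node⁻¹ j) (t (S.node⁻¹ j))) := by
        rw [List.map_map]
        refine List.map_congr_left fun i _ => ?_
        simp only [Function.comp_apply]
        rw [S.app_sgn, show S.node⁻¹ (S.node i) = i by simp]
      rw [e']
      refine List.Perm.prod_eq' ((orth_perm h.ok fun x hx => ?_).map _) ?_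
      · obtain ⟨i, hi, rfl⟩ := List.mem_map.1 hx
        exact hcl i hi
      · rw [List.pairwise_map]
        refine ((orth_nodup h.ok).map S.node.injective).imp_of_mem ?_
        intro x y hx hy hne
        obtain ⟨i, hi, rfl⟩ := List.mem_map.1 hx
        obtain ⟨j, hj, rfl⟩ := List.mem_map.1 hy
        exact orth_comm h.ok (hcl i hi) (hcl j hj) hne _ _ _ _
    rw [hf] at e
    have := orbProd_inj h.ok e (hcl i hi)
    simpa using this
  · rintro ⟨t, ht, rfl⟩
    exact ⟨orbProd_mem_Uw t, orbProd_mem_group true t, orbProd_app h.ok true hcl ht⟩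

theorem Orth.UJ_le (hcl : ∀ i ∈ O.nd J, S.node i ∈ O.nd J) : Uw D A K (O.piJ J) ⊓ S.fix ≤ G1 := by
  intro u hu
  obtain ⟨t, ht, rfl⟩ := (h.fixU_eq hcl u).1 hu
  exact h.gen true t ht

theorem Orth.faith (hcl : ∀ i ∈ O.nd J, S.node i ∈ O.nd J) {i : Fin D.rank} (hi : i ∈ O.nd J) :
    ∃ v ∈ Up D A K i, ∃ t : K, t ≠ 0 ∧ v * xg D K (D.simple i) t ∈ fixU S (O.piJ J) := by
  obtain ⟨v, hv, e⟩ := orbProd_split h.ok hi fun _ => (1 : K)
  refine ⟨v, hv, 1, one_ne_zero, ?_⟩
  rw [← e]
  exact (h.fixU_eq hcl _).2 ⟨_, fun j _ => (map_one (S.phi j)).symm, rfl⟩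

/-- the fixed part is in bijection with the compatible values on the orbit -/
theorem Orth.card_fixU (hcl : ∀ i ∈ O.nd J, S.node i ∈ O.nd J) :
    Nat.card (fixU S (O.piJ J)) =
      Nat.card {t : Fin D.rank → K // (∀ i ∈ O.nd J, t (S.node i) = S.phi i (t i)) ∧ ∀ i ∉ O.nd J, t i = 0} := by
  classical
  refine (Nat.card_congr (Equiv.ofBijective
    (fun t => (⟨orbProd O J true t.1, (h.fixU_eq hcl _).2 ⟨t.1, t.2.1, rfl⟩⟩ : fixU S (O.piJ J))) ⟨?_, ?_⟩)).symm
  · rintro ⟨t, ht, ht0⟩ ⟨u, hu, hu0⟩ e
    refine Subtype.ext (funext fun i => ?_)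
    by_cases hi : i ∈ O.nd J
    · exact orbProd_inj h.ok (congrArg Subtype.val e) hi
    · show t i = u i
      rw [ht0 i hi, hu0 i hi]
  · rintro ⟨u, hu⟩
    obtain ⟨t, ht, rfl⟩ := (h.fixU_eq hcl u).1 hu
    refine ⟨⟨fun i => if i ∈ O.nd J then t i else 0, fun i hi => ?_, fun i hi => if_neg hi⟩, Subtype.ext ?_⟩
    · simp only [if_pos hi, if_pos (hcl i hi)]; exact ht i hi
    · refine congrArg List.prod (List.map_congr_left fun i hi => ?_)
      simp only [if_pos hi]

theorem Orth.ngen_mem (t : Fin D.rank → K) (ht : ∀ i ∈ O.nd J, t (S.node i) = S.phi i (t i)) :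
    ((O.nd J).map fun i : Fin D.rank => ngen D K (D.simple i) (t i)).prod ∈ G1 := by
  have e := prod_commute_three (fun i : Fin D.rank => xg D K (sgnRoot D true i) (t i))
    (fun i : Fin D.rank => xg D K (sgnRoot D false i) (-(t i)⁻¹))
    (fun i : Fin D.rank => xg D K (sgnRoot D true i) (t i)) (O.nd J)
    (fun i hi j hj hne => ⟨orth_comm h.ok hi hj hne _ _ _ _, orth_comm h.ok hi hj hne _ _ _ _,
      orth_comm h.ok hi hj hne _ _ _ _, orth_comm h.ok hi hj hne _ _ _ _, orth_comm h.ok hi hj hne _ _ _ _,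
      orth_comm h.ok hi hj hne _ _ _ _⟩) (orth_nodup h.ok)
  have e' : ((O.nd J).map fun i : Fin D.rank => ngen D K (D.simple i) (t i)).prod =
      orbProd O J true t * orbProd O J false (fun i => -(t i)⁻¹) * orbProd O J true t := by
    rw [orbProd, orbProd, e]
    refine congrArg List.prod (List.map_congr_left fun i _ => ?_)
    simp only [ngen, sgnRoot, mul_assoc]
  rw [e']
  exact G1.mul_mem (G1.mul_mem (h.gen true t ht)
    (h.gen false _ fun i hi => by rw [map_neg, map_inv₀, ht i hi])) (h.gen true t ht)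

theorem Orth.ng_mem : wg D K (O.wJ J) ∈ G1 := by
  have := h.ngen_mem (fun _ => (1 : K)) fun i _ => (map_one (S.phi i)).symm
  rw [h.wJ_eq, wg]
  exact this

theorem Orth.hg_mem (c : Fin D.rank → Kˣ) (ht : ∀ i ∈ O.nd J, (c (S.node i) : K) = S.phi i (c i : K)) :
    ((O.nd J).map fun i : Fin D.rank => hg D A i (c i)).prod ∈ G1 := by
  have hcomm : ∀ i ∈ O.nd J, ∀ j ∈ O.nd J, i ≠ j → ∀ t u : K,
      Commute (ngen D K (D.simple i) t) (ngen D K (D.simple j) u) := by
    intro i hi j hj hne t u
    have c1 : ∀ (a : Bool) (x : K), Commute (xg D K (sgnRoot D a i) x) (ngen D K (D.simple j) u) := fun a x =>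
      Commute.mul_right (orth_comm h.ok hi hj hne a true _ _)
        (Commute.mul_right (orth_comm h.ok hi hj hne a false _ _) (orth_comm h.ok hi hj hne a true _ _))
    exact Commute.mul_left (c1 true _) (Commute.mul_left (c1 false _) (c1 true _))
  have e : ((O.nd J).map fun i : Fin D.rank => hg D A i (c i)) =
      (O.nd J).map fun i : Fin D.rank => ngen D K (D.simple i) (c i : K) * (ngen D K (D.simple i) 1)⁻¹ := by
    refine List.map_congr_left fun i _ => ?_
    rw [← ngen_mul_ngen hc i.2, ngen_neg hc (simple_lt hc i.2) 1]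
  rw [e, prod_mul_inv _ _ _ (fun i hi j hj hne => hcomm i hi j hj hne _ _) (orth_nodup h.ok)
    (fun i hi j hj hne => hcomm i hi j hj hne _ _)]
  exact G1.mul_mem (h.ngen_mem _ ht) (G1.inv_mem (h.ngen_mem (fun _ => (1 : K)) fun i _ => (map_one (S.phi i)).symm))

end Cfsg.Lib.Tw
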