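/-
Perfectness of the twisted groups: torus commutators on orbits, long roots, opposite root groups.
-/
import Cfsg.Agent.Lib.Tw.Orth
import Cfsg.Agent.Lib.Chev.PerfectData

set_option autoImplicit false

namespace Cfsg.Lib.Tw

open Cfsg.Lie Cfsg.Lib.Chev
open scoped commutatorElement

variable {D : ChevalleyDatum} {A : Aux} {hc : Cert D A} {K : Type*} [Field K]

/-- the value of a torus element on a root -/
def tchar (A : Aux) {l : ℕ} (c : Fin l → Kˣ) (s : ℕ) : Kˣ := ∏ k : Fin l, c k ^ A.cA k s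

include hc in
theorem torusFin_conj (c : Fin D.rank → Kˣ) {r : ℕ} (hr : r < D.nroots) (t : K) :
    torusFin D A K c * xg D K r t * (torusFin D A K c)⁻¹ = xg D K r ((tchar A c r : K) * t) := by
  show dg D (torusVal A D.rank fun k => if h : k < D.rank then c ⟨k, h⟩ else 1) * _ *
    (dg D (torusVal A D.rank fun k => if h : k < D.rank then c ⟨k, h⟩ else 1))⁻¹ = _
  rw [dg_conj_x hc hr (isChar_torusVal hc _)]
  congr 3
  rw [torusVal, Finset.prod_range, tchar]
  exact Finset.prod_congr rfl fun k _ => by simp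

variable {S : Sigma hc K}

theorem tchar_twist {c : Fin D.rank → Kˣ} (hc' : c ∈ S.fixT) (i : Fin D.rank) :
    (tchar A c (D.simple (S.node i)) : K) = S.phi i (tchar A c (D.simple i) : K) := by
  have hm : torusFin D A K c ∈ D.group K := H_le_group hc (torusFin_mem (hc := hc) c)
  have hf : S.app (torusFin D A K c) = torusFin D A K c := by rw [S.app_torusFin, S.mem_fixT.1 hc']
  have h := torusFin_conj (hc := hc) c (simple_lt hc i.2) (1 : K)
  have h' := congrArg S.app h
  rw [S.app_mul ((D.group K).mul_mem hm (xg_mem_group hc (simple_lt hc i.2) _)) ((D.group K).inv_mem hm),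
    S.app_mul hm (xg_mem_group hc (simple_lt hc i.2) _), S.app_inv hm, hf, S.app_simple, S.app_simple,
    torusFin_conj (hc := hc) c (simple_lt hc (S.node i).2), map_one, mul_one, mul_one] at h'
  by_contra hne
  have h2 : xg D K (D.simple (S.node i))
      ((tchar A c (D.simple (S.node i)) : K) - S.phi i (tchar A c (D.simple i) : K)) = 1 := by
    rw [sub_eq_add_neg, ← xg_add hc (simple_lt hc (S.node i).2), ← xg_inv hc (simple_lt hc (S.node i).2), h',
      mul_inv_cancel]
  exact hne (sub_eq_zero.1 ((xg_eq_one_iff hc (simple_lt hc (S.node i).2) _).1 h2))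

variable {O : Orbits S} {J : Fin O.no} {G1 : Subgroup (GL D.Idx K)}

theorem Orth.torus_perfect (h : Orth O J G1) {c : Fin D.rank → Kˣ} (hc' : c ∈ S.fixT)
    (hmem : torusFin D A K c ∈ G1) (hne : ∀ i ∈ O.nd J, (tchar A c (D.simple i) : K) ≠ 1)
    {t : Fin D.rank → K} (ht : ∀ i ∈ O.nd J, t (S.node i) = S.phi i (t i)) :
    orbProd O J true t ∈ ⁅G1, G1⁆ := by
  set u : Fin D.rank → K := fun i => t i / ((tchar A c (D.simple i) : K) - 1) with hu
  have hu' : ∀ i ∈ O.nd J, u (S.node i) = S.phi i (u i) := fun i hi => by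
    simp only [hu]
    rw [ht i hi, tchar_twist hc' i, map_div₀, map_sub, map_one]
  have e1 : torusFin D A K c * orbProd O J true u * (torusFin D A K c)⁻¹ =
      orbProd O J true fun i => (tchar A c (D.simple i) : K) * u i := by
    rw [← MulAut.conj_apply, orbProd, map_list_prod, List.map_map, orbProd]
    refine congrArg List.prod (List.map_congr_left fun i _ => ?_)
    exact torusFin_conj (hc := hc) c (simple_lt hc i.2) (u i)
  have e2 : orbProd O J true t = ⁅torusFin D A K c, orbProd O J true u⁆ := by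
    rw [commutatorElement_def, e1]
    refine (mul_inv_eq_iff_eq_mul.2 ?_).symm
    rw [orbProd_mul h.ok]
    refine congrArg List.prod (List.map_congr_left fun i hi => ?_)
    show xg D K _ _ = xg D K _ _
    congr 1
    have h0 : (tchar A c (D.simple i) : K) - 1 ≠ 0 := sub_ne_zero.2 (hne i hi)
    simp only [hu, Pi.add_apply]
    field_simp
    ring
  rw [e2]
  exact Subgroup.commutator_mem_commutator hmem (h.gen true u hu')

/-- the opposite root group of an orbit follows by conjugation -/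
theorem Parts.neg_mem (P : Parts O) (h : Orth O J P.G1)
    (hpos : ∀ t : Fin D.rank → K, (∀ i ∈ O.nd J, t (S.node i) = S.phi i (t i)) →
      orbProd O J true t ∈ ⁅P.G1, P.G1⁆)
    (hcl : ∀ i ∈ O.nd J, S.node i ∈ O.nd J) (hsq : O.piJ J * O.piJ J = 1)
    {t : Fin D.rank → K} (ht : ∀ i ∈ O.nd J, t (S.node i) = S.phi i (t i)) :
    orbProd O J false t ∈ ⁅P.G1, P.G1⁆ := by
  have hG : ⁅P.G1, P.G1⁆ ≤ P.G1 := Subgroup.commutator_le.2 fun a ha b hb => by
    rw [commutatorElement_def]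
    exact P.G1.mul_mem (P.G1.mul_mem (P.G1.mul_mem ha hb) (P.G1.inv_mem ha)) (P.G1.inv_mem hb)
  set n := P.nJ J
  set w := orbProd O J false t with hw
  have hwG : w ∈ P.G1 := h.gen false t ht
  have hU : n * w * n⁻¹ ∈ Uw D A K (O.piJ J) := by
    rw [hw, ← MulAut.conj_apply, orbProd, map_list_prod, List.map_map]
    refine list_prod_mem fun x hx => ?_
    obtain ⟨i, hi, rfl⟩ := List.mem_map.1 hx
    simp only [Function.comp_apply, MulAut.conj_apply]
    obtain ⟨hroot, c, -, hcx⟩ := P.nJ_acts J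
    show n * xg D K ((nR (sR hc i) : Fin D.nroots) : ℕ) (t i) * n⁻¹ ∈ _
    rw [hcx]
    refine xg_mem_Uw _ ?_ ?_ _
    · rw [hroot.neg, pos_nR _ hc]
      have hn := O.neg J i hi
      simp only [Orbits.piJ]
      rw [hn]; rfl
    · rw [show O.piJ J (O.piJ J (nR (sR hc i))) = nR (sR hc i) by rw [← Equiv.Perm.mul_apply, hsq]; rfl,
        pos_nR _ hc]
      simp [sR, simple_pos hc i.2]
  have hfix : n * w * n⁻¹ ∈ fixU S (O.piJ J) :=
    ⟨hU, P.le_fix (P.G1.mul_mem (P.G1.mul_mem (P.nJ_mem J) hwG) (P.G1.inv_mem (P.nJ_mem J)))⟩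
  obtain ⟨u, hu, e⟩ := (h.fixU_eq hcl _).1 hfix
  have hm := hpos u hu
  rw [← e] at hm
  have : n⁻¹ * (n * w * n⁻¹) * n⁻¹⁻¹ ∈ ⁅P.G1, P.G1⁆ := by
    have hnorm : P.G1 ≤ Subgroup.normalizer ((⁅P.G1, P.G1⁆ : Subgroup (GL D.Idx K)) : Set (GL D.Idx K)) := by
      intro g hg
      rw [Subgroup.mem_normalizer_iff]
      intro x
      have key : ∀ g ∈ P.G1, ∀ x ∈ ⁅P.G1, P.G1⁆, g * x * g⁻¹ ∈ ⁅P.G1, P.G1⁆ := by
        intro g hg x hx
        have h1 : ⁅g, x⁆ ∈ ⁅P.G1, P.G1⁆ := Subgroup.commutator_mem_commutator hg (hG hx)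
        rw [commutatorElement_def] at h1
        have := Subgroup.mul_mem _ h1 hx
        rwa [inv_mul_cancel_right] at this
      refine ⟨key g hg x, fun hx => ?_⟩
      have := key g⁻¹ (P.G1.inv_mem hg) _ hx
      simpa [mul_assoc] using this
    exact ((Subgroup.mem_normalizer_iff.1 (hnorm (P.G1.inv_mem (P.nJ_mem J)))) _).1 hm
  simpa [mul_assoc] using this

/-- a long root element of a fixed node, as a commutator of conjugates of itself -/
theorem Parts.long_perfect (P : Parts O) {i ia ib : Fin D.rank}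
    (hga : ∀ t : K, S.phi i t = t → xg D K (D.simple ia) t ∈ P.G1)
    (hgb : xg D K (D.simple ib) (1 : K) ∈ P.G1)
    (hgi : S.node i = i)
    {La Lb Lk : List (Fin D.rank)} (hLa : wp hc La ∈ S.W1) (hLb : wp hc Lb ∈ S.W1) (hLk : wp hc Lk ∈ S.W1)
    {c : ℤ} (hc0 : (c : K) ≠ 0)
    (hne : (wp hc Lb (sR hc ib) : ℕ) ≠ (wp hc La (sR hc ia) : ℕ))
    (hneg : (wp hc Lb (sR hc ib) : ℕ) ≠ negI D (wp hc La (sR hc ia) : ℕ))
    (hterm : D.commTerms (wp hc La (sR hc ia) : ℕ) (wp hc Lb (sR hc ib) : ℕ) =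
      [((wp hc Lk (sR hc i) : Fin D.nroots).val, c, 1, 1)])
    {t : K} (ht : S.phi i t = t) : xg D K (D.simple i) t ∈ ⁅P.G1, P.G1⁆ := by
  obtain ⟨na, hna, -, -, ca, -, hax⟩ := P.exists_rep hLa
  obtain ⟨nb, hnb, -, -, cb, -, hbx⟩ := P.exists_rep hLb
  obtain ⟨nk, hnk, -, -, ck, -, hkx⟩ := P.exists_rep hLk
  have hC : ∀ s : K, S.phi i s = s →
      xg D K (D.simple i) ((ck (sR hc i) : K)⁻¹ * ((c : K) * ((ca (sR hc ia) : K) * -s) * (cb (sR hc ib) : K))) ∈
        ⁅P.G1, P.G1⁆ := by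
    intro s hs
    set a := (wp hc La (sR hc ia) : Fin D.nroots)
    set b := (wp hc Lb (sR hc ib) : Fin D.nroots)
    set k := (wp hc Lk (sR hc i) : Fin D.nroots)
    set ta : K := (ca (sR hc ia) : K) * s
    set tb : K := (cb (sR hc ib) : K) * 1
    have hA : xg D K a ta ∈ P.G1 := by
      rw [← hax]
      exact P.G1.mul_mem (P.G1.mul_mem hna (hga s hs)) (P.G1.inv_mem hna)
    have hB : xg D K b tb ∈ P.G1 := by
      rw [← hbx]
      exact P.G1.mul_mem (P.G1.mul_mem hnb hgb) (P.G1.inv_mem hnb)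
    have hf := comm_formula hc a.2 b.2 hne hneg ta tb
    have e : xg D K b tb * xg D K a ta = xg D K a ta * xg D K b tb * xg D K k ((c : K) * -ta * tb) := by
      refine Units.ext ?_
      simp only [Units.val_mul, coe_xg hc a.2, coe_xg hc b.2, coe_xg hc k.2]
      rw [hf]
      simp [ChevalleyDatum.commWord, hterm, ChevalleyDatum.wordMat]
    have e' : xg D K k ((c : K) * -ta * tb) = ⁅(xg D K b tb)⁻¹, (xg D K a ta)⁻¹⁆ := by
      rw [commutatorElement_def]
      simp only [inv_inv, mul_assoc]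
      rw [e]; group
    have hm : xg D K k ((c : K) * -ta * tb) ∈ ⁅P.G1, P.G1⁆ := by
      rw [e']
      exact Subgroup.commutator_mem_commutator (inv_mem hB) (inv_mem hA)
    have e3 : nk * xg D K (D.simple i)
        ((ck (sR hc i) : K)⁻¹ * ((c : K) * ((ca (sR hc ia) : K) * -s) * (cb (sR hc ib) : K))) * nk⁻¹ =
        xg D K k ((c : K) * -ta * tb) := by
      refine (hkx (sR hc i) _).trans ?_
      congr 1
      rw [← mul_assoc _ ((ck (sR hc i) : K))⁻¹, mul_inv_cancel₀ (Units.ne_zero _), one_mul]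
      simp only [ta, tb]; ring
    set x := xg D K (D.simple i) ((ck (sR hc i) : K)⁻¹ * ((c : K) * ((ca (sR hc ia) : K) * -s) * (cb (sR hc ib) : K)))
    have hG : ⁅P.G1, P.G1⁆ ≤ P.G1 := Subgroup.commutator_le.2 fun a ha b hb => by
      rw [commutatorElement_def]
      exact P.G1.mul_mem (P.G1.mul_mem (P.G1.mul_mem ha hb) (P.G1.inv_mem ha)) (P.G1.inv_mem hb)
    have h1 := Subgroup.commutator_mem_commutator (P.G1.inv_mem hnk) (hG hm)
    rw [← e3, commutatorElement_def, inv_inv] at h1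
    rw [show x = nk⁻¹ * (nk * x * nk⁻¹) * nk * (nk * x * nk⁻¹)⁻¹ * (nk * x * nk⁻¹) by group]
    rw [e3] at h1 ⊢
    exact mul_mem h1 hm
  -- the coefficient is fixed by the twist
  set κ : K := (ck (sR hc i) : K)⁻¹ * ((c : K) * ((ca (sR hc ia) : K) * -1) * (cb (sR hc ib) : K)) with hκ
  have hκ0 : κ ≠ 0 := by
    simp [hκ, hc0]
  have hκf : S.phi i κ = κ := by
    have h1 := hC 1 (map_one _)
    have hG : ⁅P.G1, P.G1⁆ ≤ P.G1 := Subgroup.commutator_le.2 fun a ha b hb => by
      rw [commutatorElement_def]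
      exact P.G1.mul_mem (P.G1.mul_mem (P.G1.mul_mem ha hb) (P.G1.inv_mem ha)) (P.G1.inv_mem hb)
    have h2 := (S.mem_fix.1 (P.le_fix (hG h1))).2
    rw [← hκ, S.app_simple, hgi] at h2
    by_contra hne
    refine hne (sub_eq_zero.1 ((xg_eq_one_iff hc (simple_lt hc i.2) _).1 ?_))
    rw [sub_eq_add_neg, ← xg_add hc (simple_lt hc i.2), ← xg_inv hc (simple_lt hc i.2), h2, mul_inv_cancel]
  have := hC (t / κ) (by rw [map_div₀, ht, hκf])
  convert this using 2
  rw [show (ck (sR hc i) : K)⁻¹ * ((c : K) * ((ca (sR hc ia) : K) * -(t / κ)) * (cb (sR hc ib) : K)) =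
    κ * (t / κ) by rw [hκ]; ring]
  rw [mul_div_cancel₀ _ hκ0]

/-- perfectness from membership of the generators -/
theorem perfect_of_gens {G : Subgroup (GL D.Idx K)} (h : G ≤ ⁅G, G⁆) : commutator ↥G = ⊤ := by
  refine Subgroup.map_injective G.subtype_injective ?_
  rw [commutator_def, Subgroup.map_commutator, ← MonoidHom.range_eq_map, Subgroup.range_subtype]
  exact le_antisymm (Subgroup.commutator_le.2 fun a ha b hb => by
    rw [commutatorElement_def]
    exact G.mul_mem (G.mul_mem (G.mul_mem ha hb) (G.inv_mem ha)) (G.inv_mem hb)) h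

end Cfsg.Lib.Tw
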