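/-
Orbit and coset tables for the twisted Weyl groups of types 3D4, 2E6, 2F4, 2G2.
-/
import Cfsg.Agent.Lib.Tw.Chain
import Cfsg.Agent.Lib.Tw.Data

set_option autoImplicit false

namespace Cfsg.Lib.Tw

open Cfsg.Lie Cfsg.Lib.Chev

/-- the orbits of the twist of D4 -/
def orbD4 : OrbData := ⟨[[1],[0,2,3]], [[1],[0,2,3]], [[[],[1]], [[],[0],[2],[3],[0,2],[0,3],[2,3],[0,2,3]]]⟩

/-- coset representatives in the twisted Weyl group of D4 -/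
def chainD4 : List (List (List ℕ) × List (List ℕ)) :=
  [([[], [0]], [[1], [0]]), ([[], [1], [0, 1], [1, 0, 1], [0, 1, 0, 1], [1, 0, 1, 0, 1]], [[6, 1], [2, 0],
    [1, 3], [4, 2], [3, 5], [6, 4]])]

theorem orbOK_D4 : orbOK chevD4 auxD4 isoD4 orbD4 = true := by decide +kernel

theorem chainOK_D4 : tchainOK chevD4 auxD4 orbD4 1 chainD4 = true := by decide +kernel

/-- the orbits of the twist of E6 -/
def orbE6 : OrbData := ⟨[[0,5],[2,4],[3],[1]], [[0,5],[2,4],[3],[1]], 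
  [[[],[0],[5],[0,5]],[[],[2],[4],[2,4]],[[],[3]],[[],[1]]]⟩

/-- coset representatives in the twisted Weyl group of E6 -/
def chainE6 : List (List (List ℕ) × List (List ℕ)) :=
  [([[], [0]], [[1], [0]]), ([[], [1], [0, 1]], [[3, 1], [2, 0], [1, 3]]), ([[], [2], [1, 2], [0, 1, 2], [2,
    1, 2], [2, 0, 1, 2], [1, 2, 0, 1, 2], [2, 1, 2, 0, 1, 2]], [[8, 9, 1], [8, 2, 0], [3, 1, 4], [2, 8, 5],
    [5, 9, 2], [4, 6, 3], [9, 5, 7], [9, 8, 6]]), ([[], [3], [2, 3], [1, 2, 3], [0, 1, 2, 3], [2, 1, 2, 3],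
    [2, 0, 1, 2, 3], [3, 2, 1, 2, 3], [1, 2, 0, 1, 2, 3], [3, 2, 0, 1, 2, 3], [2, 1, 2, 0, 1, 2, 3], [3, 1,
    2, 0, 1, 2, 3], [3, 2, 1, 2, 0, 1, 2, 3], [2, 3, 1, 2, 0, 1, 2, 3], [2, 3, 2, 1, 2, 0, 1, 2, 3], [1, 2,
    3, 1, 2, 0, 1, 2, 3], [1, 2, 3, 2, 1, 2, 0, 1, 2, 3], [0, 1, 2, 3, 1, 2, 0, 1, 2, 3], [0, 1, 2, 3, 2, 1,
    2, 0, 1, 2, 3], [2, 1, 2, 3, 2, 1, 2, 0, 1, 2, 3], [2, 0, 1, 2, 3, 2, 1, 2, 0, 1, 2, 3], [1, 2, 0, 1, 2,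
    3, 2, 1, 2, 0, 1, 2, 3], [2, 1, 2, 0, 1, 2, 3, 2, 1, 2, 0, 1, 2, 3], [3, 2, 1, 2, 0, 1, 2, 3, 2, 1, 2,
    0, 1, 2, 3]], [[24, 25, 26, 1], [24, 25, 2, 0], [24, 3, 1, 26], [4, 2, 5, 26], [3, 24, 6, 26], [6, 25,
    3, 7], [5, 8, 4, 9], [9, 25, 26, 5], [25, 6, 10, 11], [7, 11, 26, 6], [25, 24, 8, 12], [25, 9, 13, 8],
    [25, 24, 14, 10], [25, 15, 11, 14], [25, 16, 12, 13], [17, 13, 26, 16], [18, 14, 19, 15], [15, 25, 26,
    18], [16, 25, 20, 17], [20, 24, 16, 26], [19, 21, 18, 26], [24, 20, 22, 26], [24, 25, 21, 23], [24, 25,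
    26, 22]])]

theorem orbOK_E6 : orbOK chevE6 auxE6 isoE6 orbE6 = true := by decide +kernel

theorem chainOK_E6 : tchainOK chevE6 auxE6 orbE6 1 chainE6 = true := by decide +kernel

/-- the orbits of the twist of F4 -/
def orbF4 : OrbData := ⟨[[0,3],[1,2]], [[0,3],[1,2,1,2]], 
  [[[],[0],[3],[0,3]],[[],[1],[2],[1,2],[2,1],[1,2,1],[2,1,2],[1,2,1,2]]]⟩

/-- coset representatives in the twisted Weyl group of F4 -/
def chainF4 : List (List (List ℕ) × List (List ℕ)) :=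
  [([[], [0]], [[1], [0]]), ([[], [1], [0, 1], [1, 0, 1], [0, 1, 0, 1], [1, 0, 1, 0, 1], [0, 1, 0, 1, 0, 1],
    [1, 0, 1, 0, 1, 0, 1]], [[8, 1], [2, 0], [1, 3], [4, 2], [3, 5], [6, 4], [5, 7], [8, 6]])]

theorem orbOK_F4 : orbOK chevF4 auxF4 isoF4 orbF4 = true := by decide +kernel

theorem chainOK_F4 : tchainOK chevF4 auxF4 orbF4 2 chainF4 = true := by decide +kernel

/-- the orbits of the twist of G2 -/
def orbG2 : OrbData := ⟨[[0,1]], [[0,1,0,1,0,1]], 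
  [[[],[0],[1],[0,1],[1,0],[0,1,0],[1,0,1],[0,1,0,1],[1,0,1,0],[0,1,0,1,0],[1,0,1,0,1],[0,1,0,1,0,1]]]⟩

/-- coset representatives in the twisted Weyl group of G2 -/
def chainG2 : List (List (List ℕ) × List (List ℕ)) :=
  [([[], [0]], [[1], [0]])]

theorem orbOK_G2 : orbOK chevG2 auxG2 isoG2 orbG2 = true := by decide +kernel

theorem chainOK_G2 : tchainOK chevG2 auxG2 orbG2 2 chainG2 = true := by decide +kernel

end Cfsg.Lib.Tw
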