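/-
Small tools shared by the families: Weyl words, torus decomposition, Coxeter presentations.
-/
import Cfsg.Agent.Lib.Tw.Perfect
import Cfsg.Agent.Lib.Tw.Tables
import Cfsg.Agent.Lib.Chev.CoxeterData

set_option autoImplicit false

namespace Cfsg.Lib.Tw

open Cfsg.Lie Cfsg.Lib.Chev

variable {D : ChevalleyDatum} {A : Aux} {hc : Cert D A} {K : Type*} [Field K] {S : Sigma hc K}

/-- the word commutes with the symmetry -/
def commOK (D : ChevalleyDatum) (A : Aux) (d : IsoData) (L : List ℕ) : Bool :=
  (L.all fun i => Nat.blt i D.rank) &&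
    allB D.nroots fun s => Nat.beq (d.root.getD (wAct A L s) 0) (wAct A L (d.root.getD s 0))

theorem word_mem_W1 {d : IsoData} (hs : symOK D A d = true) (hr : S.root = rootPerm hs) {L : List ℕ}
    (h : commOK D A d L = true) : wp hc (toFins D.rank L) ∈ S.W1 := by
  simp only [commOK, Bool.and_eq_true, List.all_eq_true, Nat.blt_eq, allB_iff, Nat.beq_eq] at h
  refine S.mem_W1.2 ⟨(mem_Wgrp hc).2 ⟨_, rfl⟩, (tw_eq_iff hs hr _).2 fun s => ?_⟩
  rw [map_val_toFins h.1]
  exact h.2 s s.2

include hc in
theorem len_word {L : List ℕ} (h : ∀ i ∈ L, i < D.rank) (hr : redOK D A L = true) :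
    len D A (wp hc (toFins D.rank L)) = L.length :=
  len_of_redOK hc h hr

theorem torusFin_list (l : List (Fin D.rank)) (c : Fin D.rank → Kˣ) :
    torusFin D A K (l.map fun i => Pi.mulSingle i (c i)).prod = (l.map fun i : Fin D.rank => hg D A i (c i)).prod := by
  rw [map_list_prod, List.map_map]
  exact congrArg List.prod (List.map_congr_left fun i _ => torusFin_single (D := D) (A := A) i (c i))

theorem hsq_of_imgCode {O : Orbits S} {J : Fin O.no} {L : List ℕ} (hL : O.wJ J = toFins D.rank L)
    (hlt : ∀ i ∈ L, i < D.rank) (h : imgCode D A (L ++ L) = imgCode D A []) :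
    O.piJ J * O.piJ J = 1 := by
  have e := wp_eq_of_imgCode hc (L := L ++ L) (L' := []) (by
    intro x hx
    rcases List.mem_append.1 hx with hx | hx <;> exact hlt x hx) (by simp) h
  rw [toWord, List.filterMap_append, wp_append] at e
  show wp hc (O.wJ J) * wp hc (O.wJ J) = 1
  rw [hL]
  simpa [toWord, toFins] using e

theorem W1fin_card (O : Orbits S) {o : OrbData} (he : O.no = o.os.length)
    (hO : ∀ J, O.nd J = toFins D.rank (o.os.getD (Fin.cast he J) []) ∧
      O.wJ J = toFins D.rank (o.ws.getD (Fin.cast he J) []))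
    {e : ℕ} {St : List (List (List ℕ) × List (List ℕ))} (h : tchainOK D A o e St = true) :
    Nat.card ↥S.W1 = (St.map fun p => p.1.length).prod := by
  classical
  have h1 := twPoin_prod O he hO h 1
  simp only [one_pow, Finset.sum_const, smul_eq_mul, mul_one, List.map_const', List.sum_replicate] at h1
  rw [← h1, Nat.card_eq_fintype_card, Fintype.card_subtype]
  congr 1

/-- orders of products of orbit elements -/
def coxOrdOK (D : ChevalleyDatum) (A : Aux) (L : List ℕ) : Bool :=
  allB D.nroots fun s => Nat.beq (wAct A L s) s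

theorem exists_coxeter_iso {n : ℕ} (O : Orbits S) {o : OrbData} (he : O.no = o.os.length) (hn : o.os.length = n)
    (hO : ∀ J, O.nd J = toFins D.rank (o.os.getD (Fin.cast he J) []) ∧
      O.wJ J = toFins D.rank (o.ws.getD (Fin.cast he J) []))
    (hws : ∀ j < n, ∀ i ∈ o.ws.getD j [], i < D.rank)
    (M : CoxeterMatrix (Fin n))
    (hM : ∀ i j : Fin n,
      coxOrdOK D A ((List.replicate (M i j) (o.ws.getD i [] ++ o.ws.getD j [])).flatten) = true)
    (hcard : Nat.card M.Group = Nat.card ↥S.W1) : Nonempty (↥S.W1 ≃* M.Group) := by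
  classical
  let f : Fin n → ↥S.W1 := fun i => ⟨O.piJ ⟨i, by omega⟩, O.piJ_mem _⟩
  have hf : ∀ i : Fin n, (f i : Equiv.Perm (Fin D.nroots)) = wp hc (toFins D.rank (o.ws.getD i [])) := fun i => by
    show wp hc (O.wJ _) = _
    rw [(hO _).2]; rfl
  have hlift : M.IsLiftable f := by
    intro i j
    refine Subtype.ext ?_
    rw [Subgroup.coe_pow, Subgroup.coe_mul, hf, hf, Subgroup.coe_one, ← wp_append]
    have key : ∀ k : ℕ, (wp hc (toFins D.rank (o.ws.getD i []) ++ toFins D.rank (o.ws.getD j []))) ^ k =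
        wp hc (List.replicate k (toFins D.rank (o.ws.getD i []) ++ toFins D.rank (o.ws.getD j []))).flatten := by
      intro k
      induction k with
      | zero => simp
      | succ k ih => rw [List.replicate_succ, List.flatten_cons, pow_succ', ih]; exact (wp_append hc _ _).symm
    rw [key]
    refine Equiv.ext fun s => Fin.ext ?_
    have h := hM i j
    simp only [coxOrdOK, allB_iff, Nat.beq_eq] at h
    rw [wp_val, List.map_flatten, List.map_replicate, List.map_append, map_val_toFins (hws i i.2),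
      map_val_toFins (hws j j.2)]
    exact h s s.2
  let φ : M.Group →* ↥S.W1 := M.toCoxeterSystem.lift ⟨f, hlift⟩
  have hφ : ∀ i, φ (M.simple i) = f i := fun i => M.toCoxeterSystem.lift_apply_simple hlift i
  have hsurj : Function.Surjective φ := by
    rintro ⟨π, hπ⟩
    have hle : S.W1 ≤ φ.range.map S.W1.subtype := by
      refine O.W1_eq_closure.trans_le ((Subgroup.closure_le _).2 ?_)
      rintro x ⟨J, rfl⟩
      refine ⟨f ⟨J, by omega⟩, ⟨M.simple ⟨J, by omega⟩, hφ _⟩, ?_⟩
      rfl
    obtain ⟨x, ⟨g, hg⟩, hx⟩ := hle hπ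
    exact ⟨g, hg.trans (Subtype.ext hx)⟩
  haveI : Finite M.Group := Nat.finite_of_card_ne_zero (hcard ▸ Nat.card_pos.ne')
  exact ⟨(MulEquiv.ofBijective φ ((Nat.bijective_iff_surjective_and_card φ).2 ⟨hsurj, hcard⟩)).symm⟩

end Cfsg.Lib.Tw
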