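/-
Tools for the Suzuki and Ree twists: identities between words over the prime field, injectivity of the
special isogeny, conjugation of root products.
-/
import Cfsg.Agent.Lib.Tw.Tools
import Cfsg.Agent.Lib.Chev.All

set_option autoImplicit false

namespace Cfsg.Lib.Tw

open Cfsg.Lie Cfsg.Lib.Chev

variable {D : ChevalleyDatum} {A : Aux} {hc : Cert D A} {K : Type*} [Field K]

/-- a word with integer parameters as a normalised sparse matrix -/
def intWordEnts (D : ChevalleyDatum) (A : Aux) : List (ℕ × ℤ) → List Ent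
  | [] => []
  | c :: L => norm (omul (sub c.2 0 0 (sp D A c.1)) (intWordEnts D A L))

/-- two words agree modulo `p` -/
def wordIdOK (D : ChevalleyDatum) (A : Aux) (p : ℕ) (L L' : List (ℕ × ℤ)) : Bool :=
  ((L ++ L').all fun c => Nat.blt c.1 D.nroots) && eqvMod p (intWordEnts D A L) (intWordEnts D A L')

include hc in
theorem toMat_intWordEnts (t u : K) : ∀ L : List (ℕ × ℤ), (∀ c ∈ L, c.1 < D.nroots) →
    1 + toMat (enc D) t u (intWordEnts D A L) = D.wordMat K (L.map fun c => (c.1, (c.2 : K)))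
  | [], _ => by simp [intWordEnts, ChevalleyDatum.wordMat]
  | c :: L, h => by
    have hc1 := h c List.mem_cons_self
    rw [intWordEnts, toMat_norm, ← toMat_omul _ _ _ (bdd_sub _ _ _ (bdd_sp hc hc1)),
      toMat_intWordEnts t u L fun c hc => h c (List.mem_cons_of_mem _ hc), toMat_sub _ _ _ _ _ sp_du, ← x_eq hc hc1]
    simp only [ChevalleyDatum.wordMat, List.map_cons, List.prod_cons]
    congr 2
    simp

include hc in
theorem wordProd_eq_of_ok {p : ℕ} (hp : (p : K) = 0) {L L' : List (ℕ × ℤ)} (h : wordIdOK D A p L L' = true) :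
    wordProd D (L.map fun c => (c.1, (c.2 : K))) = wordProd D (L'.map fun c => (c.1, (c.2 : K))) := by
  simp only [wordIdOK, Bool.and_eq_true, List.all_eq_true, Nat.blt_eq] at h
  have h1 : ∀ c ∈ L, c.1 < D.nroots := fun c hc => h.1 c (List.mem_append_left _ hc)
  have h2 : ∀ c ∈ L', c.1 < D.nroots := fun c hc => h.1 c (List.mem_append_right _ hc)
  refine Units.ext ?_
  rw [coe_wordProd (hc := hc) (fun x hx => ?_), coe_wordProd (hc := hc) (fun x hx => ?_),
    ← toMat_intWordEnts (hc := hc) (1 : K) 1 L h1, ← toMat_intWordEnts (hc := hc) (1 : K) 1 L' h2]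
  · congr 1
    ext i j
    rw [toMat_apply, toMat_apply]
    exact ev_eq_of_eqvMod hp h.2 _ _ _ _
  · obtain ⟨c, hc', rfl⟩ := List.mem_map.1 hx; exact h2 c hc'
  · obtain ⟨c, hc', rfl⟩ := List.mem_map.1 hx; exact h1 c hc'

theorem wordProd_append (w w' : List (ℕ × K)) : wordProd D (w ++ w') = wordProd D w * wordProd D w' := by
  simp [wordProd]

/-- the word of a product of representatives -/
def ngWord (D : ChevalleyDatum) : List ℕ → List (ℕ × ℤ)
  | [] => []
  | i :: L => [(D.simple i, 1), (negI D (D.simple i), -1), (D.simple i, 1)] ++ ngWord D L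

theorem wordProd_ngWord : ∀ L : List ℕ, (∀ i ∈ L, i < D.rank) →
    wordProd D ((ngWord D L).map fun c => (c.1, (c.2 : K))) = wg D K (toFins D.rank L)
  | [], _ => by simp [ngWord, wordProd, wg, toFins]
  | i :: L, h => by
    rw [ngWord, List.map_append, wordProd_append, wordProd_ngWord L fun x hx => h x (List.mem_cons_of_mem _ hx)]
    rw [show toFins D.rank (i :: L) = ⟨i, h i List.mem_cons_self⟩ :: toFins D.rank L by
      simp [toFins, h i List.mem_cons_self], wg_cons]
    congr 1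
    simp [wordProd, ng, ngen, mul_assoc]

/-- the integer value of an entry of a root element at parameter one -/
theorem ev_one_cast (L : List Ent) (i j : ℕ) :
    ev (1 : K) 1 L i j = ((ev (1 : ℤ) 1 L i j : ℤ) : K) := by
  induction L with
  | nil => simp [ev]
  | cons e L ih =>
    rw [ev_cons, ev_cons, ih, Int.cast_add]
    congr 1
    simp only [Ent.at']
    split <;> simp

include hc in
theorem subMat_injective_of_simple {d : IsoData} (h : isoOK D A d = true) (hm : (d.md : K) = 0)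
    (hS : IsSimpleGroup ↥(D.group K)) {r : ℕ} (hr : r < D.nroots) {i j : ℕ} (hi : i < d.li.length)
    (hj : j < d.li.length) (hne : d.li[i] ≠ d.li[j])
    (hv : ((ev (1 : ℤ) 1 (sp D A r) d.li[i] d.li[j] : ℤ) : K) ≠ 0) :
    ∀ g ∈ D.group K, subMat D d.li (isoOK_spec h).2.2.2.1 [] (g : Matrix D.Idx D.Idx K) = 1 → g = 1 := by
  classical
  obtain ⟨hn1, hn2, hlen, hI, hQ, hsg, hnode⟩ := isoOK_spec h
  have hs1 : ∀ x ∈ ([] : List ℤ), x = 1 ∨ x = -1 := fun x hx => by simp at hx
  let T : Subgroup (GL D.Idx K) :=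
    { carrier := {g | ColTri D d.li (g : Matrix D.Idx D.Idx K) ∧ ColTri D d.li ((g⁻¹ : GL D.Idx K) : Matrix D.Idx D.Idx K)}
      one_mem' := ⟨colTri_one _, by rw [inv_one]; exact colTri_one _⟩
      mul_mem' := fun {a b} ha hb => ⟨by rw [Units.val_mul]; exact ha.1.mul hb.1,
        by rw [mul_inv_rev, Units.val_mul]; exact hb.2.mul ha.2⟩
      inv_mem' := fun {a} ha => ⟨ha.2, by rw [inv_inv]; exact ha.1⟩ }
  have hT : D.group K ≤ T := by
    refine group_le_simple hc fun k t => ?_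
    obtain ⟨hj', h1, h2⟩ := hnode k k.2
    have hp := simple_lt hc k.2
    have hp' := simple_lt hc hj'
    refine ⟨⟨(iso_gen hc hm hp hp' h h1 t).1, ?_⟩, (iso_gen hc hm (negI_lt hp) (negI_lt hp') h h2 t).1, ?_⟩
    · rw [xg_inv hc hp]; exact (iso_gen hc hm hp hp' h h1 _).1
    · rw [xg_inv hc (negI_lt hp)]; exact (iso_gen hc hm (negI_lt hp) (negI_lt hp') h h2 _).1
  let f : ↥(D.group K) →* Matrix (Fin d.li.length) (Fin d.li.length) K :=
    { toFun := fun g => subMat D d.li hI [] ((g : GL D.Idx K) : Matrix D.Idx D.Idx K)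
      map_one' := by rw [Subgroup.coe_one, Units.val_one, subMat_one hI hn1 hs1]
      map_mul' := fun a b => by
        rw [Subgroup.coe_mul, Units.val_mul, subMat_mul hI hn1 hs1 (Or.inl (hT b.2).1)] }
  intro g hg hg1
  rcases hS.eq_bot_or_eq_top_of_normal f.ker (MonoidHom.normal_ker f) with h0 | h0
  · have : (⟨g, hg⟩ : ↥(D.group K)) ∈ f.ker := hg1
    rw [h0, Subgroup.mem_bot] at this
    exact congrArg Subtype.val this
  · exfalso
    have h1 : (⟨xg D K r 1, xg_mem_group hc hr 1⟩ : ↥(D.group K)) ∈ f.ker := by rw [h0]; exact Subgroup.mem_top _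
    have h1' : subMat D d.li hI [] ((xg D K r 1 : GL D.Idx K) : Matrix D.Idx D.Idx K) = 1 := MonoidHom.mem_ker.1 h1
    have h2 := congrFun (congrFun h1' ⟨i, hi⟩) ⟨j, hj⟩
    have hij : (⟨i, hi⟩ : Fin d.li.length) ≠ ⟨j, hj⟩ := fun e => hne (by
      obtain rfl : i = j := congrArg Fin.val e; rfl)
    rw [Matrix.one_apply_ne hij] at h2
    simp only [subMat, Matrix.of_apply, List.getD_nil, Int.cast_one, one_mul] at h2
    rw [coe_xg hc hr, x_eq hc hr (1 : K) 1, Matrix.add_apply, toMat_apply, Matrix.one_apply_ne (fun e =>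
      hne (Fin.mk.inj_iff.1 ((enc D).symm.injective e))), zero_add, Equiv.apply_symm_apply, Equiv.apply_symm_apply,
      ev_one_cast] at h2
    exact hv h2

variable {S : Sigma hc K} {O : Orbits S}

theorem Parts.conj_word_mem (P : Parts O) {J : Fin O.no} (hsq : O.piJ J * O.piJ J = 1) {w : List (ℕ × K)}
    (hw : ∀ p ∈ w, p.1 < D.nroots ∧ A.pos p.1 = false ∧ A.pos (wAct A ((O.wJ J).map Fin.val) p.1) = true) :
    P.nJ J * wordProd D w * (P.nJ J)⁻¹ ∈ Uw D A K (O.piJ J) := by
  rw [← MulAut.conj_apply, wordProd, map_list_prod, List.map_map]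
  refine list_prod_mem fun x hx => ?_
  obtain ⟨⟨r, t⟩, hr, rfl⟩ := List.mem_map.1 hx
  obtain ⟨hlt, h1, h2⟩ := hw _ hr
  obtain ⟨-, c, -, hcx⟩ := P.nJ_acts J
  simp only [Function.comp_apply, MulAut.conj_apply]
  show P.nJ J * xg D K ((⟨r, hlt⟩ : Fin D.nroots) : ℕ) t * (P.nJ J)⁻¹ ∈ _
  rw [hcx]
  refine xg_mem_Uw _ ?_ ?_ _
  · show A.pos ((wp hc (O.wJ J) ⟨r, hlt⟩ : Fin D.nroots) : ℕ) = true
    rw [wp_val]; exact h2
  · rw [show O.piJ J (O.piJ J ⟨r, hlt⟩) = ⟨r, hlt⟩ by rw [← Equiv.Perm.mul_apply, hsq]; rfl]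
    exact h1

theorem mem_comm_of_conj {G : Type*} [Group G] {H : Subgroup G} {n x : G} (hn : n ∈ H)
    (hx : n * x * n⁻¹ ∈ ⁅H, H⁆) : x ∈ ⁅H, H⁆ := by
  have hle : ⁅H, H⁆ ≤ H := Subgroup.commutator_le.2 fun a ha b hb => by
    rw [commutatorElement_def]
    exact H.mul_mem (H.mul_mem (H.mul_mem ha hb) (H.inv_mem ha)) (H.inv_mem hb)
  have h1 := Subgroup.commutator_mem_commutator (H.inv_mem hn) (hle hx)
  have h2 := Subgroup.mul_mem _ h1 hx
  rwa [commutatorElement_def, inv_inv, inv_mul_cancel_right,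
    show n⁻¹ * (n * x * n⁻¹) * n = x by group] at h2

include hc in
/-- a torus element supported where the representative acts by inversion -/
theorem wg_conj_torus (L : List (Fin D.rank)) (c : Fin D.rank → Kˣ) (hsq : wp hc L * wp hc L = 1)
    (h : ∀ (k : Fin D.rank) (s : Fin D.nroots), c k = 1 ∨ A.cA k (wp hc L s : Fin D.nroots) = -A.cA k s) :
    wg D K L * torusFin D A K c * (wg D K L)⁻¹ = (torusFin D A K c)⁻¹ := by
  rw [← map_inv]
  show wg D K L * dg D (torusVal A D.rank fun k => if h : k < D.rank then c ⟨k, h⟩ else 1) * (wg D K L)⁻¹ =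
    dg D (torusVal A D.rank fun k => if h : k < D.rank then c⁻¹ ⟨k, h⟩ else 1)
  refine wg_conj_dg hc L _ _ fun s => ?_
  rw [inv_eq_of_mul_eq_one_left hsq, torusVal, torusVal, Finset.prod_range, Finset.prod_range]
  refine Finset.prod_congr rfl fun k _ => ?_
  simp only [Fin.is_lt, dite_true, Pi.inv_apply, Fin.eta]
  rcases h k s with h0 | h0
  · simp [h0]
  · rw [h0, inv_zpow, zpow_neg]

end Cfsg.Lib.Tw
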