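/-
The groups 2G2(q).
-/
import Cfsg.Agent.Lib.Tw.Tools2
import Cfsg.Agent.Lib.Tw.Ree
import Cfsg.Prelude.Def_LieTwisted

set_option autoImplicit false

namespace Cfsg.Lib.Tw.G2

open Cfsg.Lie Cfsg.Lib.Chev

variable {K : Type*} [Field K] [Fintype K] {m : ℕ}

/-- the short node -/
def n0 : Fin chevG2.rank := ⟨0, by decide +kernel⟩
/-- the long node -/
def n1 : Fin chevG2.rank := ⟨1, by decide +kernel⟩

theorem node_cases (i : Fin chevG2.rank) : i = n0 ∨ i = n1 := by
  have hr : chevG2.rank = 2 := by decide +kernel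
  obtain ⟨i, hi⟩ := i
  rw [hr] at hi
  simp only [n0, n1, Fin.ext_iff]
  omega

/-- the exponent of a root: three on short roots -/
def lamR (r : ℕ) : ℕ := if isoG2.li.contains (2 + r) then 3 else 1

theorem isoOK1_all : allB chevG2.nroots (fun r =>
    isoOK1 chevG2 auxG2 isoG2 r (isoG2.root.getD r 0) (lamR r) &&
      Nat.blt (isoG2.root.getD r 0) chevG2.nroots) = true := by decide +kernel

/-- the twisting endomorphism with its orbit -/
structure Setup (K : Type*) [Field K] (m : ℕ) where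
  /-- the endomorphism -/
  S : Sigma certG2 K
  /-- the orbits -/
  O : Orbits S
  /-- the field map of the long roots -/
  g : K ≃+* K
  /-- the field map of the short roots -/
  f : K ≃+* K
  no : O.no = orbG2.os.length
  node : S.node = nodePerm symOK_G2
  root : S.root = rootPerm symOK_G2
  gval : ∀ t, g t = t ^ (3 ^ m)
  fval : ∀ t, f t = t ^ (3 * 3 ^ m)
  three : (3 : K) = 0
  phi0 : S.phi n0 = f
  phi1 : S.phi n1 = g
  app : ∀ r < chevG2.nroots, ∀ t : K,
    S.app (xg chevG2 K r t) = xg chevG2 K (isoG2.root.getD r 0) (g t ^ lamR r)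
  orb : ∀ J, O.nd J = toFins chevG2.rank (orbG2.os.getD (Fin.cast no J) []) ∧
    O.wJ J = toFins chevG2.rank (orbG2.ws.getD (Fin.cast no J) [])

theorem three_eq_zero (hK : Fintype.card K = 3 ^ (2 * m + 1)) : (3 : K) = 0 := by
  haveI : CharP K 3 := by
    obtain ⟨p', hp'⟩ := CharP.exists K
    obtain ⟨n, hpp, hn⟩ := FiniteField.card K p'
    rw [hK] at hn
    have h1 : 3 ∣ p' ^ (n : ℕ) := hn ▸ dvd_pow_self 3 (by omega)
    obtain rfl := (Nat.prime_dvd_prime_iff_eq Nat.prime_three hpp).1 (Nat.prime_three.dvd_of_dvd_pow h1)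
    exact hp'
  exact_mod_cast CharP.cast_eq_zero K 3

theorem two_ne_zero' (hK : Fintype.card K = 3 ^ (2 * m + 1)) : (2 : K) ≠ 0 := by
  intro h
  have h3 := three_eq_zero (m := m) hK
  exact one_ne_zero (α := K) (by linear_combination h3 - h)

theorem exists_setup (hK : Fintype.card K = 3 ^ (2 * m + 1)) : Nonempty (Setup K m) := by
  obtain ⟨g, hg⟩ := exists_qAut (a := m) Nat.prime_three hK (by omega)
  obtain ⟨f, hf⟩ := exists_qAut (a := m + 1) Nat.prime_three hK (by omega)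
  have h3 := three_eq_zero (m := m) hK
  have h2 := two_ne_zero' (m := m) hK
  have hf' : ∀ t, f t = t ^ (3 * 3 ^ m) := fun t => by rw [hf, pow_succ']
  have hm : ((isoG2.md : ℕ) : K) = 0 := by
    show ((3 : ℕ) : K) = 0
    exact_mod_cast h3
  have hperf := perfect_G2 (F := K) ⟨2, h2, fun h => one_ne_zero (α := K) (by linear_combination h)⟩
  have hS := (simple_of_conn certG2 conn_G2 (by decide +kernel) hperf).1
  have hinj := subMat_injective_of_simple (hc := certG2) isoOK_G2 hm hS (r := 7) (by decide +kernel)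
    (i := 0) (j := 3) (by decide +kernel) (by decide +kernel) (by decide +kernel) (by
      rw [show ev (1 : ℤ) 1 (sp chevG2 auxG2 7) (isoG2.li[0]'(by decide +kernel))
        (isoG2.li[3]'(by decide +kernel)) = 1 by decide +kernel]
      simp)
  obtain ⟨S, h1, h2', h3', h4⟩ := exists_sigma_roots certG2 isoOK_G2 symOK_G2 hm hinj g
    (fun i => if isoG2.lam.getD i 0 = 3 then f else g) (fun i t => by
      have hl : ∀ j : Fin chevG2.rank, isoG2.lam.getD j 0 = 3 ∨ isoG2.lam.getD j 0 = 1 := by decide +kernel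
      rcases hl i with h | h <;> simp only [h]
      · rw [if_pos trivial, hf', hg, ← pow_mul, mul_comm]
      · simp)
  obtain ⟨O, e, hO⟩ := exists_orbits symOK_G2 orbOK_G2 h1 h2'
  refine ⟨⟨S, O, g, f, e, h1, h2', hg, hf', h3, by rw [h3']; exact if_pos (by decide +kernel),
    by rw [h3']; exact if_neg (by decide +kernel), fun r hr t => ?_, hO⟩⟩
  have h := allB_iff.1 isoOK1_all r hr
  rw [Bool.and_eq_true, Nat.blt_eq] at h
  exact h4 r _ _ hr h.2 h.1 t

variable (T : Setup K m)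

/-- the only orbit -/
def Setup.J0 : Fin T.O.no := ⟨0, by rw [T.no]; decide +kernel⟩

omit [Fintype K] in
theorem Setup.J_eq (J : Fin T.O.no) : J = T.J0 := by
  obtain ⟨J, hJ⟩ := J
  rw [T.no, show orbG2.os.length = 1 from rfl] at hJ
  simp only [Setup.J0, Fin.ext_iff]
  omega

omit [Fintype K] in
theorem Setup.nd0 : T.O.nd T.J0 = [n0, n1] := by rw [(T.orb _).1]; rfl
omit [Fintype K] in
theorem Setup.wJ0 : T.O.wJ T.J0 = [n0, n1, n0, n1, n0, n1] := by rw [(T.orb _).2]; rfl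

omit [Fintype K] in
theorem Setup.node0 : T.S.node n0 = n1 := by rw [T.node]; exact Fin.ext rfl
omit [Fintype K] in
theorem Setup.node1 : T.S.node n1 = n0 := by rw [T.node]; exact Fin.ext rfl

theorem Setup.pow_fg (hK : Fintype.card K = 3 ^ (2 * m + 1)) (t : K) : T.f (T.g t) = t ∧ T.g (T.f t) = t := by
  have e : (3 * 3 ^ m) * 3 ^ m = Fintype.card K := by rw [hK, pow_succ, two_mul m, pow_add]; ring
  constructor
  · rw [T.gval, T.fval, ← pow_mul, mul_comm, e, FiniteField.pow_card]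
  · rw [T.gval, T.fval, ← pow_mul, e, FiniteField.pow_card]

omit [Fintype K] in
theorem Setup.gcube (t : K) : T.g t ^ 3 = T.f t := by
  rw [T.gval, T.fval, ← pow_mul, mul_comm]

/-- the roots of the orbit, with a sign: `a, b, a+b, 2a+b, 3a+b, 3a+2b` -/
def rootG (b : Bool) (i : Fin 6) : ℕ :=
  if b then [7, 6, 8, 9, 10, 11].getD i 0 else [4, 5, 3, 2, 1, 0].getD i 0

theorem rootG_facts : ∀ (b : Bool) (i : Fin 6), rootG b i < chevG2.nroots ∧
    lamR (rootG b i) = [3, 1, 3, 3, 1, 1].getD i 0 ∧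
    isoG2.root.getD (rootG b i) 0 = rootG b (([1, 0, 4, 5, 2, 3] : List (Fin 6)).getD i 0) := by decide +kernel

/-- a root element of the orbit; the negative side carries a sign -/
noncomputable def X (b : Bool) (i : Fin 6) (v : K) : GL chevG2.Idx K :=
  xg chevG2 K (rootG b i) (if b then v else -v)

omit [Fintype K] in
theorem X_add (b : Bool) (i : Fin 6) (s t : K) : X b i s * X b i t = X b i (s + t) := by
  rw [X, X, X, xg_add certG2 (rootG_facts b i).1]
  cases b <;> simp [add_comm]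

omit [Fintype K] in
theorem X_zero (b : Bool) (i : Fin 6) : X b i (0 : K) = 1 := by
  rw [X]
  cases b <;> simp [xg_zero certG2 (rootG_facts _ i).1]

omit [Fintype K] in
theorem Setup.app_short {b : Bool} {i j : Fin 6} (h : lamR (rootG b i) = 3 ∧ isoG2.root.getD (rootG b i) 0 = rootG b j)
    (v : K) : T.S.app (X b i v) = X b j (T.f v) := by
  rw [X, T.app _ (rootG_facts b i).1, h.1, h.2, T.gcube, X]
  cases b <;> simp

omit [Fintype K] in
theorem Setup.app_long {b : Bool} {i j : Fin 6} (h : lamR (rootG b i) = 1 ∧ isoG2.root.getD (rootG b i) 0 = rootG b j)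
    (v : K) : T.S.app (X b i v) = X b j (T.g v) := by
  rw [X, T.app _ (rootG_facts b i).1, h.1, h.2, pow_one, X]
  cases b <;> simp

include T in
omit [Fintype K] in
theorem Setup.commute_of {b : Bool} {i j : Fin 6}
    (h : rootG b j ≠ rootG b i ∧ rootG b j ≠ negI chevG2 (rootG b i) ∧
      ((chevG2.commTerms (rootG b i) (rootG b j)).all fun c => c.2.1 % 3 == 0 && Nat.blt c.1 chevG2.nroots) = true)
    (t u : K) : Commute (X b i t) (X b j u) := by
  obtain ⟨h1, h2, h3⟩ := h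
  have hr := (rootG_facts b i).1
  have hs := (rootG_facts b j).1
  refine Units.ext ?_
  simp only [X, Units.val_mul, coe_xg certG2 hr, coe_xg certG2 hs]
  rw [comm_formula certG2 hr hs h1 h2]
  have e : ∀ t u : K, chevG2.wordMat K (chevG2.commWord K (rootG b i) (rootG b j) t u) = 1 := fun t u => by
    rw [List.all_eq_true] at h3
    simp only [ChevalleyDatum.wordMat, ChevalleyDatum.commWord, List.map_map]
    refine List.prod_eq_one fun x hx => ?_
    obtain ⟨c, hc', rfl⟩ := List.mem_map.1 hx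
    have h4 := h3 c hc'
    rw [Bool.and_eq_true, Nat.blt_eq, beq_iff_eq] at h4
    obtain ⟨k, hk⟩ := Int.dvd_of_emod_eq_zero h4.1
    simp only [Function.comp_apply]
    rw [hk, Int.cast_mul, Int.cast_ofNat, T.three, zero_mul, zero_mul, zero_mul, x_zero certG2 h4.2]
  rw [e, mul_one]

include T in
omit [Fintype K] in
theorem Setup.swap (b : Bool) (t u : K) : X b 1 u * X b 0 t =
    X b 0 t * X b 1 u * X b 2 (t * u) * X b 3 (t ^ 2 * u) * X b 4 (-(t ^ 3 * u)) * X b 5 (-(t ^ 3 * u ^ 2)) := by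
  have h3 := T.three
  have hb := fun i => (rootG_facts b i).1
  have hterms : chevG2.commTerms (rootG b 0) (rootG b 1) = (if b then
      [(8, -1, 1, 1), (9, 1, 2, 1), (10, 1, 3, 1), (11, 1, 3, 2)] else
      [(3, 1, 1, 1), (2, 1, 2, 1), (1, -1, 3, 1), (0, 1, 3, 2)]) := by
    cases b <;> decide +kernel
  refine Units.ext ?_
  simp only [X, Units.val_mul, coe_xg certG2 (hb _)]
  rw [comm_formula certG2 (hb 0) (hb 1) (by cases b <;> decide +kernel) (by cases b <;> decide +kernel)]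
  simp only [ChevalleyDatum.commWord, hterms]
  cases b <;>
    simp [ChevalleyDatum.wordMat, rootG, mul_assoc]
  all_goals ring_nf

include T in
omit [Fintype K] in
theorem Setup.swapCA (b : Bool) (t c : K) : X b 2 c * X b 0 t = X b 0 t * X b 2 c * X b 3 (-(t * c)) := by
  have h3 := T.three
  have hb := fun i => (rootG_facts b i).1
  have hterms : chevG2.commTerms (rootG b 0) (rootG b 2) = (if b then
      [(9, -2, 1, 1), (10, -3, 2, 1), (11, 3, 1, 2)] else
      [(2, 2, 1, 1), (1, -3, 2, 1), (0, 3, 1, 2)]) := by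
    cases b <;> decide +kernel
  refine Units.ext ?_
  simp only [X, Units.val_mul, coe_xg certG2 (hb _)]
  rw [comm_formula certG2 (hb 0) (hb 2) (by cases b <;> decide +kernel) (by cases b <;> decide +kernel)]
  simp only [ChevalleyDatum.commWord, hterms]
  have hz : ∀ r, r < chevG2.nroots → chevG2.x K r (0 : K) = 1 := fun r hr => x_zero certG2 hr
  cases b
  · simp [ChevalleyDatum.wordMat, rootG, mul_assoc, h3, hz 1 (by decide +kernel), hz 0 (by decide +kernel)]
    congr 3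
    linear_combination (-(t * c)) * h3
  · simp [ChevalleyDatum.wordMat, rootG, mul_assoc, h3, hz 10 (by decide +kernel), hz 11 (by decide +kernel)]
    congr 3
    linear_combination (t * c) * h3

include T in
omit [Fintype K] in
theorem Setup.swapEB (b : Bool) (u e : K) : X b 4 e * X b 1 u = X b 1 u * X b 4 e * X b 5 (-(u * e)) := by
  have hb := fun i => (rootG_facts b i).1
  have hterms : chevG2.commTerms (rootG b 1) (rootG b 4) = (if b then
      [(11, 1, 1, 1)] else [(0, -1, 1, 1)]) := by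
    cases b <;> decide +kernel
  refine Units.ext ?_
  simp only [X, Units.val_mul, coe_xg certG2 (hb _)]
  rw [comm_formula certG2 (hb 1) (hb 4) (by cases b <;> decide +kernel) (by cases b <;> decide +kernel)]
  simp only [ChevalleyDatum.commWord, hterms]
  cases b <;>
    simp [ChevalleyDatum.wordMat, rootG, mul_assoc]

/-- the data of the orbit -/
noncomputable def Setup.g2 (hK : Fintype.card K = 3 ^ (2 * m + 1)) (b : Bool) : G2Data T.S where
  Xa := X b 0
  Xb := X b 1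
  Xc := X b 2
  Xd := X b 3
  Xe := X b 4
  Xh := X b 5
  f := T.f
  g := T.g
  three := T.three
  fg t := (T.pow_fg hK t).1
  gf t := (T.pow_fg hK t).2
  gcube := T.gcube
  mem v := ⟨xg_mem_group certG2 (rootG_facts b 0).1 _, xg_mem_group certG2 (rootG_facts b 1).1 _,
    xg_mem_group certG2 (rootG_facts b 2).1 _, xg_mem_group certG2 (rootG_facts b 3).1 _,
    xg_mem_group certG2 (rootG_facts b 4).1 _, xg_mem_group certG2 (rootG_facts b 5).1 _⟩
  addA := X_add b 0
  addB := X_add b 1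
  addC := X_add b 2
  addD := X_add b 3
  addE := X_add b 4
  addH := X_add b 5
  appA := T.app_short ⟨(rootG_facts b 0).2.1, (rootG_facts b 0).2.2⟩
  appB := T.app_long ⟨(rootG_facts b 1).2.1, (rootG_facts b 1).2.2⟩
  appC := T.app_short ⟨(rootG_facts b 2).2.1, (rootG_facts b 2).2.2⟩
  appD := T.app_short ⟨(rootG_facts b 3).2.1, (rootG_facts b 3).2.2⟩
  appE := T.app_long ⟨(rootG_facts b 4).2.1, (rootG_facts b 4).2.2⟩
  appH := T.app_long ⟨(rootG_facts b 5).2.1, (rootG_facts b 5).2.2⟩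
  swap := T.swap b
  swapCA := T.swapCA b
  swapEB := T.swapEB b
  commAD := by cases b <;> exact T.commute_of (by decide +kernel)
  commAE := by cases b <;> exact T.commute_of (by decide +kernel)
  commAH := by cases b <;> exact T.commute_of (by decide +kernel)
  commBC := by cases b <;> exact T.commute_of (by decide +kernel)
  commBD := by cases b <;> exact T.commute_of (by decide +kernel)
  commBH := by cases b <;> exact T.commute_of (by decide +kernel)
  commCD := by cases b <;> exact T.commute_of (by decide +kernel)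
  commCE := by cases b <;> exact T.commute_of (by decide +kernel)
  commCH := by cases b <;> exact T.commute_of (by decide +kernel)
  commDE := by cases b <;> exact T.commute_of (by decide +kernel)
  commDH := by cases b <;> exact T.commute_of (by decide +kernel)
  commEH := by cases b <;> exact T.commute_of (by decide +kernel)

omit [Fintype K] in
theorem word_ok {w : List (ℕ × K)} (hw : w ∈ g2Words K (3 ^ m)) : ∀ p ∈ w, p.1 < chevG2.nroots := by
  obtain ⟨t, u, v, rfl | rfl⟩ := hw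
  · have h := rootG_facts true
    simp only [reeWordU, List.mem_cons, List.not_mem_nil, or_false]
    rintro p (rfl | rfl | rfl | rfl | rfl | rfl)
    exacts [(h 0).1, (h 1).1, (h 2).1, (h 3).1, (h 4).1, (h 5).1]
  · have h := rootG_facts false
    simp only [reeWordV, reeWordU, ChevalleyDatum.negWord, List.map_cons, List.map_nil, List.mem_cons,
      List.not_mem_nil, or_false]
    rintro p (rfl | rfl | rfl | rfl | rfl | rfl)
    exacts [(h 0).1, (h 1).1, (h 2).1, (h 3).1, (h 4).1, (h 5).1]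

theorem Setup.word_eq (hK : Fintype.card K = 3 ^ (2 * m + 1)) (b : Bool) (t u v : K) :
    (T.g2 hK b).word t u v =
      wordProd chevG2 (if b then reeWordU (3 ^ m) t u v else reeWordV (3 ^ m) t u v) := by
  have e1 : T.g t * t + T.g u = t ^ (3 ^ m + 1) + u ^ (3 ^ m) := by rw [T.gval, T.gval, pow_succ]
  have e2 : T.g t ^ 2 * t + T.g v = t ^ (2 * 3 ^ m + 1) + v ^ (3 ^ m) := by
    rw [T.gval, T.gval, ← pow_mul, ← pow_succ, mul_comm 2]
  cases b <;>
  · simp only [G2Data.word, G2Data.W, G2Data.Q, Setup.g2, Bool.false_eq_true, if_false, if_true]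
    rw [e1, e2, T.gval]
    simp only [X, rootG, wordProd, reeWordU, reeWordV, ChevalleyDatum.negWord, g2a, g2b, g2ab, g2aab, g2aaab,
      g2aaabb, List.map_cons, List.map_nil, List.prod_cons, List.prod_nil, mul_one, mul_assoc]
    rfl

theorem Setup.word_mem (hK : Fintype.card K = 3 ^ (2 * m + 1)) (b : Bool) (t u v : K) :
    (T.g2 hK b).word t u v ∈ twistedG2 K (3 ^ m) := by
  rw [T.word_eq hK]
  have hw : (if b then reeWordU (3 ^ m) t u v else reeWordV (3 ^ m) t u v) ∈ g2Words K (3 ^ m) := by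
    cases b
    exacts [⟨t, u, v, Or.inr rfl⟩, ⟨t, u, v, Or.inl rfl⟩]
  exact wordProd_mem_gen (hc := certG2) hw (word_ok hw)

theorem Setup.gen_cases (hK : Fintype.card K = 3 ^ (2 * m + 1)) {w : List (ℕ × K)} (hw : w ∈ g2Words K (3 ^ m)) :
    ∃ b t u v, wordProd chevG2 w = (T.g2 hK b).word t u v := by
  obtain ⟨t, u, v, rfl | rfl⟩ := hw
  · exact ⟨true, t, u, v, by rw [T.word_eq hK]; rfl⟩
  · exact ⟨false, t, u, v, by rw [T.word_eq hK]; rfl⟩

theorem Setup.le_fix (hK : Fintype.card K = 3 ^ (2 * m + 1)) : twistedG2 K (3 ^ m) ≤ T.S.fix := by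
  refine gen_le (hc := certG2) fun w hw => ⟨word_ok hw, ?_⟩
  obtain ⟨b, t, u, v, e⟩ := T.gen_cases hK hw
  rw [e]
  exact G2Data.word_fixed _ t u v

omit [Fintype K] in
theorem X_mem_Up {i : Fin chevG2.rank} {j : Fin 6} (h : rootG true j ≠ chevG2.simple i) (v : K) :
    X true j v ∈ Up chevG2 auxG2 K i := by
  have hp : ∀ j, auxG2.pos (rootG true j) = true := by decide +kernel
  exact xg_mem_UG (rootG_facts true j).1 ⟨hp j, h⟩ (Nat.zero_le _) _

theorem Setup.coeff_of_Up (hK : Fintype.card K = 3 ^ (2 * m + 1)) {α β γ δ ε ζ : K} :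
    ((T.g2 hK true).W α β γ δ ε ζ ∈ Up chevG2 auxG2 K n0 → α = 0) ∧
    ((T.g2 hK true).W α β γ δ ε ζ ∈ Up chevG2 auxG2 K n1 → β = 0) := by
  have hQ : ∀ i : Fin chevG2.rank, (T.g2 hK true).Q γ δ ε ζ ∈ Up chevG2 auxG2 K i := by
    intro i
    have h : ∀ j : Fin 6, 2 ≤ (j : ℕ) → ∀ i : Fin chevG2.rank, rootG true j ≠ chevG2.simple i := by decide +kernel
    exact mul_mem (mul_mem (mul_mem (X_mem_Up (h 2 (by decide) i) _) (X_mem_Up (h 3 (by decide) i) _))
      (X_mem_Up (h 4 (by decide) i) _)) (X_mem_Up (h 5 (by decide) i) _)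
  constructor
  · intro h
    have h1 := mul_mem h (inv_mem (mul_mem (X_mem_Up (i := n0) (j := 1) (by decide +kernel) β) (hQ n0)))
    rw [G2Data.W, mul_assoc ((T.g2 hK true).Xa α)] at h1
    change X true 0 α * (X true 1 β * _) * (X true 1 β * _)⁻¹ ∈ _ at h1
    rw [mul_inv_cancel_right] at h1
    have e : X true 0 α = xg chevG2 K (chevG2.simple n0) α := by
      rw [X, show rootG true 0 = chevG2.simple n0 by decide +kernel]; rfl
    exact mem_Up_root (hc := certG2) (e ▸ h1)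
  · intro h
    have h1 := mul_mem (mul_mem (inv_mem (X_mem_Up (i := n1) (j := 0) (by decide +kernel) α)) h) (inv_mem (hQ n1))
    rw [G2Data.W, mul_assoc ((T.g2 hK true).Xa α)] at h1
    change (X true 0 α)⁻¹ * (X true 0 α * (X true 1 β * _)) * _ ∈ _ at h1
    rw [inv_mul_cancel_left, mul_inv_cancel_right] at h1
    have e : X true 1 β = xg chevG2 K (chevG2.simple n1) β := by
      rw [X, show rootG true 1 = chevG2.simple n1 by decide +kernel]; rfl
    exact mem_Up_root (hc := certG2) (e ▸ h1)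

theorem Setup.W_zero (hK : Fintype.card K = 3 ^ (2 * m + 1)) (b : Bool) :
    (T.g2 hK b).W 0 0 0 0 0 0 = 1 := by
  simp [G2Data.W, G2Data.Q, Setup.g2, X_zero]

theorem Setup.W_inv (hK : Fintype.card K = 3 ^ (2 * m + 1)) (α β γ δ ε ζ : K) :
    (T.g2 hK true).W α β γ δ ε ζ * (T.g2 hK true).W (-α) (-β) (-γ + α * β) (-δ - α ^ 2 * β - α * γ)
      (-ε - α ^ 3 * β) (-ζ + α ^ 3 * β ^ 2 - β * ε) = 1 := by
  rw [G2Data.W_mul, ← T.W_zero hK true]
  have h3 := T.three
  congr 1 <;> first | ring1 | linear_combination (α ^ 3 * β ^ 2) * h3 | linear_combination -(α ^ 3 * β ^ 2) * h3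

theorem Setup.W_inj (hK : Fintype.card K = 3 ^ (2 * m + 1)) (α β γ δ ε ζ α' β' γ' δ' ε' ζ' : K)
    (h : (T.g2 hK true).W α β γ δ ε ζ = (T.g2 hK true).W α' β' γ' δ' ε' ζ') :
    α = α' ∧ β = β' ∧ γ = γ' ∧ δ = δ' ∧ ε = ε' ∧ ζ = ζ' := by
  have key : ∀ a b c d e f : K, (T.g2 hK true).W a b c d e f = 1 →
      a = 0 ∧ b = 0 ∧ c = 0 ∧ d = 0 ∧ e = 0 ∧ f = 0 := by
    intro a b c d e f h1
    have ha := (T.coeff_of_Up hK (α := a) (β := b) (γ := c) (δ := d) (ε := e) (ζ := f)).1 (h1 ▸ one_mem _)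
    have hb := (T.coeff_of_Up hK (α := a) (β := b) (γ := c) (δ := d) (ε := e) (ζ := f)).2 (h1 ▸ one_mem _)
    subst ha hb
    classical
    let s : ℕ → K := fun r => if r = 8 then c else if r = 9 then d else if r = 10 then e else if r = 11 then f else 0
    have hpos : ∀ r, r < 12 → (auxG2.pos r = true ↔ 6 ≤ r) := by decide +kernel
    have e1 : uprod chevG2 (fun r => auxG2.pos r = true) s 0 chevG2.nroots =
        uprod chevG2 (fun r => auxG2.pos r = true) (fun _ => (0 : K)) 0 chevG2.nroots := by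
      show uprod chevG2 _ s 0 12 = uprod chevG2 _ _ 0 12
      simp only [G2Data.W, G2Data.Q, Setup.g2, X_zero, one_mul] at h1
      simp only [X, rootG, if_true] at h1
      simp [uprod, hpos, s, xg_zero certG2 (show 6 < chevG2.nroots by decide +kernel),
        xg_zero certG2 (show 7 < chevG2.nroots by decide +kernel), xg_zero certG2 (show 8 < chevG2.nroots by decide +kernel),
        xg_zero certG2 (show 9 < chevG2.nroots by decide +kernel), xg_zero certG2 (show 10 < chevG2.nroots by decide +kernel),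
        xg_zero certG2 (show 11 < chevG2.nroots by decide +kernel)]
      simpa [mul_assoc] using h1
    have key2 := uprod_injective certG2 (fun r h => h) chevG2.nroots 0 (zero_add _) s (fun _ => 0) e1
    refine ⟨rfl, rfl, ?_, ?_, ?_, ?_⟩
    · simpa [s] using key2 8 (by decide +kernel) (Nat.zero_le _) (by decide +kernel)
    · simpa [s] using key2 9 (by decide +kernel) (Nat.zero_le _) (by decide +kernel)
    · simpa [s] using key2 10 (by decide +kernel) (Nat.zero_le _) (by decide +kernel)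
    · simpa [s] using key2 11 (by decide +kernel) (Nat.zero_le _) (by decide +kernel)
  have hi := T.W_inv hK α' β' γ' δ' ε' ζ'
  rw [← h, G2Data.W_mul] at hi
  obtain ⟨e1, e2, e3, e4, e5, e6⟩ := key _ _ _ _ _ _ hi
  have ea : α = α' := by linear_combination e1
  have eb : β = β' := by linear_combination e2
  subst ea eb
  have ec : γ = γ' := by linear_combination e3
  subst ec
  have ee : ε = ε' := by linear_combination e5
  subst ee
  refine ⟨rfl, rfl, rfl, by linear_combination e4, rfl, ?_⟩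
  linear_combination e6 - (α ^ 3 * β ^ 2) * T.three

theorem negSet_piJ : ∀ s : Fin chevG2.nroots, auxG2.pos s = true →
    ∃ j : Fin 6, rootG true j = (s : ℕ) := by decide +kernel

theorem Setup.w0 : ∀ s : Fin chevG2.nroots, auxG2.pos (T.O.piJ T.J0 s) = ! auxG2.pos s := by
  intro s
  show auxG2.pos ((wp certG2 (T.O.wJ T.J0) s : Fin chevG2.nroots) : ℕ) = _
  rw [T.wJ0, wp_val]
  revert s
  decide +kernel

theorem Setup.exists_W (hK : Fintype.card K = 3 ^ (2 * m + 1)) {u : GL chevG2.Idx K}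
    (hu : u ∈ Uw chevG2 auxG2 K (T.O.piJ T.J0)) : ∃ α β γ δ ε ζ, u = (T.g2 hK true).W α β γ δ ε ζ := by
  induction hu using Subgroup.closure_induction with
  | mem x hx =>
    obtain ⟨r, a, hr, ⟨_, h1, -⟩, -, rfl⟩ := hx
    obtain ⟨j, hj⟩ := negSet_piJ ⟨r, hr⟩ h1
    have e : xg chevG2 K r a = X true j a := by rw [X, hj]; rfl
    rw [e]
    simp only [G2Data.W, G2Data.Q, Setup.g2]
    fin_cases j
    · exact ⟨a, 0, 0, 0, 0, 0, by simp [X_zero]⟩
    · exact ⟨0, a, 0, 0, 0, 0, by simp [X_zero]⟩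
    · exact ⟨0, 0, a, 0, 0, 0, by simp [X_zero]⟩
    · exact ⟨0, 0, 0, a, 0, 0, by simp [X_zero]⟩
    · exact ⟨0, 0, 0, 0, a, 0, by simp [X_zero]⟩
    · exact ⟨0, 0, 0, 0, 0, a, by simp [X_zero]⟩
  | one => exact ⟨0, 0, 0, 0, 0, 0, (T.W_zero hK true).symm⟩
  | mul x y _ _ hx hy =>
    obtain ⟨a, b, c, d, e, f, rfl⟩ := hx
    obtain ⟨a', b', c', d', e', f', rfl⟩ := hy
    exact ⟨_, _, _, _, _, _, G2Data.W_mul _ a b c d e f a' b' c' d' e' f'⟩
  | inv x _ hx =>
    obtain ⟨a, b, c, d, e, f, rfl⟩ := hx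
    exact ⟨_, _, _, _, _, _, inv_eq_of_mul_eq_one_right (T.W_inv hK a b c d e f)⟩

theorem Setup.W_mem_Uw (hK : Fintype.card K = 3 ^ (2 * m + 1)) (α β γ δ ε ζ : K) :
    (T.g2 hK true).W α β γ δ ε ζ ∈ Uw chevG2 auxG2 K (T.O.piJ T.J0) := by
  have hp : ∀ j, auxG2.pos (rootG true j) = true := by decide +kernel
  have key : ∀ j v, X true j v ∈ Uw chevG2 auxG2 K (T.O.piJ T.J0) := fun j v =>
    xg_mem_Uw ⟨rootG true j, (rootG_facts true j).1⟩ (hp j) (by rw [T.w0]; simp [hp j]) v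
  exact mul_mem (mul_mem (key 0 α) (key 1 β)) (mul_mem (mul_mem (mul_mem (key 2 γ) (key 3 δ)) (key 4 ε)) (key 5 ζ))

theorem Setup.fixU_eq (hK : Fintype.card K = 3 ^ (2 * m + 1)) (x : GL chevG2.Idx K) :
    x ∈ fixU T.S (T.O.piJ T.J0) ↔ ∃ t u v, x = (T.g2 hK true).word t u v := by
  constructor
  · rintro ⟨h1, h2⟩
    obtain ⟨α, β, γ, δ, ε, ζ, rfl⟩ := T.exists_W hK h1
    exact ⟨_, _, _, (T.g2 hK true).word_of_fixed (T.W_inj hK) h2⟩
  · rintro ⟨t, u, v, rfl⟩
    exact ⟨T.W_mem_Uw hK _ _ _ _ _ _, G2Data.word_fixed _ t u v⟩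

/-- the first rank one identity -/
theorem id_w : wordIdOK chevG2 auxG2 3
    ([(7, 0), (6, 0), (8, 0), (9, 1), (10, 0), (11, 1)] ++ [(4, -2), (5, -2), (3, 0), (2, -1), (1, -2), (0, -2)] ++
      [(7, 2), (6, 2), (8, 1), (9, 0), (10, 0), (11, 1)])
    (ngWord chevG2 [0, 1, 0, 1, 0, 1]) = true := by decide +kernel

/-- the second rank one identity -/
theorem id_wh : wordIdOK chevG2 auxG2 3
    ([(7, 0), (6, 0), (8, 1), (9, 1), (10, 1), (11, 1)] ++ [(4, -2), (5, -2), (3, -2), (2, 0), (1, -1), (0, -1)] ++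
      [(7, 0), (6, 0), (8, 2), (9, 1), (10, 2), (11, 1)])
    (ngWord chevG2 [0, 1, 0, 1, 0, 1, 0, 0, 1, 1]) = true := by decide +kernel

theorem Setup.id_mem (hK : Fintype.card K = 3 ^ (2 * m + 1)) {L : List (ℕ × ℤ)} {L' : List ℕ}
    (h : wordIdOK chevG2 auxG2 3 L (ngWord chevG2 L') = true) (hL' : ∀ i ∈ L', i < chevG2.rank)
    (hw : ∃ a b c a' b' c' a'' b'' c'' : K, wordProd chevG2 (L.map fun p => (p.1, (p.2 : K))) =
      (T.g2 hK true).word a b c * (T.g2 hK false).word a' b' c' * (T.g2 hK true).word a'' b'' c'') :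
    wg chevG2 K (toFins chevG2.rank L') ∈ twistedG2 K (3 ^ m) := by
  have e := wordProd_eq_of_ok (hc := certG2) (K := K) (p := 3) (by exact_mod_cast T.three) h
  rw [wordProd_ngWord _ hL'] at e
  obtain ⟨a, b, c, a', b', c', a'', b'', c'', hw⟩ := hw
  rw [← e, hw]
  exact mul_mem (mul_mem (T.word_mem hK _ _ _ _) (T.word_mem hK _ _ _ _)) (T.word_mem hK _ _ _ _)

theorem Setup.nJ_eq (hK : Fintype.card K = 3 ^ (2 * m + 1)) :
    wordProd chevG2 (([(7, 0), (6, 0), (8, 0), (9, 1), (10, 0), (11, 1)] ++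
        [(4, -2), (5, -2), (3, 0), (2, -1), (1, -2), (0, -2)] ++
        [(7, 2), (6, 2), (8, 1), (9, 0), (10, 0), (11, 1)] : List (ℕ × ℤ)).map fun p => (p.1, (p.2 : K))) =
      (T.g2 hK true).word 0 0 1 * (T.g2 hK false).word 2 2 2 * (T.g2 hK true).word 2 0 1 := by
  have h3 := T.three
  have h20 : T.g (2 : K) = 2 := map_ofNat T.g 2
  have a1 : (2 : K) * 2 + 2 = 0 := by linear_combination 2 * h3
  have a2 : (2 : K) ^ 2 * 2 + 2 = 1 := by linear_combination 3 * h3
  have a3 : (2 : K) * 2 = 1 := by linear_combination h3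
  have a4 : (2 : K) ^ 2 * 2 + 1 = 0 := by linear_combination 3 * h3
  have a5 : (-2 : K) + -1 = 0 := by linear_combination -h3
  simp [G2Data.word, G2Data.W, G2Data.Q, Setup.g2, X, rootG, wordProd, h20, a2, a3, a4, a5, mul_assoc]

theorem Setup.nJh_eq (hK : Fintype.card K = 3 ^ (2 * m + 1)) :
    wordProd chevG2 (([(7, 0), (6, 0), (8, 1), (9, 1), (10, 1), (11, 1)] ++
        [(4, -2), (5, -2), (3, -2), (2, 0), (1, -1), (0, -1)] ++
        [(7, 0), (6, 0), (8, 2), (9, 1), (10, 2), (11, 1)] : List (ℕ × ℤ)).map fun p => (p.1, (p.2 : K))) =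
      (T.g2 hK true).word 0 1 1 * (T.g2 hK false).word 2 1 1 * (T.g2 hK true).word 0 2 1 := by
  have h3 := T.three
  have h20 : T.g (2 : K) = 2 := map_ofNat T.g 2
  have a1 : (2 : K) * 2 + 1 = 2 := by linear_combination h3
  have a2 : (2 : K) ^ 2 * 2 + 1 = 0 := by linear_combination 3 * h3
  simp [G2Data.word, G2Data.W, G2Data.Q, Setup.g2, X, rootG, wordProd, h20, a1, a2, mul_assoc]

theorem Setup.nJ_mem (hK : Fintype.card K = 3 ^ (2 * m + 1)) : wg chevG2 K (T.O.wJ T.J0) ∈ twistedG2 K (3 ^ m) := by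
  rw [T.wJ0, show ([n0, n1, n0, n1, n0, n1] : List (Fin chevG2.rank)) = toFins chevG2.rank [0, 1, 0, 1, 0, 1] from rfl]
  exact T.id_mem hK id_w (by decide +kernel) ⟨_, _, _, _, _, _, _, _, _, T.nJ_eq hK⟩

include T in
theorem Setup.neg_one_mem (hK : Fintype.card K = 3 ^ (2 * m + 1)) :
    torusFin chevG2 auxG2 K (fun _ => -1) ∈ twistedG2 K (3 ^ m) := by
  have h := T.id_mem hK id_wh (by decide +kernel) ⟨_, _, _, _, _, _, _, _, _, T.nJh_eq hK⟩
  have e : toFins chevG2.rank [0, 1, 0, 1, 0, 1, 0, 0, 1, 1] = T.O.wJ T.J0 ++ [n0, n0, n1, n1] := by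
    rw [T.wJ0]; rfl
  rw [e, wg_append] at h
  have h2 := mul_mem (inv_mem (T.nJ_mem hK)) h
  rw [inv_mul_cancel_left] at h2
  have e2 : (fun _ => -1 : Fin chevG2.rank → Kˣ) = ([n0, n1].map fun i => Pi.mulSingle i (-1 : Kˣ)).prod := by
    funext i
    rcases node_cases i with rfl | rfl <;> simp [n0, n1]
  rw [e2]
  simp only [wg, List.map_cons, List.map_nil, List.prod_cons, List.prod_nil, mul_one, ← mul_assoc] at h2
  rw [map_list_prod]
  simp only [List.map_cons, List.map_nil, List.prod_cons, List.prod_nil, mul_one, torusFin_single]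
  rw [← ng_sq certG2 n0.2, ← ng_sq certG2 n1.2, ← mul_assoc]
  exact h2

theorem Setup.mem_fixT (hK : Fintype.card K = 3 ^ (2 * m + 1)) {c : Fin chevG2.rank → Kˣ} :
    c ∈ T.S.fixT ↔ (c n0 : K) = T.g (c n1 : K) := by
  rw [T.S.mem_fixT_iff]
  constructor
  · intro h
    have a := h n1
    rw [T.node1, T.phi1] at a
    exact a
  · intro a i
    rcases node_cases i with rfl | rfl
    · rw [T.node0, T.phi0, a, (T.pow_fg hK _).1]
    · rw [T.node1, T.phi1, a]

theorem Setup.ker_bot : (torusFin chevG2 auxG2 K).ker = ⊥ := ker_torusFin_eq_bot certG2 tor_G2 (by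
  simp [torG2])

include T in
theorem Setup.obs : ∀ c, T.S.twT c * c⁻¹ ∈ (torusFin chevG2 auxG2 K).ker →
    ∃ z ∈ (torusFin chevG2 auxG2 K).ker, c * z ∈ T.S.fixT :=
  T.S.obs_of_free fun z hz _ => by rwa [Setup.ker_bot, Subgroup.mem_bot] at hz

theorem cA_facts : ∀ k : Fin chevG2.rank,
    [auxG2.cA k 8, auxG2.cA k 9, auxG2.cA k 10, auxG2.cA k 11] =
      [auxG2.cA k 7 + auxG2.cA k 6, 2 * auxG2.cA k 7 + auxG2.cA k 6, 3 * auxG2.cA k 7 + auxG2.cA k 6,
        3 * auxG2.cA k 7 + 2 * auxG2.cA k 6] ∧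
    ∀ j : Fin 6, auxG2.cA k (rootG false j) = -auxG2.cA k (rootG true j) := by decide +kernel

theorem Setup.conj_word (hK : Fintype.card K = 3 ^ (2 * m + 1)) {c : Fin chevG2.rank → Kˣ} (hc' : c ∈ T.S.fixT)
    (b : Bool) (t u v : K) :
    torusFin chevG2 auxG2 K c * (T.g2 hK b).word t u v * (torusFin chevG2 auxG2 K c)⁻¹ =
      (T.g2 hK b).word ((tchar auxG2 c (rootG b 1) : K) * t) ((tchar auxG2 c (rootG b 4) : K) * u)
        ((tchar auxG2 c (rootG b 5) : K) * v) := by
  have hpow : ∀ (r : ℕ) (x y : ℤ), (∀ k : Fin chevG2.rank, auxG2.cA k r = x * auxG2.cA k 7 + y * auxG2.cA k 6) →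
      tchar auxG2 c r = tchar auxG2 c 7 ^ x * tchar auxG2 c 6 ^ y := fun r x y h => by
    simp only [tchar, ← Finset.prod_zpow, ← Finset.prod_mul_distrib]
    exact Finset.prod_congr rfl fun k _ => by rw [h k, zpow_add, ← zpow_mul, ← zpow_mul, mul_comm x, mul_comm y]
  have ha : (tchar auxG2 c 7 : K) = T.g (tchar auxG2 c 6 : K) := by
    have := tchar_twist (S := T.S) hc' n1
    rw [T.node1, T.phi1, show chevG2.simple n0 = 7 by decide +kernel,
      show chevG2.simple n1 = 6 by decide +kernel] at this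
    exact this
  have hk := fun k => (cA_facts k).1
  simp only [List.cons.injEq, and_true] at hk
  have e8 : tchar auxG2 c 8 = tchar auxG2 c 7 * tchar auxG2 c 6 := by
    simpa using hpow 8 1 1 fun k => by rw [(hk k).1]; ring
  have e9 : tchar auxG2 c 9 = tchar auxG2 c 7 ^ 2 * tchar auxG2 c 6 := by
    simpa [zpow_ofNat] using hpow 9 2 1 fun k => by rw [(hk k).2.1]; ring
  have e10 : tchar auxG2 c 10 = tchar auxG2 c 7 ^ 3 * tchar auxG2 c 6 := by
    simpa [zpow_ofNat] using hpow 10 3 1 fun k => by rw [(hk k).2.2.1]; ring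
  have e11 : tchar auxG2 c 11 = tchar auxG2 c 7 ^ 3 * tchar auxG2 c 6 ^ 2 := by
    simpa [zpow_ofNat] using hpow 11 3 2 fun k => (hk k).2.2.2
  have hneg : ∀ j, tchar auxG2 c (rootG false j) = (tchar auxG2 c (rootG true j))⁻¹ := fun j => by
    simp only [tchar, ← Finset.prod_inv_distrib]
    exact Finset.prod_congr rfl fun k _ => by rw [(cA_facts k).2 j, zpow_neg]
  have hX : ∀ j w, torusFin chevG2 auxG2 K c * X b j w * (torusFin chevG2 auxG2 K c)⁻¹ =
      X b j ((tchar auxG2 c (rootG b j) : K) * w) := fun j w => by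
    rw [X, torusFin_conj (hc := certG2) c (rootG_facts b j).1, X]
    cases b <;> simp
  refine (T.g2 hK b).word_conj _ (tchar auxG2 c (rootG b 0) : K) (tchar auxG2 c (rootG b 1) : K)
    (tchar auxG2 c (rootG b 2) : K) (tchar auxG2 c (rootG b 3) : K) (tchar auxG2 c (rootG b 4) : K)
    (tchar auxG2 c (rootG b 5) : K) (hX 0) (hX 1) (hX 2) (hX 3) (hX 4) (hX 5) ?_ ?_ ?_ ?_ ?_ t u v
  all_goals cases b <;> (try simp only [hneg, Units.val_inv_eq_inv_val])
  all_goals simp only [rootG, Setup.g2, if_true, List.getD_cons_zero, Fin.val_zero, Fin.val_one, Fin.val_two,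
    Fin.isValue, List.getD_cons_succ]
  · rw [map_inv₀]; exact congrArg _ ha
  · exact ha
  · show _ = _; rw [show tchar auxG2 c 8 = _ from e8, Units.val_mul, mul_inv]
  · show _ = _; rw [show tchar auxG2 c 8 = _ from e8, Units.val_mul]
  · show ((tchar auxG2 c 9 : Kˣ) : K)⁻¹ = _
    rw [e9, Units.val_mul, Units.val_pow_eq_pow_val, mul_inv, inv_pow]
  · show ((tchar auxG2 c 9 : Kˣ) : K) = _
    rw [e9, Units.val_mul, Units.val_pow_eq_pow_val]
  · show ((tchar auxG2 c 10 : Kˣ) : K)⁻¹ = _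
    rw [e10, Units.val_mul, Units.val_pow_eq_pow_val, mul_inv, inv_pow]
  · show ((tchar auxG2 c 10 : Kˣ) : K) = _
    rw [e10, Units.val_mul, Units.val_pow_eq_pow_val]
  · show ((tchar auxG2 c 11 : Kˣ) : K)⁻¹ = _
    rw [e11, Units.val_mul, Units.val_pow_eq_pow_val, Units.val_pow_eq_pow_val, mul_inv, inv_pow, inv_pow]
  · show ((tchar auxG2 c 11 : Kˣ) : K) = _
    rw [e11, Units.val_mul, Units.val_pow_eq_pow_val, Units.val_pow_eq_pow_val]

theorem inv_w0 : ∀ s : Fin chevG2.nroots, ∀ k : Fin chevG2.rank,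
    auxG2.cA k (wAct auxG2 [0, 1, 0, 1, 0, 1] s) = -auxG2.cA k s := by decide +kernel

theorem Setup.sq_torus_mem (hK : Fintype.card K = 3 ^ (2 * m + 1)) {d : Fin chevG2.rank → Kˣ} (hd : d ∈ T.S.fixT) :
    torusFin chevG2 auxG2 K (d * d) ∈ twistedG2 K (3 ^ m) := by
  set h := torusFin chevG2 auxG2 K d with hh
  set n := wg chevG2 K (T.O.wJ T.J0) with hn
  have e := wordProd_eq_of_ok (hc := certG2) (K := K) (p := 3) (by exact_mod_cast T.three) id_w
  rw [wordProd_ngWord _ (by decide +kernel), T.nJ_eq hK] at e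
  have hn' : n = (T.g2 hK true).word 0 0 1 * (T.g2 hK false).word 2 2 2 * (T.g2 hK true).word 2 0 1 := by
    rw [hn, T.wJ0, e]; rfl
  have hn2 : h * n * h⁻¹ ∈ twistedG2 K (3 ^ m) := by
    have e' : h * n * h⁻¹ = (h * (T.g2 hK true).word 0 0 1 * h⁻¹) * (h * (T.g2 hK false).word 2 2 2 * h⁻¹) *
        (h * (T.g2 hK true).word 2 0 1 * h⁻¹) := by rw [hn']; group
    rw [e', T.conj_word hK hd, T.conj_word hK hd, T.conj_word hK hd]
    exact mul_mem (mul_mem (T.word_mem hK _ _ _ _) (T.word_mem hK _ _ _ _)) (T.word_mem hK _ _ _ _)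
  have hconj : n * h * n⁻¹ = h⁻¹ := by
    rw [hn, hh, T.wJ0]
    refine wg_conj_torus (hc := certG2) _ d (Equiv.ext fun s => Fin.ext ?_) fun k s => Or.inr ?_
    · rw [← wp_append, wp_val]
      revert s
      decide +kernel
    · rw [wp_val]
      exact inv_w0 s k
  have e2 : h * h = h * n * h⁻¹ * n⁻¹ := by
    calc h * h = h * (n * h * n⁻¹)⁻¹ := by rw [hconj, inv_inv]
      _ = h * n * h⁻¹ * n⁻¹ := by group
  rw [map_mul, e2]
  exact mul_mem hn2 (inv_mem (T.nJ_mem hK))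

theorem Setup.H_le (hK : Fintype.card K = 3 ^ (2 * m + 1)) :
    chevG2.diagonalSubgroup K ⊓ T.S.fix ≤ twistedG2 K (3 ^ m) := by
  rw [T.S.H_fix_eq T.obs]
  rintro g ⟨c, hc', rfl⟩
  classical
  obtain ⟨n, hn, hodd⟩ : ∃ n, Fintype.card Kˣ = 2 * n ∧ n % 2 = 1 := by
    refine ⟨(3 ^ (2 * m + 1) - 1) / 2, ?_, ?_⟩
    · rw [← Nat.card_eq_fintype_card, Nat.card_units, Nat.card_eq_fintype_card, hK]
      have : 3 ^ (2 * m + 1) % 2 = 1 := by simp [Nat.pow_mod]
      omega
    · have h4 : 3 ^ (2 * m + 1) % 4 = 3 := by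
        rw [pow_succ, pow_mul, Nat.mul_mod, Nat.pow_mod]; norm_num
      omega
  have hroot : ∀ x : Kˣ, x ^ n = 1 → x ^ ((n + 1) / 2) * x ^ ((n + 1) / 2) = x := fun x hx => by
    rw [← pow_add, show (n + 1) / 2 + (n + 1) / 2 = n + 1 by omega, pow_succ, hx, one_mul]
  have hsign : c n1 ^ n = 1 ∨ (-c n1) ^ n = 1 := by
    have h2 : ((c n1 ^ n : Kˣ) : K) ^ 2 = 1 := by
      rw [← Units.val_pow_eq_pow_val, ← pow_mul, mul_comm, ← hn, pow_card_eq_one, Units.val_one]
    rcases sq_eq_one_iff.1 h2 with h | h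
    · exact Or.inl (Units.ext (by simpa using h))
    · refine Or.inr (Units.ext ?_)
      rw [Units.val_pow_eq_pow_val, Units.val_neg, neg_pow, Odd.neg_one_pow ⟨n / 2, by omega⟩,
        ← Units.val_pow_eq_pow_val, h, Units.val_one]
      ring
  have key : ∀ e ∈ T.S.fixT, e n1 ^ n = 1 → torusFin chevG2 auxG2 K e ∈ twistedG2 K (3 ^ m) := by
    intro e he h1
    have h0 : e n0 ^ n = 1 := by
      refine Units.ext ?_
      rw [Units.val_pow_eq_pow_val, (T.mem_fixT hK).1 he, ← map_pow, ← Units.val_pow_eq_pow_val, h1, Units.val_one,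
        map_one]
    have : e = e ^ ((n + 1) / 2) * e ^ ((n + 1) / 2) := by
      funext i
      rcases node_cases i with rfl | rfl
      · exact (hroot _ h0).symm
      · exact (hroot _ h1).symm
    rw [this]
    exact T.sq_torus_mem hK (pow_mem he _)
  rcases hsign with h | h
  · exact key c hc' h
  · have hneg : (fun _ => -1 : Fin chevG2.rank → Kˣ) ∈ T.S.fixT := (T.mem_fixT hK).2 (by simp)
    have e : c = (fun _ => -1 : Fin chevG2.rank → Kˣ) * ((fun _ => -1 : Fin chevG2.rank → Kˣ) * c) := by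
      funext i; simp
    rw [e, map_mul]
    exact mul_mem (T.neg_one_mem hK) (key _ (mul_mem hneg hc') (by simpa using h))

/-- the group with its data -/
noncomputable def Setup.full (hK : Fintype.card K = 3 ^ (2 * m + 1)) : Full T.O where
  G1 := twistedG2 K (3 ^ m)
  le_fix := T.le_fix hK
  nJ J := wg chevG2 K (T.O.wJ J)
  nJ_mem J := by rw [T.J_eq J]; exact T.nJ_mem hK
  nJ_mon J := wg_mem_N certG2 _
  nJ_acts J := acts_wg certG2 _
  UJ_le J := by
    rw [T.J_eq J]
    intro x hx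
    obtain ⟨t, u, v, rfl⟩ := (T.fixU_eq hK x).1 hx
    exact T.word_mem hK _ t u v
  H_le := T.H_le hK
  piJ_inj J J' _ := (T.J_eq J).trans (T.J_eq J').symm
  nd_ne J := by rw [T.J_eq J, T.nd0]; simp
  faith J i hi := by
    rw [T.J_eq J] at hi ⊢
    have hfix := (T.fixU_eq hK _).2 ⟨1, 0, 0, rfl⟩
    obtain ⟨v, hv, t, e⟩ := mem_U_split certG2 i.2 (Uw_le_U certG2 hfix.1)
    refine ⟨v, hv, t, ?_, e ▸ hfix⟩
    rintro rfl
    rw [xg_zero certG2 (simple_lt certG2 i.2), mul_one] at e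
    have hup : (T.g2 hK true).word (1 : K) 0 0 ∈ Up chevG2 auxG2 K i := e ▸ hv
    rcases node_cases i with rfl | rfl
    · exact one_ne_zero (α := K) ((map_one T.g).symm.trans ((T.coeff_of_Up hK).1 hup))
    · exact one_ne_zero (α := K) ((T.coeff_of_Up hK).2 hup)

theorem Setup.len0 : len chevG2 auxG2 (T.O.piJ T.J0) = 6 := by
  show len chevG2 auxG2 (wp certG2 (T.O.wJ T.J0)) = _
  rw [T.wJ0, show ([n0, n1, n0, n1, n0, n1] : List (Fin chevG2.rank)) = toFins chevG2.rank [0, 1, 0, 1, 0, 1] from rfl]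
  exact len_word (hc := certG2) (by decide +kernel) (by decide +kernel)

theorem Setup.card_fixU_J0 (hK : Fintype.card K = 3 ^ (2 * m + 1)) :
    Nat.card (fixU T.S (T.O.piJ T.J0)) = (3 ^ (2 * m + 1)) ^ 3 := by
  have e : Nat.card (fixU T.S (T.O.piJ T.J0)) = Nat.card (K × K × K) := by
    refine (Nat.card_congr (Equiv.ofBijective
      (fun p : K × K × K => (⟨(T.g2 hK true).word p.1 p.2.1 p.2.2, (T.fixU_eq hK _).2 ⟨_, _, _, rfl⟩⟩ :
        fixU T.S (T.O.piJ T.J0))) ⟨?_, ?_⟩)).symm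
    · rintro ⟨t, u, v⟩ ⟨t', u', v'⟩ e
      obtain ⟨-, e2, -, -, e5, e6⟩ := T.W_inj hK _ _ _ _ _ _ _ _ _ _ _ _ (congrArg Subtype.val e)
      dsimp only at e2 e5 e6
      rw [e2, e5, e6]
    · rintro ⟨x, hx⟩
      obtain ⟨t, u, v, rfl⟩ := (T.fixU_eq hK x).1 hx
      exact ⟨(t, u, v), rfl⟩
  rw [e, Nat.card_prod, Nat.card_prod, Nat.card_eq_fintype_card, hK]
  ring

theorem Setup.card_UJ (hK : Fintype.card K = 3 ^ (2 * m + 1)) (J : Fin T.O.no) :
    Nat.card (fixU T.S (T.O.piJ J)) ^ 2 = (3 ^ (2 * m + 1)) ^ len chevG2 auxG2 (T.O.piJ J) := by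
  rw [T.J_eq J, T.card_fixU_J0 hK, T.len0, ← pow_mul]

theorem Setup.U_eq (hK : Fintype.card K = 3 ^ (2 * m + 1)) :
    chevG2.posUnipotent K ⊓ twistedG2 K (3 ^ m) = fixU T.S (T.O.piJ T.J0) := by
  rw [fixU, Uw_w0 T.w0 certG2, (T.full hK).toParts.fix_eq]
  rfl

theorem U_param (hK : Fintype.card K = 3 ^ (2 * m + 1)) :
    (∀ g : GL chevG2.Idx K, g ∈ chevG2.posUnipotent K ⊓ twistedG2 K (3 ^ m) ↔
      ∃ t u v : K, (g : Matrix chevG2.Idx chevG2.Idx K) = chevG2.wordMat K (reeWordU (3 ^ m) t u v)) ∧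
    Nat.card ↥(chevG2.posUnipotent K ⊓ twistedG2 K (3 ^ m)) = (3 ^ (2 * m + 1)) ^ 3 := by
  obtain ⟨T⟩ := exists_setup hK
  rw [T.U_eq hK]
  refine ⟨fun g => ?_, T.card_fixU_J0 hK⟩
  rw [T.fixU_eq hK]
  have hw : ∀ t u v : K, reeWordU (3 ^ m) t u v ∈ g2Words K (3 ^ m) := fun t u v => ⟨t, u, v, Or.inl rfl⟩
  have e : ∀ t u v : K, (((T.g2 hK true).word t u v : GL chevG2.Idx K) : Matrix chevG2.Idx chevG2.Idx K) =
      chevG2.wordMat K (reeWordU (3 ^ m) t u v) := fun t u v => by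
    rw [T.word_eq hK]; exact coe_wordProd (hc := certG2) (word_ok (hw t u v))
  constructor
  · rintro ⟨t, u, v, rfl⟩; exact ⟨t, u, v, e t u v⟩
  · rintro ⟨t, u, v, h⟩; exact ⟨t, u, v, Units.ext (h.trans (e t u v).symm)⟩

theorem card_H (hK : Fintype.card K = 3 ^ (2 * m + 1)) :
    Nat.card ↥(chevG2.diagonalSubgroup K ⊓ twistedG2 K (3 ^ m)) = 3 ^ (2 * m + 1) - 1 := by
  obtain ⟨T⟩ := exists_setup hK
  have h := T.S.card_H_fix T.obs
  rw [Setup.ker_bot, bot_inf_eq, Subgroup.card_bot, mul_one] at h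
  rw [show twistedG2 K (3 ^ m) = (T.full hK).toParts.G1 from rfl, ← (T.full hK).toParts.fix_eq, h]
  have e : Nat.card ↥T.S.fixT = Nat.card Kˣ := Nat.card_congr
    { toFun := fun c => c.1 n1
      invFun := fun x => ⟨fun i => if i = n1 then x else Units.map T.g.toRingHom.toMonoidHom x,
        (T.mem_fixT hK).2 (by simp [n0, n1])⟩
      left_inv := fun c => by
        have a := (T.mem_fixT hK).1 c.2
        refine Subtype.ext (funext fun i => Units.ext ?_)
        rcases node_cases i with rfl | rfl <;> simp [n0, n1]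
        exact a.symm
      right_inv := fun x => by simp }
  rw [e, Nat.card_units, Nat.card_eq_fintype_card, hK]

theorem card_group (hK : Fintype.card K = 3 ^ (2 * m + 1)) :
    Nat.card ↥(twistedG2 K (3 ^ m)) =
      (3 ^ (2 * m + 1)) ^ 3 * (3 ^ (2 * m + 1) - 1) * ((3 ^ (2 * m + 1)) ^ 3 + 1) := by
  obtain ⟨T⟩ := exists_setup hK
  set P := (T.full hK).toParts
  have hG : twistedG2 K (3 ^ m) = P.G1 := rfl
  have hU := (U_param hK).2
  have hH := card_H hK
  rw [hG, ← P.fix_eq] at hU hH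
  set q := 3 ^ (2 * m + 1) with hq
  have hdiv : ∀ π ∈ T.S.W1, 2 ∣ len chevG2 auxG2 π := by
    refine T.O.induction_W1 (P := fun π => 2 ∣ len chevG2 auxG2 π) (by simp) ?_
    intro π hπ J hJ _ ih
    rw [T.O.len_split (T.S.mem_W1.1 hπ).1 hJ, T.J_eq J, T.len0]
    exact Nat.dvd_add (T.J_eq J ▸ ih) (by decide)
  have e : ∑ π ∈ T.S.W1fin, Nat.card ↥(fixU T.S π) = 1 + q ^ 3 := by
    rw [Finset.sum_congr rfl fun π hπ =>
      show Nat.card ↥(fixU T.S π) = q ^ (len chevG2 auxG2 π / 2) by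
        refine Nat.pow_left_injective two_ne_zero ?_
        show Nat.card ↥(fixU T.S π) ^ 2 = (q ^ (len chevG2 auxG2 π / 2)) ^ 2
        rw [P.card_fixU 2 q (T.card_UJ hK) (T.S.mem_W1fin.1 hπ), ← pow_mul (a := q),
          Nat.div_mul_cancel (hdiv π (T.S.mem_W1fin.1 hπ))],
      twPoin_prod T.O T.no T.orb chainOK_G2 q]
    simp [chainG2, orbG2, expand]
  rw [hG, P.card_fix, card_fixB, hU, hH, e]
  ring

theorem exists_bnPair (hK : Fintype.card K = 3 ^ (2 * m + 1)) :
    ∃ P : Cfsg.BNPair ↥(twistedG2 K (3 ^ m)),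
      P.B = (chevG2.borelSubgroup K ⊓ twistedG2 K (3 ^ m)).subgroupOf (twistedG2 K (3 ^ m)) ∧
      P.N = (chevG2.monomialSubgroup K ⊓ twistedG2 K (3 ^ m)).subgroupOf (twistedG2 K (3 ^ m)) := by
  obtain ⟨T⟩ := exists_setup hK
  exact (T.full hK).exists_bnPair

theorem normalCore (hK : Fintype.card K = 3 ^ (2 * m + 1)) :
    ((chevG2.borelSubgroup K ⊓ twistedG2 K (3 ^ m)).subgroupOf (twistedG2 K (3 ^ m))).normalCore = ⊥ := by
  obtain ⟨T⟩ := exists_setup hK
  exact (T.full hK).normalCore_eq_bot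

theorem weyl_hom (hK : Fintype.card K = 3 ^ (2 * m + 1)) :
    ∃ φ : ↥(chevG2.monomialSubgroup K ⊓ twistedG2 K (3 ^ m)) →* Multiplicative (ZMod 2), Function.Surjective φ ∧
      φ.ker = (chevG2.diagonalSubgroup K ⊓ twistedG2 K (3 ^ m)).subgroupOf
        (chevG2.monomialSubgroup K ⊓ twistedG2 K (3 ^ m)) := by
  obtain ⟨T⟩ := exists_setup hK
  obtain ⟨φ, h1, h2⟩ := (T.full hK).exists_weyl_hom (M := chevG2.monomialSubgroup K ⊓ twistedG2 K (3 ^ m)) rfl
  haveI : Fact (Nat.Prime 2) := ⟨Nat.prime_two⟩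
  have hcard : Nat.card ↥T.S.W1 = 2 := by
    rw [W1fin_card T.O T.no T.orb chainOK_G2]
    rfl
  let e : ↥T.S.W1 ≃* Multiplicative (ZMod 2) := mulEquivOfPrimeCardEq hcard (by simp)
  refine ⟨e.toMonoidHom.comp φ, e.surjective.comp h1, ?_⟩
  rw [show (e.toMonoidHom.comp φ).ker = φ.ker by ext; simp, h2]
  rfl

theorem perfect (hK : Fintype.card K = 3 ^ (2 * m + 1)) (hm : 1 ≤ m) :
    commutator ↥(twistedG2 K (3 ^ m)) = ⊤ := by
  obtain ⟨T⟩ := exists_setup hK
  let P := (T.full hK).toParts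
  refine perfect_of_gens ?_
  obtain ⟨u, hu⟩ := IsCyclic.exists_ofOrder_eq_natCard (α := Kˣ)
  have hord : orderOf u = 3 * (3 ^ m * 3 ^ m) - 1 := by
    rw [hu, Nat.card_units, Nat.card_eq_fintype_card, hK, pow_succ, two_mul m, pow_add]
    congr 1; ring
  have h3m : 3 ≤ 3 ^ m := by
    calc 3 = 3 ^ 1 := by norm_num
      _ ≤ 3 ^ m := Nat.pow_le_pow_right (by norm_num) hm
  have h9 : 3 ^ m * 3 ≤ 3 ^ m * 3 ^ m := Nat.mul_le_mul_left _ h3m
  let c : Fin chevG2.rank → Kˣ := fun i => if i = n1 then u else Units.map T.g.toRingHom.toMonoidHom u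
  have hc : c ∈ T.S.fixT := (T.mem_fixT hK).2 (by simp [c, n0, n1])
  have hcm : torusFin chevG2 auxG2 K c ∈ P.G1 := P.H_le (by
    rw [T.S.H_fix_eq T.obs]
    exact ⟨c, hc, rfl⟩)
  have hv : (tchar auxG2 c 6 : K) = (u : K) ^ 2 / T.f (u : K) ∧ (tchar auxG2 c 10 : K) = T.f (u : K) / (u : K) ∧
      (tchar auxG2 c 11 : K) = u := by
    have e : ∀ r, tchar auxG2 c r = c n0 ^ auxG2.cA n0 r * c n1 ^ auxG2.cA n1 r := fun r =>
      Fin.prod_univ_two fun k : Fin 2 => c k ^ auxG2.cA k r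
    have t : [auxG2.cA n0 6, auxG2.cA n1 6, auxG2.cA n0 10, auxG2.cA n1 10, auxG2.cA n0 11, auxG2.cA n1 11] =
        [-3, 2, 3, -1, 0, 1] := by decide +kernel
    simp only [List.cons.injEq, and_true] at t
    obtain ⟨t1, t2, t3, t4, t5, t6⟩ := t
    refine ⟨?_, ?_, ?_⟩
    · rw [e, t1, t2, ← T.gcube]; simp [c, n0, n1, div_eq_mul_inv, mul_comm]
    · rw [e, t3, t4, ← T.gcube]; simp [c, n0, n1, div_eq_mul_inv]
    · rw [e, t5, t6]; simp [c, n0, n1]
  have hne : (tchar auxG2 c 6 : K) ≠ 1 ∧ (tchar auxG2 c 10 : K) ≠ 1 ∧ (tchar auxG2 c 11 : K) ≠ 1 := by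
    rw [hv.1, hv.2.1, hv.2.2, T.fval]
    refine ⟨fun h => ?_, fun h => ?_, fun h => ?_⟩
    · rw [div_eq_one_iff_eq (pow_ne_zero _ (Units.ne_zero u))] at h
      have h' : u ^ 2 = u ^ (3 * 3 ^ m) := Units.ext (by push_cast; exact h)
      have := (Nat.modEq_iff_dvd' (by omega)).1 (pow_eq_pow_iff_modEq.1 h')
      rw [hord] at this
      have h6 := Nat.le_of_dvd (by omega) this
      generalize 3 ^ m * 3 ^ m = B at *
      omega
    · rw [div_eq_one_iff_eq (Units.ne_zero u)] at h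
      have h' : u ^ 1 = u ^ (3 * 3 ^ m) := Units.ext (by push_cast; rw [pow_one]; exact h.symm)
      have := (Nat.modEq_iff_dvd' (by omega)).1 (pow_eq_pow_iff_modEq.1 h')
      rw [hord] at this
      have h6 := Nat.le_of_dvd (by omega) this
      generalize 3 ^ m * 3 ^ m = B at *
      omega
    · have h' : u = 1 := Units.ext h
      rw [h', orderOf_one] at hord
      generalize 3 ^ m * 3 ^ m = B at *
      omega
  have hinj := T.W_inj hK
  set G := T.g2 hK true with hG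
  have hw0 : G.word 0 0 0 = 1 := by
    rw [G2Data.word, map_zero, mul_zero, zero_pow two_ne_zero, zero_mul, add_zero]
    exact T.W_zero hK true
  have hcomm : ∀ t u v : K, G.word ((tchar auxG2 c 6 : K) * t) ((tchar auxG2 c 10 : K) * u)
      ((tchar auxG2 c 11 : K) * v) * (G.word t u v)⁻¹ ∈ ⁅P.G1, P.G1⁆ := fun t u v => by
    have h := Subgroup.commutator_mem_commutator hcm (show G.word t u v ∈ P.G1 from T.word_mem hK true t u v)
    rw [commutatorElement_def, T.conj_word hK hc true] at h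
    exact h
  have hinv : ∀ t u v : K, (G.word t u v)⁻¹ =
      G.word (-t) (-u - G.f t * t) (-v - G.f t * t ^ 2 - t * (u + G.f t * t)) := fun t u v => by
    refine inv_eq_of_mul_eq_one_right ?_
    rw [G.word_mul hinj, ← hw0]
    congr 1 <;> (try simp only [map_neg]) <;> ring
  have hv0 : ∀ v : K, G.word 0 0 v ∈ ⁅P.G1, P.G1⁆ := fun v => by
    have h := hcomm 0 0 (v / ((tchar auxG2 c 11 : K) - 1))
    rw [hinv, G.word_mul hinj] at h
    convert h using 2
    · simp
    · simp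
    · simp only [map_zero, mul_zero, neg_zero, zero_mul, sub_zero, add_zero]
      field_simp [sub_ne_zero.2 hne.2.2]
      ring
  have hu0 : ∀ u v : K, G.word 0 u v ∈ ⁅P.G1, P.G1⁆ := fun u v => by
    have h := hcomm 0 (u / ((tchar auxG2 c 10 : K) - 1)) 0
    rw [hinv, G.word_mul hinj] at h
    have h2 := mul_mem h (hv0 v)
    rw [G.word_mul hinj] at h2
    convert h2 using 2
    · simp
    · simp only [map_zero, mul_zero, neg_zero, zero_mul, sub_zero, add_zero, zero_add]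
      field_simp [sub_ne_zero.2 hne.2.1]
      ring
    · simp
  have hB : ∀ t u v : K, G.word t u v ∈ ⁅P.G1, P.G1⁆ := fun t u v => by
    have h := hcomm (t / ((tchar auxG2 c 6 : K) - 1)) 0 0
    rw [hinv, G.word_mul hinj] at h
    have et : (tchar auxG2 c 6 : K) * (t / ((tchar auxG2 c 6 : K) - 1)) + -(t / ((tchar auxG2 c 6 : K) - 1)) = t := by
      field_simp [sub_ne_zero.2 hne.1]
      ring
    rw [et] at h
    obtain ⟨U, V, hUV⟩ : ∃ U V, G.word t U V ∈ ⁅P.G1, P.G1⁆ := ⟨_, _, h⟩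
    have h2 := mul_mem hUV (hu0 (u - U) (v - V))
    rw [G.word_mul hinj] at h2
    convert h2 using 2
    · simp
    · simp
    · simp
  refine gen_le (hc := certG2) fun w hw => ⟨word_ok hw, ?_⟩
  obtain ⟨b, t, u, v, e⟩ := T.gen_cases hK hw
  rw [e]
  cases b
  · refine mem_comm_of_conj (P.nJ_mem T.J0) ?_
    have hx : P.nJ T.J0 * (T.g2 hK false).word t u v * (P.nJ T.J0)⁻¹ ∈ fixU T.S (T.O.piJ T.J0) := by
      refine ⟨?_, P.le_fix (mul_mem (mul_mem (P.nJ_mem _) (T.word_mem hK false t u v)) (inv_mem (P.nJ_mem _)))⟩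
      rw [T.word_eq hK]
      refine P.conj_word_mem ((T.full hK).sq_piJ _) ?_
      rw [T.wJ0]
      simp only [reeWordV, reeWordU, ChevalleyDatum.negWord, Bool.false_eq_true, if_false, List.map_cons,
        List.map_nil, List.mem_cons, List.not_mem_nil, or_false]
      rintro p (rfl | rfl | rfl | rfl | rfl | rfl) <;> dsimp only <;> decide +kernel
    obtain ⟨t', u', v', e'⟩ := (T.fixU_eq hK _).1 hx
    rw [e']
    exact hB t' u' v'
  · exact hB t u v

theorem simple (hm : 1 ≤ m) (hK : Fintype.card K = 3 ^ (2 * m + 1)) :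
    IsSimpleGroup ↥(twistedG2 K (3 ^ m)) ∧ ¬ IsMulCommutative ↥(twistedG2 K (3 ^ m)) := by
  obtain ⟨T⟩ := exists_setup hK
  exact (T.full hK).isSimple (borel_isSolvable certG2 K) T.J0 (fun J => J)
    (fun J hJ => absurd (T.J_eq J) hJ) (perfect hK hm)

end Cfsg.Lib.Tw.G2
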